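import Cfsg.Agent.Lib.PSL2Binary.Dihedral

/-!
Four-groups and dihedral groups of order eight.
-/

set_option autoImplicit false
set_option linter.unusedSectionVars false
set_option linter.unusedSimpArgs false
set_option linter.style.haveILetI false

namespace Cfsg.Agent.PSL2Binary

open Matrix PStable Cfsg.Agent.Dickson Cfsg.Agent.SzBinary

variable {F : Type*} [Field F] [Finite F]

local notation "SL2" => Matrix.SpecialLinearGroup (Fin 2) F
local notation "M2" => Matrix (Fin 2) (Fin 2) F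
local notation "P" => Matrix.ProjectiveSpecialLinearGroup (Fin 2) F
local notation "prH" => PSL2Inv.pr (F := F)
local notation "tr" X => Matrix.trace ((X : SL2) : M2)
local notation "cz" z => Subgroup.centralizer ({z} : Set P)

theorem neg_isSc : IsSc (SL2Inv.negOne : SL2) := pr_eq_one.1 PSL2Inv.pr_negOne

theorem sign_of_commute {A C : SL2} (h : prH C * prH A = prH A * prH C) :
    C * A = A * C ∨ C * A = SL2Inv.negOne * (A * C) := by
  rw [← map_mul, ← map_mul] at h
  exact PSL2Inv.pr_eq_iff.1 h.symm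

/-- The centralizer of a four-group is the four-group. -/
theorem four_cent (h2 : (2 : F) ≠ 0) {a b c : P} (ha : a * a = 1) (ha1 : a ≠ 1) (hb : b * b = 1) (hb1 : b ≠ 1)
    (hne : a ≠ b) (hab : a * b = b * a) (hca : c * a = a * c) (hcb : c * b = b * c) :
    c = 1 ∨ c = a ∨ c = b ∨ c = a * b := by
  obtain ⟨A, hA0, rfl⟩ := PSL2Inv.exists_lift h2 ha ha1
  obtain ⟨B, hB0, rfl⟩ := PSL2Inv.exists_lift h2 hb hb1
  obtain ⟨C, rfl⟩ := PSL2Inv.pr_surjective c
  have h4 : (4 : F) ≠ 0 := fun h => h2 (pow_eq_zero_iff two_ne_zero |>.1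
    (show (2 : F) ^ 2 = 0 by rw [← h]; norm_num))
  have hA4 : (tr A) ^ 2 ≠ 4 := by rw [hA0]; simpa using h4.symm
  have hA := not_isSc_of_trace hA4
  have hz := neg_isSc (F := F)
  have hAB : A * B ≠ B * A := fun h => by
    rcases commute_eq_or_inv' hA h (hB0.trans hA0.symm) hA4 with e | e
    · exact hne (by rw [e])
    · exact hne (by rw [e, map_inv, eq_inv_iff_mul_eq_one, PSL2Inv.pr_mul_self hA0])
  have hBA' : B * A = SL2Inv.negOne * (A * B) := (sign_of_commute hab.symm).resolve_left fun h => hAB h.symm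
  have flip : ∀ (U V D : SL2), U * V = SL2Inv.negOne * (V * U) → D * V = SL2Inv.negOne * (V * D) →
      U * D * V = V * (U * D) := fun U V D hUV hDV => by
    rw [mul_assoc, hDV, ← mul_assoc U, ← hz.commute U, mul_assoc SL2Inv.negOne, ← mul_assoc U, hUV,
      mul_assoc SL2Inv.negOne, ← mul_assoc SL2Inv.negOne, SL2Inv.negOne_mul_self, one_mul, mul_assoc]
  have keep : ∀ (U V D : SL2), U * V = V * U → D * V = V * D → U * D * V = V * (U * D) :=
    fun U V D hUV hDV => by rw [mul_assoc, hDV, ← mul_assoc, hUV, mul_assoc]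
  have fin : ∀ D : SL2, D * A = A * D → D * B = B * D → prH D = 1 := fun D hDA hDB => by
    by_contra hD
    exact hAB (commute_trans (fun h => hD (pr_eq_one.2 h)) hDA hDB)
  have hAA : A * A = A * A := rfl
  have hsq : ∀ U : SL2, (tr U) = 0 → ∀ c : P, c * prH U = 1 → c = prH U := fun U hU c hc => by
    rw [eq_inv_of_mul_eq_one_left hc]
    exact inv_eq_of_mul_eq_one_left (PSL2Inv.pr_mul_self hU)
  rcases sign_of_commute hca with hsA | hsA <;> rcases sign_of_commute hcb with hsB | hsB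
  · exact Or.inl (fin C hsA hsB)
  · right; left
    have h := fin (C * A) (keep C A A hsA rfl) (flip C B A hsB (by
      rw [hBA', ← mul_assoc, SL2Inv.negOne_mul_self, one_mul]))
    rw [map_mul] at h
    exact hsq A hA0 _ h
  · right; right; left
    have h := fin (C * B) (flip C A B hsA hBA') (keep C B B hsB rfl)
    rw [map_mul] at h
    exact hsq B hB0 _ h
  · right; right; right
    have hAB' : A * B = SL2Inv.negOne * (B * A) := by
      rw [hBA', ← mul_assoc, SL2Inv.negOne_mul_self, one_mul]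
    have h1 : A * B * A = SL2Inv.negOne * (A * (A * B)) := by
      rw [mul_assoc, hBA', ← mul_assoc A SL2Inv.negOne, ← hz.commute A, mul_assoc]
    have h2 : A * B * B = SL2Inv.negOne * (B * (A * B)) := by
      nth_rw 1 [hAB']; simp only [mul_assoc]
    have h := fin (C * (A * B)) (flip C A (A * B) hsA h1) (flip C B (A * B) hsB h2)
    rw [map_mul] at h
    rw [eq_inv_of_mul_eq_one_left h, map_mul, _root_.mul_inv_rev,
      inv_eq_of_mul_eq_one_left (PSL2Inv.pr_mul_self hA0), inv_eq_of_mul_eq_one_left (PSL2Inv.pr_mul_self hB0), hab]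

/-- Two non-commuting involutions are centralised by at most one involution. -/
theorem pair_cent (h2 : (2 : F) ≠ 0) {z v r r' : P} (hz : z * z = 1) (hz1 : z ≠ 1) (hv : v * v = 1) (hv1 : v ≠ 1)
    (hne : z * v ≠ v * z) (hrz : r * z = z * r) (hrv : r * v = v * r) (hr'z : r' * z = z * r')
    (hr'v : r' * v = v * r') (hr1 : r ≠ 1) (hr'1 : r' ≠ 1) : r = r' ∧ r * r = 1 := by
  obtain ⟨Z, hZ0, rfl⟩ := PSL2Inv.exists_lift h2 hz hz1
  obtain ⟨V, hV0, rfl⟩ := PSL2Inv.exists_lift h2 hv hv1
  have h4 : (4 : F) ≠ 0 := fun h => h2 (pow_eq_zero_iff two_ne_zero |>.1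
    (show (2 : F) ^ 2 = 0 by rw [← h]; norm_num))
  have hZ4 : (tr Z) ^ 2 ≠ 4 := by rw [hZ0]; simpa using h4.symm
  have hV4 : (tr V) ^ 2 ≠ 4 := by rw [hV0]; simpa using h4.symm
  have hsc := neg_isSc (F := F)
  have one : ∀ (U W R : SL2), (tr U) = 0 → (tr U) ^ 2 ≠ 4 → (tr W) = 0 → prH U * prH W ≠ prH W * prH U →
      prH R ≠ 1 → R * U = U * R → prH R * prH W = prH W * prH R → False := by
    intro U W R hU0 hU4 _ hUW hR hRU hRW
    have hRs : ¬ IsSc R := fun h => hR (pr_eq_one.2 h)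
    -- conjugation by `W` keeps the torus of `U`
    have hWR : (W * U * W⁻¹) * R = R * (W * U * W⁻¹) := by
      rcases sign_of_commute hRW with h | h
      · calc W * U * W⁻¹ * R = W * U * (W⁻¹ * (R * W)) * W⁻¹ := by group
          _ = W * (U * R) * W⁻¹ := by rw [h]; group
          _ = W * R * U * W⁻¹ := by rw [← hRU]; group
          _ = R * (W * U * W⁻¹) := by rw [← h]; group
      · have hc1 : (W * U * W⁻¹) * (W * R * W⁻¹) = (W * R * W⁻¹) * (W * U * W⁻¹) := by
          calc W * U * W⁻¹ * (W * R * W⁻¹) = W * (U * R) * W⁻¹ := by group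
            _ = W * (R * U) * W⁻¹ := by rw [hRU]
            _ = W * R * W⁻¹ * (W * U * W⁻¹) := by group
        have hWR' : W * R * W⁻¹ = SL2Inv.negOne * R := by
          have : R * W * W⁻¹ = SL2Inv.negOne * (W * R) * W⁻¹ := by rw [h]
          rw [mul_inv_cancel_right] at this
          nth_rw 2 [this]
          rw [← mul_assoc, ← mul_assoc, SL2Inv.negOne_mul_self, one_mul]
        rw [hWR'] at hc1
        generalize W * U * W⁻¹ = Y at hc1 ⊢
        rw [← mul_assoc Y, ← hsc.commute Y, mul_assoc, mul_assoc] at hc1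
        exact mul_left_cancel hc1
    have hc : U * (W * U * W⁻¹) = (W * U * W⁻¹) * U := commute_trans hRs hRU hWR.symm
    refine hUW ?_
    rcases commute_eq_or_inv' (not_isSc_of_trace hU4) hc (PStable.trace_conj W U) hU4 with h | h
    · rw [← map_mul, ← map_mul]
      exact congrArg prH (by nth_rw 1 [← h]; group)
    · have h' : prH W * prH U * (prH W)⁻¹ = prH U := by
        rw [← map_inv, ← map_mul, ← map_mul, h, map_inv]
        exact inv_eq_of_mul_eq_one_left (PSL2Inv.pr_mul_self hU0)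
      exact (mul_inv_eq_iff_eq_mul.1 h').symm
  have anti : ∀ R : SL2, prH R ≠ 1 → prH R * prH Z = prH Z * prH R → prH R * prH V = prH V * prH R →
      R * Z = SL2Inv.negOne * (Z * R) ∧ R * V = SL2Inv.negOne * (V * R) := fun R hR h1 h2 =>
    ⟨(sign_of_commute h1).resolve_left fun e => one Z V R hZ0 hZ4 hV0 hne hR e h2,
      (sign_of_commute h2).resolve_left fun e => one V Z R hV0 hV4 hZ0 (Ne.symm hne) hR e h1⟩
  have prod : ∀ s s' : P, s ≠ 1 → s' ≠ 1 → s * prH Z = prH Z * s → s * prH V = prH V * s →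
      s' * prH Z = prH Z * s' → s' * prH V = prH V * s' → s * s' = 1 := by
    intro s s' hs hs' h1 h2' h3 h4'
    obtain ⟨R, rfl⟩ := PSL2Inv.pr_surjective s
    obtain ⟨R', rfl⟩ := PSL2Inv.pr_surjective s'
    obtain ⟨e1, e2⟩ := anti R hs h1 h2'
    obtain ⟨e3, e4⟩ := anti R' hs' h3 h4'
    have comm : ∀ U : SL2, R * U = SL2Inv.negOne * (U * R) → R' * U = SL2Inv.negOne * (U * R') →
        R * R' * U = U * (R * R') := fun U a b => by
      rw [mul_assoc, b, ← mul_assoc R, ← hsc.commute R, mul_assoc SL2Inv.negOne, ← mul_assoc R, a,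
        mul_assoc SL2Inv.negOne, ← mul_assoc SL2Inv.negOne, SL2Inv.negOne_mul_self, one_mul, mul_assoc]
    rw [← map_mul]
    by_contra hp
    refine hne ?_
    rw [← map_mul, ← map_mul, commute_trans (fun h => hp (pr_eq_one.2 h)) (comm Z e1 e3) (comm V e2 e4)]
  exact ⟨(eq_inv_of_mul_eq_one_left (prod r r' hr1 hr'1 hrz hrv hr'z hr'v)).trans
    (inv_eq_of_mul_eq_one_left (prod r' r' hr'1 hr'1 hr'z hr'v hr'z hr'v)),
    prod r r hr1 hr1 hrz hrv hrz hrv⟩

theorem exists_conj_involution (h2 : (2 : F) ≠ 0) {a b : P} (ha : a * a = 1) (ha1 : a ≠ 1) (hb : b * b = 1)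
    (hb1 : b ≠ 1) : ∃ g : P, g * a * g⁻¹ = b :=
  isConj_iff.1 ((PSL2Inv.isConj_pr_w h2 ha ha1).symm.trans (PSL2Inv.isConj_pr_w h2 hb hb1))

theorem card_cz (h2 : (2 : F) ≠ 0) {z : P} (hz : z * z = 1) (hz1 : z ≠ 1) :
    Nat.card (cz z) = Nat.card (SL2Inv.C : Subgroup SL2) :=
  (SL2Classes.centralizer_conj_card (PSL2Inv.isConj_pr_w h2 hz hz1)).symm.trans (PSL2Inv.card_centralizer h2)

theorem eight_le_card_cz (h2 : (2 : F) ≠ 0) (hq : 7 ≤ Nat.card F) :
    8 ≤ Nat.card (SL2Inv.C : Subgroup SL2) ∧ 4 ∣ Nat.card (SL2Inv.C : Subgroup SL2) := by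
  obtain ⟨h4, -⟩ := PSL2Inv.four_dvd_card_C (F := F) h2
  refine ⟨?_, h4⟩
  obtain ⟨m, hm⟩ := h4
  rw [hm]
  rw [SL2Inv.card_C h2] at hm
  split_ifs at hm <;> omega

theorem conj_mem_of_index_two {G : Type*} [Group G] [Finite G] {N C : Subgroup G} (hle : N ≤ C)
    (hcard : Nat.card C = 2 * Nat.card N) {d n : G} (hd : d ∈ C) (hn : n ∈ N) : d * n * d⁻¹ ∈ N := by
  have hidx : (N.subgroupOf C).index = 2 := by
    have h := (N.subgroupOf C).card_mul_index
    rw [Nat.card_congr (Subgroup.subgroupOfEquivOfLe hle).toEquiv, hcard, mul_comm 2] at h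
    exact Nat.eq_of_mul_eq_mul_left Nat.card_pos h
  exact (Subgroup.normal_of_index_eq_two hidx).conj_mem ⟨n, hle hn⟩ hn ⟨d, hd⟩

/-- A four-group is proper in the centralizer of each of its involutions, with involutions outside. -/
theorem exists_outer (h2 : (2 : F) ≠ 0) (hq : 7 ≤ Nat.card F) {V : Subgroup P} (hV4 : Nat.card V ≤ 4)
    {a b : P} (haV : a ∈ V) (hbV : b ∈ V) (ha : a * a = 1) (ha1 : a ≠ 1) (hb : b * b = 1) (hb1 : b ≠ 1)
    (hne : a ≠ b) (hab : a * b = b * a) : ∃ v, v * a = a * v ∧ v ∉ V ∧ v * v = 1 := by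
  obtain ⟨hn8, hn4⟩ := eight_le_card_cz (F := F) h2 hq
  obtain ⟨d, hd, hdV⟩ : ∃ d ∈ (cz a), d ∉ V := by
    by_contra h
    push Not at h
    have := Subgroup.card_le_of_le (show (cz a) ≤ V from h)
    rw [card_cz h2 ha ha1] at this
    omega
  rw [Subgroup.mem_centralizer_singleton_iff] at hd
  obtain ⟨A, hA0, hA⟩ := PSL2Inv.exists_lift h2 ha ha1
  obtain ⟨B, hB0, hB⟩ := PSL2Inv.exists_lift h2 hb hb1
  obtain ⟨D, hD⟩ := PSL2Inv.pr_surjective d
  have hsc := neg_isSc (F := F)
  have h4 : (4 : F) ≠ 0 := fun h => h2 (pow_eq_zero_iff two_ne_zero |>.1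
    (show (2 : F) ^ 2 = 0 by rw [← h]; norm_num))
  have hA4 : (tr A) ^ 2 ≠ 4 := by rw [hA0]; simpa using h4.symm
  have inv_of_anti : ∀ R : SL2, R * A = SL2Inv.negOne * (A * R) → prH R * prH R = 1 := by
    intro R hR
    have hRs : ¬ IsSc R := fun h => by
      have h' := h.commute A
      rw [hR] at h'
      exact SL2Inv.negOne_ne_one h2 (mul_eq_right.1 h')
    refine PSL2Inv.pr_mul_self ?_
    have hsq : (R * R) * A = A * (R * R) := by
      rw [mul_assoc, hR, ← mul_assoc R, ← hsc.commute R, mul_assoc SL2Inv.negOne, ← mul_assoc R, hR,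
        mul_assoc SL2Inv.negOne, ← mul_assoc SL2Inv.negOne, SL2Inv.negOne_mul_self, one_mul, mul_assoc]
    by_cases hs : IsSc (R * R)
    · exact trace_zero_of_sq (by rw [← map_mul]; exact pr_eq_one.2 hs) hRs
    · exfalso
      have h' := commute_trans hs (mul_assoc R R R) hsq
      rw [hR] at h'
      exact SL2Inv.negOne_ne_one h2 (mul_eq_right.1 h')
  rcases sign_of_commute (A := A) (C := D) (by rw [hA, hD]; exact hd) with hDA | hDA
  · refine ⟨b * d, by rw [mul_assoc, hd, ← mul_assoc, ← hab, mul_assoc],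
      fun h => hdV (by simpa using V.mul_mem (V.inv_mem hbV) h), ?_⟩
    have hBA : B * A = SL2Inv.negOne * (A * B) :=
      (sign_of_commute (A := A) (C := B) (by rw [hA, hB, hab])).resolve_left fun e => by
        rcases commute_eq_or_inv' (not_isSc_of_trace hA4) e.symm (hB0.trans hA0.symm) hA4 with e' | e'
        · exact hne (by rw [← hA, ← hB, e'])
        · exact hne (by rw [← hA, ← hB, e', map_inv, eq_inv_iff_mul_eq_one, PSL2Inv.pr_mul_self hA0])
    have := inv_of_anti (B * D) (by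
      rw [mul_assoc, hDA, ← mul_assoc, hBA]; simp only [mul_assoc])
    rwa [map_mul, hB, hD] at this
  · exact ⟨d, hd, hdV, by rw [← hD]; exact inv_of_anti D hDA⟩

theorem not_binary_four (h2 : (2 : F) ≠ 0) (hq : 7 ≤ Nat.card F) {V : Subgroup P} (hV4 : Nat.card V = 4)
    {a b : P} (haV : a ∈ V) (hbV : b ∈ V) (ha : a * a = 1) (ha1 : a ≠ 1) (hb : b * b = 1) (hb1 : b ≠ 1)
    (hne : a ≠ b) (hab : a * b = b * a) (hmem : ∀ y ∈ V, y = 1 ∨ y = a ∨ y = b ∨ y = a * b) :
    ¬ BinaryOn V := by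
  classical
  obtain ⟨c, hc⟩ : ∃ c, c = a * b := ⟨_, rfl⟩
  simp only [← hc] at hmem
  have hcV : c ∈ V := hc ▸ V.mul_mem haV hbV
  have hcc : c * c = 1 := by
    rw [hc, show a * b * (a * b) = a * (b * a) * b by group, ← hab, show a * (a * b) * b = (a * a) * (b * b) by group,
      ha, hb, one_mul]
  have hc1 : c ≠ 1 := fun h => hne ((eq_inv_of_mul_eq_one_left (hc ▸ h)).trans (inv_eq_of_mul_eq_one_left hb))
  have hVcomm : ∀ y ∈ V, ∀ y' ∈ V, y * y' = y' * y := by
    have hac : a * c = c * a := by rw [hc, ← mul_assoc, mul_assoc a b a, ← hab, ← mul_assoc]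
    have hbc : b * c = c * b := by rw [hc, ← mul_assoc, ← hab]
    intro y hy y' hy'
    rcases hmem y hy with rfl | rfl | rfl | rfl <;> rcases hmem y' hy' with rfl | rfl | rfl | rfl <;>
      first | rfl | simp | exact hab | exact hab.symm | exact hac | exact hac.symm | exact hbc | exact hbc.symm
  have hVle : ∀ y ∈ V, V ≤ cz y := fun y hy y' hy' => Subgroup.mem_centralizer_singleton_iff.2 (hVcomm y' hy' y hy)
  have hVinv : ∀ y ∈ V, y * y = 1 := fun y hy => by
    rcases hmem y hy with rfl | rfl | rfl | rfl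
    exacts [one_mul 1, ha, hb, hcc]
  obtain ⟨hn8, hn4⟩ := eight_le_card_cz (F := F) h2 hq
  -- an involution commuting with `a` outside the group
  obtain ⟨v, hva, hvV, hvv⟩ := exists_outer h2 hq hV4.le haV hbV ha ha1 hb hb1 hne hab
  have hv1 : v ≠ 1 := fun h => hvV (h ▸ V.one_mem)
  have hav : a ≠ v := fun h => hvV (h ▸ haV)
  set w := a * v with hw
  have hwV : w ∉ V := fun h => hvV (by simpa [hw] using V.mul_mem (V.inv_mem haV) h)
  have hww : w * w = 1 := by
    rw [hw, show a * v * (a * v) = a * (v * a) * v by group, hva, show a * (a * v) * v = (a * a) * (v * v) by group,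
      ha, hvv, one_mul]
  have hw1 : w ≠ 1 := fun h => hwV (h ▸ V.one_mem)
  have hwa : w * a = a * w := by rw [hw, mul_assoc, hva]
  -- conjugates through an involution outside
  have main : ∀ u : P, u * a = a * u → u * u = 1 → u ∉ V →
      ∃ g : P, g⁻¹ * u * g ∈ V ∧ ∀ y, y ∈ V → g⁻¹ * y * g ∈ V → y = 1 := by
    intro u hua huu huV
    have hu1 : u ≠ 1 := fun h => huV (h ▸ V.one_mem)
    have hau : a ≠ u := fun h => huV (h ▸ haV)
    suffices h : ∃ g : P, g⁻¹ * u * g ∈ V ∧ g⁻¹ * a * g ∉ V by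
      obtain ⟨g, hg, hga⟩ := h
      refine ⟨g, hg, fun y hy hy' => ?_⟩
      by_contra hy1
      have hyu : y * u = u * y := by
        have := hVcomm _ hy' _ hg
        calc y * u = g * ((g⁻¹ * y * g) * (g⁻¹ * u * g)) * g⁻¹ := by group
          _ = g * ((g⁻¹ * u * g) * (g⁻¹ * y * g)) * g⁻¹ := by rw [this]
          _ = u * y := by group
      rcases hmem y hy with rfl | rfl | rfl | rfl
      · exact hy1 rfl
      · exact hga hy'
      · rcases four_cent h2 ha ha1 hb hb1 hne hab hua hyu.symm with h | h | h | h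
        exacts [hu1 h, hau h.symm, huV (h ▸ hbV), huV (h ▸ V.mul_mem haV hbV)]
      · have hub : u * b = b * u := by
          calc u * b = u * (a * (a * b)) := by rw [← mul_assoc a, ha, one_mul]
            _ = u * a * (a * b) := by rw [mul_assoc]
            _ = a * u * (a * b) := by rw [hua]
            _ = a * (u * (a * b)) := by rw [mul_assoc]
            _ = a * ((a * b) * u) := by rw [← hc, ← hyu]
            _ = b * u := by rw [← mul_assoc, ← mul_assoc a, ha, one_mul]
        rcases four_cent h2 ha ha1 hb hb1 hne hab hua hub with h | h | h | h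
        exacts [hu1 h, hau h.symm, huV (h ▸ hbV), huV (h ▸ V.mul_mem haV hbV)]
    by_contra hno
    push Not at hno
    obtain ⟨g₀, hg₀⟩ := exists_conj_involution h2 ha ha1 huu hu1
    set V' := V.map (MulAut.conj g₀).toMonoidHom with hV'
    have hV'mem : ∀ y, y ∈ V' ↔ g₀⁻¹ * y * g₀ ∈ V := fun y => by
      rw [hV', Subgroup.mem_map_equiv]; simp [mul_assoc]
    have huV' : u ∈ V' := by
      rw [hV'mem, ← hg₀, show g₀⁻¹ * (g₀ * a * g₀⁻¹) * g₀ = a by group]; exact haV
    have haV' : a ∈ V' := (hV'mem a).2 (hno g₀ ((hV'mem u).1 huV'))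
    have hV'eq : ∀ y ∈ V', y = 1 ∨ y = a ∨ y = u ∨ y = a * u := fun y hy => by
      have hcm : ∀ y' ∈ V', y * y' = y' * y := fun y' hy' => by
        have := hVcomm _ ((hV'mem y).1 hy) _ ((hV'mem y').1 hy')
        calc y * y' = g₀ * ((g₀⁻¹ * y * g₀) * (g₀⁻¹ * y' * g₀)) * g₀⁻¹ := by group
          _ = g₀ * ((g₀⁻¹ * y' * g₀) * (g₀⁻¹ * y * g₀)) * g₀⁻¹ := by rw [this]
          _ = y' * y := by group
      exact four_cent h2 ha ha1 huu hu1 hau hua.symm (hcm a haV') (hcm u huV')
    have hV'4 : Nat.card V' = 4 := by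
      rw [hV', Subgroup.card_map_of_injective (MulAut.conj g₀).injective, hV4]
    have hV'le : ∀ y ∈ V', V' ≤ cz y := fun y hy y' hy' => by
      rw [Subgroup.mem_centralizer_singleton_iff]
      have := hVcomm _ ((hV'mem y').1 hy') _ ((hV'mem y).1 hy)
      calc y' * y = g₀ * ((g₀⁻¹ * y' * g₀) * (g₀⁻¹ * y * g₀)) * g₀⁻¹ := by group
        _ = g₀ * ((g₀⁻¹ * y * g₀) * (g₀⁻¹ * y' * g₀)) * g₀⁻¹ := by rw [this]
        _ = y * y' := by group
    -- the centralizer of `u` permutes the other two involutions, with kernel the four-group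
    have himg : ∀ d : (cz u), (d : P) * a * (d : P)⁻¹ = a ∨ (d : P) * a * (d : P)⁻¹ = a * u := by
      intro d
      have hd := Subgroup.mem_centralizer_singleton_iff.1 d.2
      have hdg : (d : P) * a * (d : P)⁻¹ ∈ V' := by
        rw [hV'mem]
        have hmem' : ((d : P)⁻¹ * g₀)⁻¹ * u * ((d : P)⁻¹ * g₀) ∈ V := by
          rw [show ((d : P)⁻¹ * g₀)⁻¹ * u * ((d : P)⁻¹ * g₀) = g₀⁻¹ * ((d : P) * u * (d : P)⁻¹) * g₀ by group, hd,
            mul_inv_cancel_right]
          exact (hV'mem u).1 huV'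
        have := hno _ hmem'
        rwa [show ((d : P)⁻¹ * g₀)⁻¹ * a * ((d : P)⁻¹ * g₀) = g₀⁻¹ * ((d : P) * a * (d : P)⁻¹) * g₀ by group] at this
      rcases hV'eq _ hdg with h | h | h | h
      · exact absurd (conj_eq_one_iff.1 h) ha1
      · exact Or.inl h
      · refine absurd ?_ hau
        calc a = (d : P)⁻¹ * ((d : P) * a * (d : P)⁻¹) * d := by group
          _ = (d : P)⁻¹ * u * d := by rw [h]
          _ = u := by rw [mul_assoc, ← hd, inv_mul_cancel_left]
      · exact Or.inr h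
    have hbound : Nat.card (cz u) ≤ 8 := by
      have hfix : ∀ d : P, d * u = u * d → d * a = a * d → d ∈ V' := fun d hdu hda => by
        rcases four_cent h2 ha ha1 huu hu1 hau hua.symm hda hdu with h | h | h | h <;> subst h
        exacts [V'.one_mem, haV', huV', V'.mul_mem haV' huV']
      have hcard : ((V' : Set P)).ncard = 4 := by rw [← Nat.card_coe_set_eq]; exact hV'4
      show Nat.card ((cz u : Subgroup P) : Set P) ≤ 8
      rw [Nat.card_coe_set_eq]
      by_cases hall : ∀ d ∈ (cz u), d * a = a * d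
      · refine le_trans (Set.ncard_le_ncard (t := (V' : Set P)) (fun d hd => hfix d
          (Subgroup.mem_centralizer_singleton_iff.1 hd) (hall d hd)) (Set.toFinite _)) ?_
        omega
      push Not at hall
      obtain ⟨d₀, hd₀, hd₀a⟩ := hall
      have h0 : d₀ * a * d₀⁻¹ = a * u := (himg ⟨d₀, hd₀⟩).resolve_left fun h => hd₀a (by
        calc d₀ * a = d₀ * a * d₀⁻¹ * d₀ := by group
          _ = a * d₀ := by rw [show d₀ * a * d₀⁻¹ = a from h])
      have hsub : ((cz u : Subgroup P) : Set P) ⊆ (V' : Set P) ∪ (fun z => d₀ * z) '' (V' : Set P) := by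
        intro d hd
        have hdu := Subgroup.mem_centralizer_singleton_iff.1 hd
        rcases himg ⟨d, hd⟩ with h | h
        · refine Or.inl (hfix d hdu ?_)
          calc d * a = d * a * d⁻¹ * d := by group
            _ = a * d := by rw [show d * a * d⁻¹ = a from h]
        · refine Or.inr ⟨d₀⁻¹ * d, hfix _ (Subgroup.mem_centralizer_singleton_iff.1
            ((cz u).mul_mem ((cz u).inv_mem hd₀) hd)) ?_, mul_inv_cancel_left _ _⟩
          calc d₀⁻¹ * d * a = d₀⁻¹ * (d * a * d⁻¹) * d := by group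
            _ = d₀⁻¹ * (d₀ * a * d₀⁻¹) * d := by rw [show d * a * d⁻¹ = a * u from h, h0]
            _ = a * (d₀⁻¹ * d) := by group
      refine le_trans (Set.ncard_le_ncard hsub (Set.toFinite _)) ((Set.ncard_union_le _ _).trans ?_)
      have := Set.ncard_image_le (f := fun z => d₀ * z) (s := (V' : Set P)) (Set.toFinite _)
      omega
    have hn : Nat.card (SL2Inv.C : Subgroup SL2) = 8 := by
      rw [card_cz h2 huu hu1] at hbound; omega
    have huw : u * (a * u) = (a * u) * u := by rw [← mul_assoc, hua, mul_assoc]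
    have hauu : (a * u) * (a * u) = 1 := by
      rw [show a * u * (a * u) = a * (u * a) * u by group, hua, show a * (a * u) * u = (a * a) * (u * u) by group,
        ha, huu, one_mul]
    have hau1 : a * u ≠ 1 := fun h => hau ((eq_inv_of_mul_eq_one_left h).trans (inv_eq_of_mul_eq_one_left huu))
    obtain ⟨d, hd, hdV'⟩ : ∃ d ∈ (cz (a * u)), d ∉ V' := by
      by_contra h
      push Not at h
      have := Subgroup.card_le_of_le (show (cz (a * u)) ≤ V' from h)
      rw [card_cz h2 hauu hau1, hn, hV'4] at this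
      omega
    have hd' := Subgroup.mem_centralizer_singleton_iff.1 hd
    have hdau : d * a * d⁻¹ = u := by
      have := conj_mem_of_index_two (hV'le (a * u) (V'.mul_mem haV' huV'))
        (by rw [card_cz h2 hauu hau1, hn, hV'4]) hd haV'
      rcases hV'eq _ this with h | h | h | h
      · exact absurd (conj_eq_one_iff.1 h) ha1
      · exfalso
        have hda : d * a = a * d := by
          calc d * a = d * a * d⁻¹ * d := by group
            _ = a * d := by rw [h]
        have hdu : d * u = u * d := by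
          calc d * u = d * a⁻¹ * (a * u) := by group
            _ = a⁻¹ * (d * (a * u)) := by
              rw [show d * a⁻¹ = a⁻¹ * d from (Commute.inv_right hda :), mul_assoc]
            _ = a⁻¹ * ((a * u) * d) := by rw [hd']
            _ = u * d := by group
        rcases four_cent h2 ha ha1 huu hu1 hau hua.symm hda hdu with e | e | e | e <;> subst e
        exacts [hdV' V'.one_mem, hdV' haV', hdV' huV', hdV' (V'.mul_mem haV' huV')]
      · exact h
      · exfalso
        refine hu1 (mul_eq_left.1 (show a * u = a from ?_))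
        calc a * u = d⁻¹ * (d * (a * u)) := by group
          _ = d⁻¹ * ((a * u) * d) := by rw [hd']
          _ = d⁻¹ * (d * a * d⁻¹) * d := by rw [h]; group
          _ = a := by group
    have hu' : (d⁻¹ * g₀) ∈ (cz a) := by
      rw [Subgroup.mem_centralizer_singleton_iff]
      calc d⁻¹ * g₀ * a = d⁻¹ * (g₀ * a * g₀⁻¹) * g₀ := by group
        _ = d⁻¹ * (d * a * d⁻¹) * g₀ := by rw [hg₀, hdau]
        _ = a * (d⁻¹ * g₀) := by group
    refine huV ?_
    have huV2 : d⁻¹ * u * d ∈ V' := by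
      have h := conj_mem_of_index_two (hV'le (a * u) (V'.mul_mem haV' huV'))
        (by rw [card_cz h2 hauu hau1, hn, hV'4]) (Subgroup.inv_mem _ hd) huV'
      simpa using h
    -- transport the element of `V'` mapped to `u` back into `V`
    have hy : d * u * d⁻¹ ∈ V' := conj_mem_of_index_two (hV'le (a * u) (V'.mul_mem haV' huV'))
      (by rw [card_cz h2 hauu hau1, hn, hV'4]) hd huV'
    have hy2 : g₀⁻¹ * (d * u * d⁻¹) * g₀ ∈ V := (hV'mem _).1 hy
    have := conj_mem_of_index_two (hVle a haV) (by rw [card_cz h2 ha ha1, hn, hV4]) hu' hy2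
    rwa [show d⁻¹ * g₀ * (g₀⁻¹ * (d * u * d⁻¹) * g₀) * (d⁻¹ * g₀)⁻¹ = u by group] at this
  obtain ⟨g₂, hg₂, hn₂⟩ := main v hva hvv hvV
  obtain ⟨g₃, hg₃, hn₃⟩ := main w hwa hww hwV
  refine not_binary_of_disjoint g₂ g₃ haV hg₂ hg₃ (v := v) (w := w) ?_ fun x y hx hx' hy hy' e => ?_
  · rw [hw, ← mul_assoc, hva, mul_assoc, hvv, mul_one]
  · rw [hn₂ x hx hx', hn₃ y hy hy', one_mul] at e
    exact ha1 e.symm

theorem not_binary_eight (h2 : (2 : F) ≠ 0) (hq : 7 ≤ Nat.card F) {H : Subgroup P} (hH8 : Nat.card H = 8)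
    {z s : P} (hzH : z ∈ H) (hsH : s ∈ H) (hz : z * z = 1) (hz1 : z ≠ 1) (hs : s * s = 1) (hs1 : s ≠ 1)
    (hne : z ≠ s) (hle : H ≤ cz z) {f : Fin 4 → P} (hf : Function.Injective f)
    (hfH : ∀ i, f i ∈ H ∧ f i * f i = 1 ∧ f i ≠ 1 ∧ f i ≠ z) : ¬ BinaryOn H := by
  classical
  have hHz : ∀ y ∈ H, y * z = z * y := fun y hy => Subgroup.mem_centralizer_singleton_iff.1 (hle hy)
  have hzs : z * s = s * z := (hHz s hsH).symm
  obtain ⟨hn8, hn4⟩ := eight_le_card_cz (F := F) h2 hq
  have h8 : 8 ∣ Nat.card (SL2Inv.C : Subgroup SL2) := by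
    rw [← card_cz h2 hz hz1, ← hH8]; exact Subgroup.card_dvd_of_le hle
  -- an involution commuting with the reflection outside the four-group
  let V : Subgroup P :=
    { carrier := {y | y = 1 ∨ y = s ∨ y = z ∨ y = s * z}
      one_mem' := Or.inl rfl
      mul_mem' := by
        have e1 : s * (s * z) = z := by rw [← mul_assoc, hs, one_mul]
        have e2 : s * z * s = z := by rw [mul_assoc, hzs, ← mul_assoc, hs, one_mul]
        have e3 : z * (s * z) = s := by rw [← mul_assoc, hzs, mul_assoc, hz, mul_one]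
        have e4 : s * z * z = s := by rw [mul_assoc, hz, mul_one]
        have e5 : s * z * (s * z) = 1 := by rw [← mul_assoc, e2, hz]
        rintro x y (rfl | rfl | rfl | rfl) (rfl | rfl | rfl | rfl) <;>
          simp only [Set.mem_setOf_eq, one_mul, mul_one, hs, hz, hzs, e1, e2, e3, e4, e5, true_or, or_true]
      inv_mem' := by
        have e : (s * z)⁻¹ = s * z := by
          rw [_root_.mul_inv_rev, inv_eq_of_mul_eq_one_left hs, inv_eq_of_mul_eq_one_left hz, hzs]
        rintro x (rfl | rfl | rfl | rfl) <;>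
          simp only [Set.mem_setOf_eq, inv_one, inv_eq_of_mul_eq_one_left hs, inv_eq_of_mul_eq_one_left hz, e,
            true_or, or_true] }
  have hV4 : Nat.card V ≤ 4 := by
    have hsub : ((V : Set P)) ⊆ ↑({1, s, z, s * z} : Finset P) := fun y hy => by
      rcases hy with h | h | h | h <;> simp [h]
    have := Set.ncard_le_ncard hsub (Finset.finite_toSet _)
    rw [Set.ncard_coe_finset] at this
    show Nat.card (V : Set P) ≤ 4
    rw [Nat.card_coe_set_eq]
    exact this.trans Finset.card_le_four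
  have hVH : V ≤ H := fun y hy => by
    rcases hy with h | h | h | h <;> rw [h]
    exacts [H.one_mem, hsH, hzH, H.mul_mem hsH hzH]
  obtain ⟨v, hvs, hvV, hvv⟩ := exists_outer h2 hq hV4 (a := s) (b := z) (Or.inr (Or.inl rfl))
    (Or.inr (Or.inr (Or.inl rfl))) hs hs1 hz hz1 hne.symm hzs.symm
  have hw : s * v * (s * v) = 1 := by
    rw [show s * v * (s * v) = s * (v * s) * v by group, hvs,
      show s * (s * v) * v = (s * s) * (v * v) by group, hs, hvv, one_mul]
  have hwV : s * v ∉ V := fun h => hvV (by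
    simpa using V.mul_mem (V.inv_mem (Or.inr (Or.inl rfl) : s ∈ V)) h)
  have side : ∀ u : P, u * s = s * u → u * u = 1 → u ∉ V → ∃ g : P, g⁻¹ * u * g ∈ H ∧
      ∀ y, y ∈ H → g⁻¹ * y * g ∈ H → y = 1 ∨ (y ≠ z ∧ y ≠ s ∧ y ≠ 1 ∧ y * y = 1) := by
    intro u hus huu huV
    have hu1 : u ≠ 1 := fun h => huV (h ▸ V.one_mem)
    have huz : u * z ≠ z * u := fun h => huV (four_cent h2 hs hs1 hz hz1 hne.symm hzs.symm hus h)
    have hsu : s ≠ u := fun h => huV (h ▸ Or.inr (Or.inl rfl))
    -- possible centres of conjugates through `u`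
    suffices h : ∃ g : P, g⁻¹ * u * g ∈ H ∧ g * z * g⁻¹ * z ≠ z * (g * z * g⁻¹) ∧
        g * z * g⁻¹ * s ≠ s * (g * z * g⁻¹) by
      obtain ⟨g, hg, hgz, hgs⟩ := h
      refine ⟨g, hg, fun y hy hy' => (em (y = 1)).imp_right fun hy1 => ?_⟩
      have hyg : y * (g * z * g⁻¹) = g * z * g⁻¹ * y := by
        calc y * (g * z * g⁻¹) = g * ((g⁻¹ * y * g) * z) * g⁻¹ := by group
          _ = g * (z * (g⁻¹ * y * g)) * g⁻¹ := by rw [hHz _ hy']
          _ = g * z * g⁻¹ * y := by group
      refine ⟨fun h => hgz (by rw [h] at hyg; exact hyg.symm), fun h => hgs (by rw [h] at hyg; exact hyg.symm),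
        hy1, ?_⟩
      refine (pair_cent h2 hz hz1 (v := g * z * g⁻¹) ?_ (fun h => hz1 (conj_eq_one_iff.1 h)) (Ne.symm hgz)
        (hHz y hy) hyg (hHz y hy) hyg hy1 hy1).2
      rw [show g * z * g⁻¹ * (g * z * g⁻¹) = g * (z * z) * g⁻¹ by group, hz]
      group
    have hinv : ∀ g : P, g * z * g⁻¹ * (g * z * g⁻¹) = 1 ∧ g * z * g⁻¹ ≠ 1 := fun g =>
      ⟨by rw [show g * z * g⁻¹ * (g * z * g⁻¹) = g * (z * z) * g⁻¹ by group, hz]; group,
        fun h => hz1 (conj_eq_one_iff.1 h)⟩
    obtain ⟨O, hO4, hO⟩ : ∃ O : Finset P, 4 ≤ O.card ∧ ∀ y ∈ O, y * u = u * y ∧ y ≠ u ∧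
        ∃ g : P, g⁻¹ * u * g ∈ H ∧ g * z * g⁻¹ = y := by
      by_cases hn : Nat.card (SL2Inv.C : Subgroup SL2) = 8
      · have hHeq : H = cz z := Subgroup.eq_of_le_of_card_ge hle (by rw [card_cz h2 hz hz1, hn, hH8])
        obtain ⟨g₁, hg₁⟩ := exists_conj_involution h2 hz hz1 huu hu1
        refine ⟨Finset.univ.image (fun i => g₁ * f i * g₁⁻¹), ?_, fun y hy => ?_⟩
        · rw [Finset.card_image_of_injective _ (fun i j h => hf (mul_left_cancel (mul_right_cancel h))),
            Finset.card_univ, Fintype.card_fin]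
        obtain ⟨i, -, rfl⟩ := Finset.mem_image.1 hy
        obtain ⟨hiH, hii, hi1, hiz⟩ := hfH i
        refine ⟨?_, fun h => hiz (mul_left_cancel (mul_right_cancel (h.trans hg₁.symm))), ?_⟩
        · rw [← hg₁]
          calc g₁ * f i * g₁⁻¹ * (g₁ * z * g₁⁻¹) = g₁ * (f i * z) * g₁⁻¹ := by group
            _ = g₁ * (z * f i) * g₁⁻¹ := by rw [hHz _ hiH]
            _ = g₁ * z * g₁⁻¹ * (g₁ * f i * g₁⁻¹) := by group
        obtain ⟨g₂, hg₂⟩ := exists_conj_involution h2 hz hz1
          (show g₁ * f i * g₁⁻¹ * (g₁ * f i * g₁⁻¹) = 1 by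
            rw [show g₁ * f i * g₁⁻¹ * (g₁ * f i * g₁⁻¹) = g₁ * (f i * f i) * g₁⁻¹ by group, hii]; group)
          (fun h => hi1 (conj_eq_one_iff.1 h))
        refine ⟨g₂, ?_, hg₂⟩
        rw [hHeq, Subgroup.mem_centralizer_singleton_iff]
        calc g₂⁻¹ * u * g₂ * z = g₂⁻¹ * (u * (g₂ * z * g₂⁻¹)) * g₂ := by group
          _ = g₂⁻¹ * (g₁ * z * g₁⁻¹ * (g₁ * f i * g₁⁻¹)) * g₂ := by rw [hg₂, hg₁]
          _ = g₂⁻¹ * (g₁ * (z * f i) * g₁⁻¹) * g₂ := by group
          _ = g₂⁻¹ * (g₁ * (f i * z) * g₁⁻¹) * g₂ := by rw [hHz _ hiH]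
          _ = g₂⁻¹ * (g₁ * f i * g₁⁻¹ * (g₁ * z * g₁⁻¹)) * g₂ := by group
          _ = g₂⁻¹ * (g₂ * z * g₂⁻¹ * u) * g₂ := by rw [hg₂, hg₁]
          _ = z * (g₂⁻¹ * u * g₂) := by group
      · obtain ⟨g₀, hg₀⟩ := exists_conj_involution h2 hs hs1 huu hu1
        set y₀ := g₀ * z * g₀⁻¹ with hy₀
        have hy₀u : y₀ * u = u * y₀ := by
          rw [hy₀, ← hg₀]
          calc g₀ * z * g₀⁻¹ * (g₀ * s * g₀⁻¹) = g₀ * (z * s) * g₀⁻¹ := by group
            _ = g₀ * (s * z) * g₀⁻¹ := by rw [hzs]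
            _ = g₀ * s * g₀⁻¹ * (g₀ * z * g₀⁻¹) := by group
        have hy₀ne : y₀ ≠ u := fun h => hne (mul_left_cancel (mul_right_cancel (h.trans hg₀.symm)))
        refine ⟨(Set.Finite.toFinset (Set.toFinite ((fun d => d * y₀ * d⁻¹) '' ((cz u : Subgroup P) : Set P)))), ?_,
          fun y hy => ?_⟩
        · rw [← Set.ncard_eq_toFinset_card]
          set img := (fun d => d * y₀ * d⁻¹) '' ((cz u : Subgroup P) : Set P) with himg
          have hcz : ((cz u : Subgroup P) : Set P).ncard = Nat.card (SL2Inv.C : Subgroup SL2) := by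
            rw [← Nat.card_coe_set_eq]; exact card_cz h2 huu hu1
          have hfib : ∀ d₀ : P, Set.ncard {d | d ∈ ((cz u : Subgroup P) : Set P) ∧ d * y₀ * d⁻¹ = d₀ * y₀ * d₀⁻¹ ∧
              d₀ ∈ (cz u)} ≤ 4 := by
            intro d₀
            refine le_trans (Set.ncard_le_ncard (t := ↑((({1, u, y₀, u * y₀} : Finset P)).image (fun e => d₀ * e)))
              ?_ (Finset.finite_toSet _)) ?_
            · rintro d ⟨hd, hdy, hd₀⟩
              have h1 : d₀⁻¹ * d ∈ (cz u) := (cz u).mul_mem ((cz u).inv_mem hd₀) hd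
              rw [Subgroup.mem_centralizer_singleton_iff] at h1
              have h3 : d₀⁻¹ * d * y₀ = y₀ * (d₀⁻¹ * d) := by
                calc d₀⁻¹ * d * y₀ = d₀⁻¹ * (d * y₀ * d⁻¹) * d := by group
                  _ = y₀ * (d₀⁻¹ * d) := by rw [hdy]; group
              rw [Finset.coe_image]
              refine ⟨d₀⁻¹ * d, ?_, mul_inv_cancel_left _ _⟩
              rcases four_cent h2 huu hu1 (hinv g₀).1 (hinv g₀).2 hy₀ne.symm hy₀u.symm h1 h3 with e | e | e | e <;>
                simp [e, hy₀]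
            · rw [Set.ncard_coe_finset]
              exact Finset.card_image_le.trans Finset.card_le_four
          have hcover : Nat.card (SL2Inv.C : Subgroup SL2) ≤ 4 * img.ncard := by
            rw [← hcz, Set.ncard_eq_toFinset_card ((cz u : Subgroup P) : Set P) (Set.toFinite _),
              Set.ncard_eq_toFinset_card img (Set.toFinite _)]
            refine Finset.card_le_mul_card_image_of_maps_to (f := fun d => d * y₀ * d⁻¹) (fun d hd => ?_) 4
              fun y hy => ?_
            · rw [Set.Finite.mem_toFinset] at hd ⊢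
              exact ⟨d, hd, rfl⟩
            · rw [Set.Finite.mem_toFinset] at hy
              obtain ⟨d₀, hd₀, rfl⟩ := hy
              refine le_trans (le_of_eq ?_) (hfib d₀)
              rw [← Set.ncard_coe_finset]
              congr 1
              ext d
              simp only [Finset.coe_filter, Set.Finite.mem_toFinset, Set.mem_setOf_eq]
              exact ⟨fun h => ⟨h.1, h.2, hd₀⟩, fun h => ⟨h.1, h.2.1⟩⟩
          omega
        rw [Set.Finite.mem_toFinset] at hy
        obtain ⟨d, hd, rfl⟩ := hy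
        have hdu : d * u = u * d := Subgroup.mem_centralizer_singleton_iff.1 hd
        refine ⟨?_, fun h => hy₀ne ?_, d * g₀, ?_, by rw [hy₀]; group⟩
        · calc d * y₀ * d⁻¹ * u = d * y₀ * (d⁻¹ * (u * d)) * d⁻¹ := by group
            _ = d * (y₀ * u) * d⁻¹ := by rw [← hdu]; group
            _ = d * u * (y₀ * d⁻¹) := by rw [hy₀u]; group
            _ = u * (d * y₀ * d⁻¹) := by rw [hdu]; group
        · replace h : d * y₀ * d⁻¹ = u := h
          calc y₀ = d⁻¹ * (d * y₀ * d⁻¹) * d := by group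
            _ = d⁻¹ * (u * d) := by rw [h]; group
            _ = u := by rw [← hdu]; group
        · rw [show (d * g₀)⁻¹ * u * (d * g₀) = g₀⁻¹ * (d⁻¹ * (u * d)) * g₀ by group, ← hdu,
            inv_mul_cancel_left, ← hg₀, show g₀⁻¹ * (g₀ * s * g₀⁻¹) * g₀ = s by group]
          exact hsH
    -- at most three centres are bad
    by_contra hno
    have hbad : ∀ y ∈ O, y * z = z * y ∨ y * s = s * y := fun y hy => by
      obtain ⟨-, -, g, hg, rfl⟩ := hO y hy
      by_contra h
      push Not at h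
      exact hno ⟨g, hg, h.1, h.2⟩
    have hyinv : ∀ y ∈ O, y * y = 1 ∧ y ≠ 1 := fun y hy => by
      obtain ⟨-, -, g, -, rfl⟩ := hO y hy
      exact hinv g
    have hsub : ∃ r : P, O ⊆ {s, u * s, r} := by
      have hsne : ∀ y ∈ O, y * s = s * y → y = s ∨ y = u * s := fun y hy h => by
        obtain ⟨hyu, hne', -⟩ := hO y hy
        rcases four_cent h2 huu hu1 hs hs1 hsu.symm hus hyu h with e | e | e | e
        exacts [absurd e (hyinv y hy).2, absurd e hne', Or.inl e, Or.inr e]
      by_cases hr : ∃ r ∈ O, r * z = z * r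
      · obtain ⟨r, hrO, hr⟩ := hr
        refine ⟨r, fun y hy => ?_⟩
        rcases hbad y hy with h | h
        · have := (pair_cent h2 hz hz1 huu hu1 (Ne.symm huz) h (hO y hy).1 hr (hO r hrO).1
            (hyinv y hy).2 (hyinv r hrO).2).1
          simp [this]
        · rcases hsne y hy h with e | e <;> simp [e]
      · refine ⟨s, fun y hy => ?_⟩
        rcases hbad y hy with h | h
        · exact absurd ⟨y, hy, h⟩ hr
        · rcases hsne y hy h with e | e <;> simp [e]
    obtain ⟨r, hr⟩ := hsub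
    have := (Finset.card_le_card hr).trans Finset.card_le_three
    omega
  obtain ⟨g₂, hg₂, hn₂⟩ := side v hvs hvv hvV
  obtain ⟨g₃, hg₃, hn₃⟩ := side (s * v) (by rw [mul_assoc, hvs]) hw hwV
  refine not_binary_of_disjoint g₂ g₃ hsH hg₂ hg₃ (v := v) (w := s * v) ?_ fun x y hx hx' hy hy' e => ?_
  · rw [← mul_assoc, hvs, mul_assoc, hvv, mul_one]
  rcases hn₂ x hx hx' with rfl | ⟨hxz, hxs, hx1, hxx⟩
  · rw [one_mul] at e
    subst e
    rcases hn₃ y hy hy' with h | h
    exacts [hs1 h, h.2.1 rfl]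
  rcases hn₃ y hy hy' with rfl | ⟨hyz, hys, hy1, hyy⟩
  · exact hxs (by simpa using e)
  -- commuting reflections with product the given one
  have hxy : x * y = y * x := by
    calc x * y = (x * y)⁻¹ := by rw [e, inv_eq_of_mul_eq_one_left hs]
      _ = y * x := by rw [_root_.mul_inv_rev, inv_eq_of_mul_eq_one_left hxx, inv_eq_of_mul_eq_one_left hyy]
  have hxs' : x * s = s * x := by rw [← e, ← mul_assoc, mul_assoc x y x, ← hxy, ← mul_assoc]
  have hys' : y * s = s * y := by rw [← e, ← mul_assoc, ← hxy]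
  have hH' : ∀ t ∈ H, t ≠ 1 → t ≠ z → t * s = s * t → t = s ∨ t = s * z := fun t ht ht1 htz h => by
    rcases four_cent h2 hs hs1 hz hz1 hne.symm hzs.symm h (hHz t ht) with e | e | e | e
    exacts [absurd e ht1, Or.inl e, absurd e htz, Or.inr e]
  have hx2 := (hH' x hx hx1 hxz hxs').resolve_left hxs
  have hy2 := (hH' y hy hy1 hyz hys').resolve_left hys
  rw [hy2, ← hx2, hxx] at e
  exact hs1 e.symm

end Cfsg.Agent.PSL2Binary
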