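import Cfsg.Agent.Lib.Classical.DicksonTori
import Cfsg.Agent.Lib.Classical.PSL2Products

/-!
Tori of `PSL_2(q)` in the form needed for the binary actions.
-/

set_option autoImplicit false
set_option linter.unusedSectionVars false
set_option linter.style.haveILetI false
set_option linter.unusedSimpArgs false

namespace Cfsg.Agent.PSL2Binary

open Matrix PStable Cfsg.Agent.Dickson

variable {F : Type*} [Field F] [Finite F]

local notation "SL2" => Matrix.SpecialLinearGroup (Fin 2) F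
local notation "M2" => Matrix (Fin 2) (Fin 2) F
local notation "P" => Matrix.ProjectiveSpecialLinearGroup (Fin 2) F
local notation "prH" => PSL2Inv.pr (F := F)
local notation "tr" X => Matrix.trace ((X : SL2) : M2)

theorem trace_inv (X : SL2) : (tr X⁻¹) = tr X := by
  simp [Matrix.trace_fin_two, SpecialLinearGroup.coe_inv, Matrix.adjugate_fin_two, add_comm]

theorem trace_negOne_mul (X : SL2) : (tr (SL2Inv.negOne * X)) = -(tr X) := by
  simp [SL2Inv.coe_negOne, Matrix.trace_neg]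

theorem negOne_eq_one (h : (2 : F) = 0) : (SL2Inv.negOne : SL2) = 1 := by
  refine Subtype.ext ?_
  show (-1 : M2) = 1
  have hn : ∀ u : F, -u = u := fun u => by linear_combination -u * h
  ext i j
  simp [hn]

/-- Lifts with equal nonzero traces are equal. -/
theorem eq_of_pr_eq {X Y : SL2} (h : prH X = prH Y) (ht : (tr Y) = tr X) (h0 : (tr X) ≠ 0) : X = Y := by
  rcases PSL2Inv.pr_eq_iff.1 h with e | e
  · exact e.symm
  · have h2 : (2 : F) = 0 := by
      rw [e, trace_negOne_mul] at ht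
      exact (mul_eq_zero.1 (show (2 : F) * (tr X) = 0 by linear_combination -ht)).resolve_right h0
    rw [e, negOne_eq_one h2, one_mul]

theorem conj_lift {X Y Z : SL2} (h : prH Y * prH X * (prH Y)⁻¹ = prH Z) (ht : (tr Z) = tr X)
    (h0 : (tr X) ≠ 0) : Y * X * Y⁻¹ = Z := by
  refine eq_of_pr_eq (by rw [map_mul, map_mul, map_inv, h]) ?_ ?_ <;> rw [PStable.trace_conj]
  exacts [ht, h0]

theorem commute_lift {X Y : SL2} (h : prH Y * prH X = prH X * prH Y) (h0 : (tr X) ≠ 0) : Y * X = X * Y := by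
  have := conj_lift (Y := Y) (Z := X) (by rw [h, mul_inv_cancel_right]) rfl h0
  rw [← this, inv_mul_cancel_right]
  rw [this]

theorem invert_lift {X Y : SL2} (h : prH Y * prH X * (prH Y)⁻¹ = (prH X)⁻¹) (h0 : (tr X) ≠ 0) :
    Y * X * Y⁻¹ = X⁻¹ :=
  conj_lift (by rw [h, map_inv]) (trace_inv X) h0

/-- Image in `PSL_2` of the centralizer of an element of `SL_2`. -/
def tor (X : SL2) : Subgroup P := (cent (⊤ : Subgroup SL2) X).map prH

theorem mem_tor_self (X : SL2) : prH X ∈ tor X :=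
  Subgroup.mem_map_of_mem _ (mem_cent.2 ⟨Subgroup.mem_top _, rfl⟩)

theorem mem_tor_of_commute {X : SL2} (h0 : (tr X) ≠ 0) {a : P} (h : a * prH X = prH X * a) : a ∈ tor X := by
  obtain ⟨Y, rfl⟩ := PSL2Inv.pr_surjective a
  exact Subgroup.mem_map_of_mem _ (mem_cent.2 ⟨Subgroup.mem_top _, commute_lift h h0⟩)

theorem comm_tor {X : SL2} (hX : ¬ IsSc X) {a b : P} (ha : a ∈ tor X) (hb : b ∈ tor X) : a * b = b * a := by
  obtain ⟨Y, hY, rfl⟩ := ha
  obtain ⟨Z, hZ, rfl⟩ := hb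
  rw [← map_mul, ← map_mul, commute_trans hX (mem_cent.1 hY).2.symm (mem_cent.1 hZ).2.symm]

theorem tor_eq_of_mem {X Y : SL2} (hX : ¬ IsSc X) (hY : ¬ IsSc Y) (hc : Y * X = X * Y) : tor Y = tor X := by
  rw [tor, tor]
  congr 1
  ext Z
  rw [mem_cent, mem_cent]
  exact and_congr_right fun _ => ⟨fun h => (commute_trans hY hc h.symm).symm,
    fun h => (commute_trans hX hc.symm h.symm).symm⟩

theorem tor_eq_of_common {X X' : SL2} (hX : ¬ IsSc X) (hX' : ¬ IsSc X') {a : P} (ha : a ∈ tor X)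
    (ha' : a ∈ tor X') (ha1 : a ≠ 1) : tor X = tor X' := by
  obtain ⟨Y, hY, rfl⟩ := ha
  obtain ⟨Y', hY', e⟩ := ha'
  have hYs : ¬ IsSc Y := fun h => ha1 (pr_eq_one.2 h)
  have hY's : ¬ IsSc Y' := fun h => ha1 (e ▸ pr_eq_one.2 h)
  rw [← tor_eq_of_mem hX hYs (mem_cent.1 hY).2, ← tor_eq_of_mem hX' hY's (mem_cent.1 hY').2]
  refine tor_eq_of_mem hY's hYs ?_
  rcases PSL2Inv.pr_eq_iff.1 e with h | h
  · rw [h]
  · have hz : IsSc (SL2Inv.negOne : SL2) := pr_eq_one.1 PSL2Inv.pr_negOne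
    rw [h, mul_assoc, ← mul_assoc Y', ← hz.commute Y', mul_assoc]

theorem conj_mem_tor (g X : SL2) {a : P} :
    prH g * a * (prH g)⁻¹ ∈ tor (g * X * g⁻¹) ↔ a ∈ tor X := by
  constructor
  · rintro ⟨Y, hY, e⟩
    refine ⟨g⁻¹ * Y * g, mem_cent.2 ⟨Subgroup.mem_top _, ?_⟩, ?_⟩
    · have h := (mem_cent.1 hY).2
      calc g⁻¹ * Y * g * X = g⁻¹ * (Y * (g * X * g⁻¹)) * g := by group
        _ = g⁻¹ * (g * X * g⁻¹ * Y) * g := by rw [h]
        _ = X * (g⁻¹ * Y * g) := by group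
    · rw [map_mul, map_mul, e, map_inv]; group
  · rintro ⟨Y, hY, rfl⟩
    refine ⟨g * Y * g⁻¹, mem_cent.2 ⟨Subgroup.mem_top _, ?_⟩, by rw [map_mul, map_mul, map_inv]⟩
    have h := (mem_cent.1 hY).2
    calc g * Y * g⁻¹ * (g * X * g⁻¹) = g * (Y * X) * g⁻¹ := by group
      _ = g * (X * Y) * g⁻¹ := by rw [h]
      _ = g * X * g⁻¹ * (g * Y * g⁻¹) := by group

/-- Conjugating one nontrivial element of a torus into the torus fixes the torus. -/
theorem tor_conj_eq {g X : SL2} (hX : ¬ IsSc X) {a : P} (ha : a ∈ tor X) (ha1 : a ≠ 1)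
    (hga : (prH g)⁻¹ * a * prH g ∈ tor X) : tor (g * X * g⁻¹) = tor X :=
  tor_eq_of_common (fun h => hX (isSc_conj_iff.1 h)) hX
    (by
      have := (conj_mem_tor g X).2 hga
      rwa [show prH g * ((prH g)⁻¹ * a * prH g) * (prH g)⁻¹ = a by group] at this) ha ha1

/-- An element commuting with a nontrivial element of a torus of odd sort moves its generator to a power. -/
theorem conj_eq_or_inv_of_commute {X : SL2} (hX : ¬ IsSc X) (hτ : (tr X) ^ 2 ≠ 4) {a y : P}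
    (ha : a ∈ tor X) (ha1 : a ≠ 1) (hy : y * a = a * y) :
    y * prH X * y⁻¹ = prH X ∨ y * prH X * y⁻¹ = (prH X)⁻¹ := by
  obtain ⟨g, rfl⟩ := PSL2Inv.pr_surjective y
  have e : tor (g * X * g⁻¹) = tor X := tor_conj_eq hX ha ha1 (by
    rwa [mul_assoc, ← hy, inv_mul_cancel_left])
  obtain ⟨Y, hY, eY⟩ := e ▸ mem_tor_self (g * X * g⁻¹)
  have hc : (g * X * g⁻¹) * X = X * (g * X * g⁻¹) := by
    rcases PSL2Inv.pr_eq_iff.1 eY with h | h
    · rw [h]; exact (mem_cent.1 hY).2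
    · have hz : IsSc (SL2Inv.negOne : SL2) := pr_eq_one.1 PSL2Inv.pr_negOne
      rw [h, mul_assoc, (mem_cent.1 hY).2, ← mul_assoc, hz.commute X, mul_assoc]
  rcases commute_eq_or_inv' hX hc.symm (PStable.trace_conj g X) hτ with h | h
  · left; rw [← map_inv, ← map_mul, ← map_mul, h]
  · right; rw [← map_inv, ← map_mul, ← map_mul, h, map_inv]

theorem not_isSc_of_trace {X : SL2} (h : (tr X) ^ 2 ≠ 4) : ¬ IsSc X := by
  intro hs
  rcases hs.eq_or_eq with e | e <;> rw [e] at h <;> exact h (by simp [Matrix.trace_fin_two]; ring)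

theorem not_isScalar_of_trace {X : SL2} (h : (tr X) ^ 2 ≠ 4) : ¬ TwoByTwo.IsScalar (X : M2) := fun hs =>
  not_isSc_of_trace h (isSc_iff.2 hs)

theorem exists_conj_of_trace {X Y : SL2} (hX : (tr X) ^ 2 ≠ 4) (h : (tr Y) = tr X) :
    ∃ g : SL2, g * X * g⁻¹ = Y := by
  have hY : (tr Y) ^ 2 ≠ 4 := by rwa [h]
  exact isConj_iff.1 (PSL2Products.isConj_semisimple (not_isScalar_of_trace hX) (not_isScalar_of_trace hY) h.symm (sub_ne_zero.2 hX))

/-- Every triple of traces is realised by a factorisation of a semisimple element. -/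
theorem exists_factor {X : SL2} (hX : (tr X) ^ 2 ≠ 4) (s s' : F) :
    ∃ U : SL2, (tr U) = s ∧ (tr (U⁻¹ * X)) = s' := by
  set t := tr X with ht
  obtain ⟨c, hc, hconj⟩ := PSL2Products.exists_std (g := X) (not_isScalar_of_trace hX)
  have hD : 4 - t ^ 2 ≠ 0 := sub_ne_zero.2 (Ne.symm hX)
  set a₀ := (2 * s - t * s') / (4 - t ^ 2) with ha₀
  set z₀ := (t * s - 2 * s') / (4 - t ^ 2) with hz₀
  obtain ⟨A, Z, hAZ⟩ := PSL2Products.repr_of_disc (-t) (by rw [neg_sq]; exact sub_ne_zero.2 hX)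
    (-(a₀ ^ 2 - t * a₀ * z₀ + z₀ ^ 2 - s * a₀ + s' * z₀ + 1))
  have e1 : a₀ * (4 - t ^ 2) = 2 * s - t * s' := div_mul_cancel₀ _ hD
  have e2 : z₀ * (4 - t ^ 2) = t * s - 2 * s' := div_mul_cancel₀ _ hD
  have l1 : 2 * a₀ - t * z₀ - s = 0 := by
    refine (mul_eq_zero.1 (show (2 * a₀ - t * z₀ - s) * (4 - t ^ 2) = 0 by
      linear_combination 2 * e1 - t * e2)).resolve_right hD
  have l2 : -(t * a₀) + 2 * z₀ + s' = 0 := by
    refine (mul_eq_zero.1 (show (-(t * a₀) + 2 * z₀ + s') * (4 - t ^ 2) = 0 by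
      linear_combination -t * e1 + 2 * e2)).resolve_right hD
  set α := A + a₀ with hα
  set z := Z + z₀ with hz
  have hαz : α ^ 2 - t * α * z + z ^ 2 - s * α + s' * z + 1 = 0 := by
    rw [hα, hz]; linear_combination hAZ + A * l1 + Z * l2
  let U₀ : SL2 := ⟨!![α, z / c; c * (s' + z - α * t), s - α], by
    rw [Matrix.det_fin_two_of]; field_simp; linear_combination -hαz⟩
  obtain ⟨y, hy⟩ := isConj_iff.1 hconj
  refine ⟨y⁻¹ * U₀ * y, ?_, ?_⟩
  · have := PStable.trace_conj y⁻¹ U₀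
    rw [inv_inv] at this
    rw [this]; simp [U₀, Matrix.trace_fin_two]
  · have h1 := PStable.trace_conj y⁻¹ (U₀⁻¹ * PSL2Products.std t c hc)
    rw [inv_inv] at h1
    rw [show (y⁻¹ * U₀ * y)⁻¹ * X = y⁻¹ * (U₀⁻¹ * (y * X * y⁻¹)) * y by group, hy, h1]
    show (U₀.1.adjugate * (PSL2Products.std t c hc).1).trace = s'
    simp [U₀, PSL2Products.std, Matrix.trace_fin_two, Matrix.mul_apply, Fin.sum_univ_two, Matrix.adjugate_fin_two]
    field_simp
    ring

end Cfsg.Agent.PSL2Binary
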