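import Cfsg.Agent.Lib.PSL2Binary.Basic
import Cfsg.Agent.Lib.PSL2Binary.Torus

/-!
Cyclic subgroups of tori.
-/

set_option autoImplicit false
set_option linter.unusedSectionVars false
set_option linter.unusedSimpArgs false

namespace Cfsg.Agent.PSL2Binary

open Matrix PStable Cfsg.Agent.Dickson Cfsg.Agent.SzBinary

variable {F : Type*} [Field F] [Finite F]

local notation "SL2" => Matrix.SpecialLinearGroup (Fin 2) F
local notation "M2" => Matrix (Fin 2) (Fin 2) F
local notation "P" => Matrix.ProjectiveSpecialLinearGroup (Fin 2) F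
local notation "prH" => PSL2Inv.pr (F := F)
local notation "tr" X => Matrix.trace ((X : SL2) : M2)

theorem commute_of_mem_tor {X Y : SL2} (h : prH Y ∈ tor X) : Y * X = X * Y := by
  obtain ⟨Z, hZ, e⟩ := h
  rcases PSL2Inv.pr_eq_iff.1 e with h | h
  · rw [h]; exact (mem_cent.1 hZ).2
  · have hz : IsSc (SL2Inv.negOne : SL2) := pr_eq_one.1 PSL2Inv.pr_negOne
    rw [h, mul_assoc, (mem_cent.1 hZ).2, ← mul_assoc, hz.commute X, mul_assoc]

theorem not_binary_of_factor {H : Subgroup P} {X V : SL2} (hτ : (tr X) ^ 2 ≠ 4) (hXH : prH X ∈ H)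
    (hle : H ≤ tor X) (hV : (tr V) = tr X) (hW : (tr (V⁻¹ * X)) = tr X) (hVX : V * X ≠ X * V) :
    ¬ BinaryOn H := by
  obtain ⟨g₂, hg₂⟩ := exists_conj_of_trace hτ hV
  obtain ⟨g₃, hg₃⟩ := exists_conj_of_trace hτ hW
  have hX := not_isSc_of_trace hτ
  have hno : ∀ g : SL2, g * X * g⁻¹ * X ≠ X * (g * X * g⁻¹) →
      ∀ a, a ∈ H → (prH g)⁻¹ * a * prH g ∈ H → a = 1 := by
    intro g hg a ha ha'
    by_contra ha1
    refine hg (commute_of_mem_tor ?_)
    rw [← tor_conj_eq (g := g) hX (hle ha) ha1 (hle ha')]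
    exact mem_tor_self _
  refine not_binary_of_disjoint (prH g₂) (prH g₃) (u := prH X) (v := prH V) (w := prH (V⁻¹ * X))
    hXH ?_ ?_ (by rw [← map_mul, mul_inv_cancel_left]) fun a b ha ha' hb hb' e => ?_
  · rw [← hg₂, map_mul, map_mul, map_inv]; simpa [mul_assoc] using hXH
  · rw [← hg₃, map_mul, map_mul, map_inv]; simpa [mul_assoc] using hXH
  rw [hno g₂ (by rw [hg₂]; exact hVX) a ha ha', hno g₃ (fun h => hVX (by
    rw [hg₃] at h
    have h' : V⁻¹ * X = X * V⁻¹ := mul_right_cancel (b := X) (h.trans (mul_assoc X V⁻¹ X).symm)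
    calc V * X = V * (X * V⁻¹) * V := by group
      _ = V * (V⁻¹ * X) * V := by rw [h']
      _ = X * V := by group)) b hb hb', one_mul] at e
  exact hX (pr_eq_one.1 e.symm)

theorem trace_mul_self (X : SL2) : (tr (X * X)) = (tr X) ^ 2 - 2 := by
  have hd := det_one X
  show ((X : M2) * (X : M2)).trace = _
  simp [Matrix.trace_fin_two, Matrix.mul_apply, Fin.sum_univ_two]
  linear_combination -2 * hd

/-- A nontrivial subgroup of a torus does not give a binary action, the subgroups of order three of the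
non-split tori in characteristic two apart. -/
theorem not_binary_torus {H : Subgroup P} {X : SL2} (hτ : (tr X) ^ 2 ≠ 4) (hXH : prH X ∈ H)
    (hle : H ≤ tor X)
    (hex : (2 : F) ≠ 0 ∨ (tr X) ≠ 1 ∨ ∃ r : F, r ^ 2 + r + 1 = 0) : ¬ BinaryOn H := by
  have gen : ∀ Y : SL2, (tr Y) ^ 2 ≠ 4 → prH Y ∈ H → H ≤ tor Y → (tr Y) + 1 ≠ 0 → ¬ BinaryOn H := by
    intro Y hY hYH hYle h1
    obtain ⟨V, hV, hW⟩ := exists_factor hY (tr Y) (tr Y)
    refine not_binary_of_factor hY hYH hYle hV hW fun hc => ?_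
    rcases commute_eq_or_inv' (not_isSc_of_trace hY) hc.symm hV hY with e | e
    · rw [e, inv_mul_cancel] at hW
      change (1 : M2).trace = _ at hW
      rw [Matrix.trace_one] at hW
      exact hY (by rw [← hW]; simp; norm_num)
    · rw [e, inv_inv, trace_mul_self] at hW
      refine hY ?_
      have h0 : ((tr Y) - 2) * ((tr Y) + 1) = 0 := by linear_combination hW
      rw [sub_eq_zero.1 ((mul_eq_zero.1 h0).resolve_right h1)]; norm_num
  by_cases h1 : (tr X) + 1 = 0
  swap
  · exact gen X hτ hXH hle h1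
  by_cases h2 : (2 : F) = 0
  swap
  · have e : prH (SL2Inv.negOne * X) = prH X := by rw [map_mul, PSL2Inv.pr_negOne, one_mul]
    have hle' : tor X = tor (SL2Inv.negOne * X) := by
      refine tor_eq_of_mem (fun h => not_isSc_of_trace (X := SL2Inv.negOne * X) ?_ h) (not_isSc_of_trace hτ) ?_
      · rw [trace_negOne_mul, neg_sq]; exact hτ
      · have hz : IsSc (SL2Inv.negOne : SL2) := pr_eq_one.1 PSL2Inv.pr_negOne
        rw [← mul_assoc, ← hz.commute X, mul_assoc]
    refine gen (SL2Inv.negOne * X) (by rw [trace_negOne_mul, neg_sq]; exact hτ) (e ▸ hXH)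
      (hle.trans hle'.le) fun h => h2 ?_
    rw [trace_negOne_mul] at h
    linear_combination h + h1
  have ht1 : (tr X) = 1 := by linear_combination h1 - h2
  obtain ⟨r, hr⟩ := (hex.resolve_left (not_not.2 h2)).resolve_left (not_not.2 ht1)
  obtain ⟨c, hc, hconj⟩ := PSL2Products.exists_std (g := X) (not_isScalar_of_trace hτ)
  obtain ⟨y, hy⟩ := isConj_iff.1 hconj
  let U₀ : SL2 := ⟨!![0, r / c; c * (1 + r), 1], by
    rw [Matrix.det_fin_two_of]; field_simp; linear_combination -hr⟩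
  refine not_binary_of_factor (V := y⁻¹ * U₀ * y) hτ hXH hle ?_ ?_ fun hcomm => ?_
  · have := PStable.trace_conj y⁻¹ U₀
    rw [inv_inv] at this
    rw [this, ht1]; simp [U₀, Matrix.trace_fin_two]
  · have h := PStable.trace_conj y⁻¹ (U₀⁻¹ * PSL2Products.std (tr X) c hc)
    rw [inv_inv] at h
    rw [show (y⁻¹ * U₀ * y)⁻¹ * X = y⁻¹ * (U₀⁻¹ * (y * X * y⁻¹)) * y by group, hy, h, ht1]
    show (U₀.1.adjugate * (PSL2Products.std (1 : F) c hc).1).trace = 1
    simp [U₀, PSL2Products.std, Matrix.trace_fin_two, Matrix.mul_apply, Fin.sum_univ_two, Matrix.adjugate_fin_two]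
    field_simp
    linear_combination (0 : F) * h2
  · have h : U₀ * PSL2Products.std (tr X) c hc = PSL2Products.std (tr X) c hc * U₀ := by
      rw [← hy]
      calc U₀ * (y * X * y⁻¹) = y * ((y⁻¹ * U₀ * y) * X) * y⁻¹ := by group
        _ = y * (X * (y⁻¹ * U₀ * y)) * y⁻¹ := by rw [hcomm]
        _ = y * X * y⁻¹ * U₀ := by group
    have h00 := congrFun (congrFun (congrArg Subtype.val h) 0) 0
    change (U₀.1 * (PSL2Products.std (tr X) c hc).1) 0 0 = ((PSL2Products.std (tr X) c hc).1 * U₀.1) 0 0 at h00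
    simp [U₀, PSL2Products.std, Matrix.mul_apply, Fin.sum_univ_two] at h00
    field_simp at h00
    exact one_ne_zero (show (1 : F) = 0 by linear_combination h00 - r * h2)

end Cfsg.Agent.PSL2Binary
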