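import Cfsg.Agent.Lib.PSL2Binary.Borel
import Cfsg.Agent.Lib.PSL2Binary.Cyclic

/-!
Bringing a subgroup of a Sylow normaliser into triangular normal form.
-/

set_option autoImplicit false
set_option linter.unusedSectionVars false
set_option linter.unusedSimpArgs false
set_option linter.style.haveILetI false

namespace Cfsg.Agent.PSL2Binary

open Matrix PStable Cfsg.Agent.Dickson Cfsg.Agent.SzBinary

variable {F : Type*} [Field F] [Finite F]

local notation "SL2" => Matrix.SpecialLinearGroup (Fin 2) F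
local notation "M2" => Matrix (Fin 2) (Fin 2) F
local notation "P" => Matrix.ProjectiveSpecialLinearGroup (Fin 2) F
local notation "prH" => PSL2Inv.pr (F := F)
local notation "tr" X => Matrix.trace ((X : SL2) : M2)

/-- The automorphism of `PSL_2` induced by a matrix. -/
theorem exists_auto (g : GL (Fin 2) F) : ∃ φ : P ≃* P, ∀ X, φ (prH X) = prH (conjGL g X) := by
  obtain ⟨φ, hφ⟩ : ∃ φ : P →* P, ∀ X, φ (prH X) = prH (conjGL g X) :=
    ⟨QuotientGroup.lift _ ((prH).comp (conjGL g)) fun x hx => by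
      rw [Dickson.center_eq] at hx
      exact pr_eq_one.2 (isSc_conjGL.2 hx.2), fun X => rfl⟩
  have hinj : Function.Injective φ := by
    rw [injective_iff_map_eq_one]
    intro y hy
    obtain ⟨x, rfl⟩ := PSL2Inv.pr_surjective y
    rw [hφ] at hy
    exact pr_eq_one.2 (isSc_conjGL.1 (pr_eq_one.1 hy))
  exact ⟨MulEquiv.ofBijective φ ⟨hinj, Finite.injective_iff_surjective.1 hinj⟩, hφ⟩

/-- The image of the upper unitriangular matrices. -/
def root : Subgroup P where
  carrier := Set.range fun b : F => prH (upp b)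
  one_mem' := ⟨0, by simp [upp_zero]⟩
  mul_mem' := by
    rintro _ _ ⟨a, rfl⟩ ⟨b, rfl⟩
    exact ⟨a + b, by simp [← upp_mul]⟩
  inv_mem' := by
    rintro _ ⟨a, rfl⟩
    exact ⟨-a, by simp [← upp_inv]⟩

theorem pr_upp_injective : Function.Injective (fun b : F => prH (upp b)) := fun a b h => by
  have := (pr_form_inj (l := 1) (k := 1) (show prH (upp a * dg 1) = prH (upp b * dg 1) by simpa [dg_one] using h)).1
  exact this

theorem card_root : Nat.card (root : Subgroup P) = Nat.card F := by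
  refine Nat.card_congr (Equiv.ofBijective (fun b : F => (⟨prH (upp b), b, rfl⟩ : (root : Subgroup P)))
    ⟨fun a b h => pr_upp_injective (congrArg Subtype.val h), ?_⟩).symm
  rintro ⟨_, b, rfl⟩
  exact ⟨b, rfl⟩

theorem isPGroup_root (p : ℕ) [Fact p.Prime] [CharP F p] : IsPGroup p (root : Subgroup P) := fun x => ⟨1, by
  obtain ⟨_, b, rfl⟩ := x
  apply Subtype.ext
  rw [pow_one, SubmonoidClass.coe_pow, ← map_pow, upp_pow]
  simp [upp_zero]⟩

theorem mem_root_of_commute {a : P} (h : a * prH (upp 1) = prH (upp 1) * a) : a ∈ (root : Subgroup P) := by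
  obtain ⟨A, rfl⟩ := PSL2Inv.pr_surjective a
  rw [← map_mul, ← map_mul] at h
  have hA : A * upp 1 = upp 1 * A := by
    rcases PSL2Inv.pr_eq_iff.1 h with e | e
    · exact e.symm
    · by_cases h2 : (2 : F) = 0
      · rw [e, negOne_eq_one h2, one_mul]
      · exfalso
        have h' : A⁻¹ * upp 1 * A = SL2Inv.negOne * upp 1 := by
          rw [mul_assoc, e, ← mul_assoc, ← (show IsSc (SL2Inv.negOne : SL2) from pr_eq_one.1 PSL2Inv.pr_negOne).commute A⁻¹,
            mul_assoc, inv_mul_cancel_left]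
        have ht := PStable.trace_conj A⁻¹ (upp 1)
        rw [inv_inv, h', trace_negOne_mul] at ht
        simp [upp_val, Matrix.trace_fin_two] at ht
        exact h2 (by
          have : (2 : F) * 2 = 0 := by linear_combination -ht
          exact mul_self_eq_zero.1 this)
  have e00 := congrFun (congrFun (congrArg (fun Z : SL2 => (Z : M2)) hA) 0) 0
  have e01 := congrFun (congrFun (congrArg (fun Z : SL2 => (Z : M2)) hA) 0) 1
  change ((A : M2) * (upp 1 : SL2).1) 0 0 = ((upp 1 : SL2).1 * (A : M2)) 0 0 at e00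
  change ((A : M2) * (upp 1 : SL2).1) 0 1 = ((upp 1 : SL2).1 * (A : M2)) 0 1 at e01
  simp [upp_val, Matrix.mul_apply, Fin.sum_univ_two] at e00 e01
  have h10 : (A : M2) 1 0 = 0 := by linear_combination (exp := 1) (0 : F) * e01 + e00
  have h11 : (A : M2) 1 1 = (A : M2) 0 0 := by linear_combination -e01
  have hd := det_one A
  rw [h10, mul_zero, sub_zero, h11] at hd
  rcases mul_self_eq_one_iff.1 hd with h' | h'
  · refine ⟨(A : M2) 0 1, congrArg prH (Subtype.ext ?_)⟩
    show (upp ((A : M2) 0 1) : SL2).1 = (A : M2)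
    exact ext2 (by simp [upp_val, h']) (by simp [upp_val]) (by simp [upp_val, h10]) (by simp [upp_val, h11, h'])
  · refine ⟨-(A : M2) 0 1, (PSL2Inv.pr_eq_iff.2 (Or.inr (Subtype.ext ?_)))⟩
    show (A : M2) = (-1 : M2) * (upp (-(A : M2) 0 1) : SL2).1
    exact ext2 (by simp [upp_val, h']) (by simp [upp_val]) (by simp [upp_val, h10]) (by simp [upp_val, h11, h'])

/-- After an automorphism a subgroup of a Sylow normaliser becomes triangular. -/
theorem exists_triangular (p : ℕ) [Fact p.Prime] [CharP F p] {H : Subgroup P} (S : Sylow p P)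
    (hS : H ≤ Subgroup.normalizer ((S : Subgroup P) : Set P)) :
    ∃ φ : P ≃* P, (S : Subgroup P).map φ.toMonoidHom = root ∧
      ∀ X : SL2, prH X ∈ H.map φ.toMonoidHom → (X : M2) 1 0 = 0 := by
  classical
  have hp : p.Prime := Fact.out
  haveI : Nontrivial ((S : Subgroup P)) := by
    rw [Subgroup.nontrivial_iff_ne_bot]
    refine Sylow.ne_bot_of_dvd_card S ?_
    have ho : orderOf (prH (upp 1)) = p := orderOf_eq_prime
      (by rw [← map_pow, upp_pow]; simp [upp_zero]) (fun h => one_ne_zero (pr_upp_injective (a₂ := (0 : F))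
        (h.trans (by simp [upp_zero]))))
    exact ho ▸ orderOf_dvd_natCard _
  haveI := S.2.center_nontrivial
  obtain ⟨⟨z, hzc⟩, hz⟩ := exists_ne (1 : Subgroup.center (S : Subgroup P))
  obtain ⟨k, hk⟩ := S.2 z
  obtain ⟨y, hy⟩ : ∃ y : (S : Subgroup P), y ∈ Subgroup.center _ ∧ y ^ p = 1 ∧ y ≠ 1 := by
    have hz1 : z ≠ 1 := fun h => hz (Subtype.ext h)
    have hex : ∃ j, z ^ p ^ j = 1 := ⟨k, hk⟩
    set j := Nat.find hex with hj
    have hj0 : 0 < j := by
      rw [Nat.pos_iff_ne_zero]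
      intro h0
      have := Nat.find_spec hex
      rw [← hj, h0, pow_zero, pow_one] at this
      exact hz1 this
    refine ⟨z ^ p ^ (j - 1), Subgroup.pow_mem _ hzc _, ?_, Nat.find_min hex (by omega)⟩
    rw [← pow_mul, ← pow_succ, show j - 1 + 1 = j by omega]
    exact Nat.find_spec hex
  obtain ⟨hyc, hyp, hy1⟩ := hy
  obtain ⟨Y, hY⟩ := PSL2Inv.pr_surjective (y : P)
  have hyp' : prH Y ^ p = 1 := by rw [hY]; exact_mod_cast congrArg Subtype.val hyp
  have hy1' : prH Y ≠ 1 := fun h => hy1 (Subtype.ext (hY ▸ h))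
  obtain ⟨Z, hZ, hZp, hZ1⟩ : ∃ Z : SL2, prH Z = prH Y ∧ Z ^ p = 1 ∧ Z ≠ 1 := by
    have hYs : ¬ IsSc Y := fun h => hy1' (pr_eq_one.2 h)
    have ht : (tr Y) ^ 2 = 4 := by
      by_contra hne
      have hpm : prH Y ^ p = 1 := hyp'
      rw [← map_pow] at hpm
      -- a semisimple element has order prime to `p`
      have hc : Nat.Coprime p (Nat.card (cent (⊤ : Subgroup SL2) Y)) := by
        refine (Nat.Prime.coprime_iff_not_dvd hp).2 fun hd => ?_
        haveI := Fintype.ofFinite F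
        obtain ⟨n, -, hn⟩ := FiniteField.card F p
        rw [← Nat.card_eq_fintype_card] at hn
        have hq : p ∣ Nat.card F := hn ▸ dvd_pow_self p n.ne_zero
        have hpos : 1 ≤ Nat.card F := Nat.card_pos
        rcases card_cent_top hYs hne with e | e <;> rw [e] at hd
        · exact hp.not_dvd_one ((Nat.dvd_add_right hq).1 hd)
        · have := Nat.dvd_sub hq hd
          rw [show Nat.card F - (Nat.card F - 1) = 1 by omega] at this
          exact hp.not_dvd_one this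
      have ho : orderOf (prH Y) ∣ Nat.card (cent (⊤ : Subgroup SL2) Y) :=
        (orderOf_map_dvd prH Y).trans (Subgroup.orderOf_dvd_natCard _ (mem_cent.2 ⟨Subgroup.mem_top _, rfl⟩))
      refine hy1' (orderOf_eq_one_iff.1 ?_)
      exact Nat.eq_one_of_dvd_coprimes hc (orderOf_dvd_of_pow_eq_one hyp') ho
    obtain ⟨s, hs, -, hsY, hsY1⟩ := exists_sign (p := p) hYs ht
    exact ⟨s * Y, by rw [map_mul, pr_eq_one.2 hs, one_mul], hsY, hsY1⟩
  obtain ⟨g, hg⟩ := exists_conj_upp hZp hZ1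
  obtain ⟨φ, hφ⟩ := exists_auto g
  have hφy : φ (y : P) = prH (upp 1) := by
    rw [← hY, ← hZ, hφ]
    congr 1
    apply Subtype.ext
    rw [conjGL_val, mul_assoc, hg, ← mul_assoc, ← Units.val_mul, inv_mul_cancel, Units.val_one, one_mul]
  have hle : (S : Subgroup P).map φ.toMonoidHom ≤ root := by
    rintro _ ⟨w, hw, rfl⟩
    refine mem_root_of_commute ?_
    show φ w * _ = _ * φ w
    rw [← hφy, ← map_mul, ← map_mul]
    exact congrArg φ (congrArg Subtype.val (Subgroup.mem_center_iff.1 hyc ⟨w, hw⟩))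
  have hmap : (S : Subgroup P).map φ.toMonoidHom = root := by
    have hback : (S : Subgroup P) ≤ (root : Subgroup P).map φ.symm.toMonoidHom := fun w hw =>
      ⟨φ w, hle ⟨w, hw, rfl⟩, φ.symm_apply_apply w⟩
    have := S.is_maximal' ((isPGroup_root p).map φ.symm.toMonoidHom) hback
    rw [← this, Subgroup.map_map]
    ext w
    simp
  refine ⟨φ, hmap, ?_⟩
  rintro X ⟨a, ha, hX⟩
  have h1 : prH X * prH (upp 1) * (prH X)⁻¹ ∈ (root : Subgroup P) := by
    rw [← hX, ← hφy, ← hmap]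
    refine ⟨a * y * a⁻¹, (Subgroup.mem_normalizer_iff.1 (hS ha) _).1 y.2, ?_⟩
    simp
  obtain ⟨b, hb⟩ := h1
  rw [← map_inv, ← map_mul, ← map_mul] at hb
  have hz : (X * upp 1 * X⁻¹ : SL2).1 1 0 = 0 := by
    rcases PSL2Inv.pr_eq_iff.1 hb with e | e
    · rw [e]; simp [upp_val]
    · rw [e]
      show ((-1 : M2) * (upp b : SL2).1) 1 0 = 0
      simp [upp_val]
  change ((X : M2) * (upp 1 : SL2).1 * (X : M2).adjugate) 1 0 = 0 at hz
  simp [upp_val, Matrix.mul_apply, Fin.sum_univ_two, Matrix.adjugate_fin_two] at hz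
  by_contra hne
  exact hne (mul_self_eq_zero.1 (by linear_combination -hz))

/-- The translations of a subgroup. -/
def translations (H : Subgroup P) : AddSubgroup F where
  carrier := {b | prH (upp b) ∈ H}
  zero_mem' := by simp [upp_zero]
  add_mem' := fun {a b} ha hb => by
    show prH (upp (a + b)) ∈ H
    rw [← upp_mul, map_mul]; exact H.mul_mem ha hb
  neg_mem' := fun {a} ha => by
    show prH (upp (-a)) ∈ H
    rw [← upp_inv, map_inv]; exact H.inv_mem ha

/-- Moreover the torus part can be made diagonal. -/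
theorem exists_form {H : Subgroup P} (hH : ∀ X : SL2, prH X ∈ H → (X : M2) 1 0 = 0) :
    ∃ φ : P ≃* P, (root : Subgroup P).map φ.toMonoidHom = root ∧
      ∀ a ∈ H.map φ.toMonoidHom, ∃ b l, b ∈ translations (H.map φ.toMonoidHom) ∧
        prH (dg l) ∈ H.map φ.toMonoidHom ∧ a = prH (upp b * dg l) := by
  classical
  have hform : ∀ a ∈ H, ∃ b l, a = prH (upp b * dg l) := by
    intro a ha
    obtain ⟨A, rfl⟩ := PSL2Inv.pr_surjective a
    have h10 := hH A ha
    have hd := det_one A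
    rw [h10, mul_zero, sub_zero] at hd
    refine ⟨(A : M2) 0 1 * (A : M2) 0 0, Units.mk0 _ (left_ne_zero_of_mul_eq_one hd), congrArg prH (Subtype.ext ?_)⟩
    have hinv : ((A : M2) 0 0)⁻¹ = (A : M2) 1 1 := inv_eq_of_mul_eq_one_right hd
    show (A : M2) = (upp _ : SL2).1 * (dg _ : SL2).1
    have h0 := left_ne_zero_of_mul_eq_one hd
    refine ext2 ?_ ?_ ?_ ?_ <;> simp [upp_val, dg_val, Matrix.mul_fin_two, h10, hinv]
    rw [mul_assoc, hd, mul_one]
  let L : Subgroup Fˣ :=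
    { carrier := {l | ∃ b, prH (upp b * dg l) ∈ H}
      one_mem' := ⟨0, by simp [upp_zero, dg_one]⟩
      mul_mem' := fun {l k} ⟨b, hb⟩ ⟨c, hc⟩ => ⟨_, pr_form_mul b c l k ▸ H.mul_mem hb hc⟩
      inv_mem' := fun {l} ⟨b, hb⟩ => ⟨-(((l⁻¹ : Fˣ) : F) ^ 2 * b), by
        have h := H.inv_mem hb
        rw [← map_inv] at h
        convert h using 1
        rw [_root_.mul_inv_rev, dg_inv, upp_inv, neg_mul_eq_mul_neg, ← dg_conj_upp]
        group⟩ }
  haveI : IsCyclic L := inferInstance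
  obtain ⟨l₀, hl₀⟩ := IsCyclic.exists_generator (α := L)
  obtain ⟨d, hd⟩ : ∃ d : F, ((l₀ : Fˣ) : F) ^ 2 ≠ 1 → prH (upp (d * (1 - ((l₀ : Fˣ) : F) ^ 2)) * dg (l₀ : Fˣ)) ∈ H := by
    obtain ⟨b, hb⟩ := l₀.2
    by_cases h1 : ((l₀ : Fˣ) : F) ^ 2 = 1
    · exact ⟨0, fun h => absurd h1 h⟩
    · refine ⟨b / (1 - ((l₀ : Fˣ) : F) ^ 2), fun _ => ?_⟩
      rwa [div_mul_cancel₀ _ (sub_ne_zero.2 (Ne.symm h1))]
  obtain ⟨φ, hφ⟩ : ∃ φ : P ≃* P, ∀ X, φ (prH X) = (prH (upp d))⁻¹ * prH X * prH (upp d) :=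
    ⟨MulAut.conj (prH (upp d))⁻¹, fun X => by simp⟩
  have hshift : ∀ (b : F) (l : Fˣ), φ (prH (upp b * dg l)) = prH (upp (b - d * (1 - (l : F) ^ 2)) * dg l) := by
    intro b l
    rw [hφ, ← map_inv, ← map_mul, ← map_mul]
    congr 1
    rw [show b - d * (1 - (l : F) ^ 2) = -d + (b + (l : F) ^ 2 * d) by ring, ← upp_mul, ← upp_mul, ← dg_conj_upp,
      ← upp_inv]
    group
  have hroot : (root : Subgroup P).map φ.toMonoidHom = root := by
    ext w
    constructor
    · rintro ⟨_, ⟨b, rfl⟩, rfl⟩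
      refine ⟨b, ?_⟩
      have := hshift b 1
      simpa [dg_one] using this.symm
    · rintro ⟨b, rfl⟩
      refine ⟨prH (upp b), ⟨b, rfl⟩, ?_⟩
      have := hshift b 1
      simpa [dg_one] using this
  refine ⟨φ, hroot, ?_⟩
  have hl₀' : prH (dg (l₀ : Fˣ)) ∈ H.map φ.toMonoidHom := by
    by_cases h1 : ((l₀ : Fˣ) : F) ^ 2 = 1
    · rw [(pr_dg_eq_one_iff _).2 h1]; exact Subgroup.one_mem _
    · refine ⟨_, hd h1, ?_⟩
      rw [show φ.toMonoidHom (prH (upp (d * (1 - ((l₀ : Fˣ) : F) ^ 2)) * dg (l₀ : Fˣ))) = _ from hshift _ _,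
        sub_self, upp_zero, one_mul]
  have htor : ∀ l ∈ L, prH (dg l) ∈ H.map φ.toMonoidHom := by
    intro l hl
    obtain ⟨n, hn⟩ := hl₀ ⟨l, hl⟩
    have hn' : (l₀ : Fˣ) ^ n = l := congrArg Subtype.val hn
    let D : Fˣ →* P := MonoidHom.comp prH (MonoidHom.mk' (fun u : Fˣ => (dg u : SL2)) fun u v => (dg_mul u v).symm)
    rw [← hn', show prH (dg ((l₀ : Fˣ) ^ n)) = D ((l₀ : Fˣ) ^ n) from rfl, map_zpow]
    exact Subgroup.zpow_mem _ hl₀' n
  rintro _ ⟨a, ha, rfl⟩
  obtain ⟨b, l, rfl⟩ := hform a ha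
  refine ⟨_, l, ?_, htor l ⟨b, ha⟩, hshift b l⟩
  show prH (upp (b - d * (1 - (l : F) ^ 2))) ∈ H.map φ.toMonoidHom
  have h := (H.map φ.toMonoidHom).mul_mem ⟨_, ha, hshift b l⟩ (Subgroup.inv_mem _ (htor l ⟨b, ha⟩))
  rwa [map_mul, mul_inv_cancel_right] at h

end Cfsg.Agent.PSL2Binary
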