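import Cfsg.Agent.Lib.PSL2Binary.Cyclic
import Cfsg.Agent.Lib.Classical.SL2Classes

/-!
Dihedral subgroups.
-/

set_option autoImplicit false
set_option linter.unusedSectionVars false
set_option linter.unusedSimpArgs false
set_option linter.style.haveILetI false

namespace Cfsg.Agent.PSL2Binary

open Matrix PStable Cfsg.Agent.Dickson Cfsg.Agent.SzBinary

variable {F : Type*} [Field F] [Finite F]

local notation "SL2" => Matrix.SpecialLinearGroup (Fin 2) F
local notation "M2" => Matrix (Fin 2) (Fin 2) F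
local notation "P" => Matrix.ProjectiveSpecialLinearGroup (Fin 2) F
local notation "prH" => PSL2Inv.pr (F := F)
local notation "tr" X => Matrix.trace ((X : SL2) : M2)

/-- Some involution of the torus of `X` inverts `V`. -/
def Perp (X V : SL2) : Prop :=
  ∃ Y : SL2, ¬ IsSc Y ∧ (tr Y) = 0 ∧ Y * X = X * Y ∧ Y * V * Y⁻¹ = V⁻¹

theorem trace_zero_of_sq {A : SL2} (h : prH A * prH A = 1) (hA : ¬ IsSc A) : (tr A) = 0 := by
  rw [← map_mul] at h
  obtain ⟨c, hc⟩ := pr_eq_one.1 h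
  by_contra h0
  refine hA ⟨(c + 1) / (tr A), ?_⟩
  have e : (tr A) • (A : M2) - 1 = c • (1 : M2) := by
    rw [← sq_val]
    exact hc
  rw [div_eq_inv_mul, ← smul_smul, add_smul, one_smul, ← e, sub_add_cancel, inv_smul_smul₀ h0]

theorem sq_ne_one {A : SL2} (hA : ¬ IsSc A) (h0 : (tr A) ≠ 0) : prH A * prH A ≠ 1 :=
  fun h => h0 (trace_zero_of_sq h hA)

theorem invert_of_commute {X V S : SL2} (hτ : (tr X) ^ 2 ≠ 4) (h0 : (tr X) ≠ 0) (hVτ : (tr V) ^ 2 ≠ 4)
    (hS : S * X * S⁻¹ = X⁻¹) (hc : V * X = X * V) : S * V * S⁻¹ = V⁻¹ := by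
  have h1 : (S * V * S⁻¹) * X⁻¹ = X⁻¹ * (S * V * S⁻¹) := by
    rw [← hS]
    calc S * V * S⁻¹ * (S * X * S⁻¹) = S * (V * X) * S⁻¹ := by group
      _ = S * (X * V) * S⁻¹ := by rw [hc]
      _ = S * X * S⁻¹ * (S * V * S⁻¹) := by group
  have h2 : (S * V * S⁻¹) * X = X * (S * V * S⁻¹) := (Commute.inv_right_iff.1 h1 :)
  have hX := not_isSc_of_trace hτ
  rcases commute_eq_or_inv' (not_isSc_of_trace hVτ) (commute_trans hX hc.symm h2.symm)
    (PStable.trace_conj S V) hVτ with h | h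
  · exfalso
    have h3 : S * V = V * S := by
      calc S * V = S * V * S⁻¹ * S := by group
        _ = V * S := by rw [h]
    have h4 : S * X = X * S := (commute_trans (not_isSc_of_trace hVτ) hc h3.symm).symm
    rw [h4, mul_inv_cancel_right] at hS
    refine sq_ne_one hX h0 ?_
    nth_rw 2 [hS]
    rw [map_inv, mul_inv_cancel]
  · exact h

/-- A reflection that is a product of two conjugates of rotations, in general position. -/
theorem not_binary_of_reflection {H : Subgroup P} {X S V W Y Y' g₂ g₃ : SL2}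
    (hτ : (tr X) ^ 2 ≠ 4) (h0 : (tr X) ≠ 0) (hsH : prH S ∈ H) (hS0 : (tr S) = 0)
    (hS : S * X * S⁻¹ = X⁻¹)
    (hdec : ∀ a ∈ H, a ∈ tor X ∨ a * prH X * a⁻¹ = (prH X)⁻¹)
    (hV : g₂ * Y * g₂⁻¹ = V) (hYH : prH Y ∈ H) (hYX : Y * X = X * Y)
    (hW : g₃ * Y' * g₃⁻¹ = W) (hY'H : prH Y' ∈ H) (hY'X : Y' * X = X * Y') (hVW : S = V * W)
    (hVτ : (tr V) ^ 2 ≠ 4) (hV0 : (tr V) ≠ 0) (hWτ : (tr W) ^ 2 ≠ 4) (hW0 : (tr W) ≠ 0)
    (hperpV : ¬ Perp X V) (hperpV' : ¬ Perp V X) (hperpW : ¬ Perp X W) (hperpW' : ¬ Perp W X) :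
    ¬ BinaryOn H := by
  have hX := not_isSc_of_trace hτ
  set x := prH X with hx
  set s := prH S with hs
  have hsx : s * x * s⁻¹ = x⁻¹ := by rw [hs, hx, ← map_inv, ← map_mul, ← map_mul, hS, map_inv]
  have hss : s * s = 1 := PSL2Inv.pr_mul_self hS0
  have hVW' : s = prH V * prH W := by rw [hs, hVW, map_mul]
  have hsV : ¬ (S * V * S⁻¹ = V⁻¹) := fun h => by
    refine sq_ne_one (not_isSc_of_trace hWτ) hW0 ?_
    have h' : s * prH V * s⁻¹ = (prH V)⁻¹ := by rw [hs, ← map_inv, ← map_mul, ← map_mul, h, map_inv]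
    have hw : prH W = (prH V)⁻¹ * s := by rw [hVW']; group
    rw [hw]
    calc (prH V)⁻¹ * s * ((prH V)⁻¹ * s) = (s * prH V * s⁻¹) * s * ((prH V)⁻¹ * s) := by rw [h']
      _ = s * s := by group
      _ = 1 := hss
  have hsW : ¬ (S * W * S⁻¹ = W⁻¹) := fun h => by
    refine sq_ne_one (not_isSc_of_trace hVτ) hV0 ?_
    have h' : s * prH W * s⁻¹ = (prH W)⁻¹ := by rw [hs, ← map_inv, ← map_mul, ← map_mul, h, map_inv]
    have hv : prH V = s * (prH W)⁻¹ := by rw [hVW']; group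
    rw [hv]
    calc s * (prH W)⁻¹ * (s * (prH W)⁻¹) = s * (s * prH W * s⁻¹) * (s * (prH W)⁻¹) := by rw [h']
      _ = s * s := by group
      _ = 1 := hss
  have key : ∀ (g Z U : SL2), g * Z * g⁻¹ = U → prH Z ∈ H → Z * X = X * Z → (tr U) ^ 2 ≠ 4 → (tr U) ≠ 0 →
      ¬ Perp X U → ¬ Perp U X → ¬ (S * U * S⁻¹ = U⁻¹) →
      ∀ a, a ∈ H → (prH g)⁻¹ * a * prH g ∈ H →
        a = 1 ∨ (a * x * a⁻¹ = x⁻¹ ∧ a * prH U * a⁻¹ = (prH U)⁻¹) := by
    intro g Z U hU _ hZX hUτ hU0 hp hp' hnot a ha ha'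
    have hZ : ¬ IsSc Z := fun h => not_isSc_of_trace hUτ (hU ▸ isSc_conj_iff.2 h)
    have htor : tor (g * X * g⁻¹) = tor U := by
      rw [← hU]
      refine (tor_eq_of_mem (fun h => hX (isSc_conj_iff.1 h)) (fun h => hZ (isSc_conj_iff.1 h)) ?_).symm
      calc g * Z * g⁻¹ * (g * X * g⁻¹) = g * (Z * X) * g⁻¹ := by group
        _ = g * (X * Z) * g⁻¹ := by rw [hZX]
        _ = g * X * g⁻¹ * (g * Z * g⁻¹) := by group
    by_cases ha1 : a = 1
    · exact Or.inl ha1
    obtain ⟨A, rfl⟩ := PSL2Inv.pr_surjective a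
    have hA : ¬ IsSc A := fun h => ha1 (pr_eq_one.2 h)
    set x' := prH (g * X * g⁻¹) with hx'
    have hUX : U * X ≠ X * U := fun h => hnot (invert_of_commute hτ h0 hUτ hS h)
    -- the position of the element in the second group
    have hinvU : ∀ B : SL2, prH B * x' * (prH B)⁻¹ = x'⁻¹ → B * U * B⁻¹ = U⁻¹ := by
      intro B hB
      have hτ' : (tr (g * X * g⁻¹)) ^ 2 ≠ 4 := by rw [PStable.trace_conj]; exact hτ
      have h0' : (tr (g * X * g⁻¹)) ≠ 0 := by rw [PStable.trace_conj]; exact h0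
      refine invert_of_commute hτ' h0' hUτ (invert_lift hB h0') ?_
      rw [← hU]
      calc g * Z * g⁻¹ * (g * X * g⁻¹) = g * (Z * X) * g⁻¹ := by group
        _ = g * (X * Z) * g⁻¹ := by rw [hZX]
        _ = g * X * g⁻¹ * (g * Z * g⁻¹) := by group
    have h2 : prH A ∈ tor U ∨ A * U * A⁻¹ = U⁻¹ := by
      rcases hdec _ ha' with h | h
      · left
        have := (conj_mem_tor g X).2 h
        rwa [show prH g * ((prH g)⁻¹ * prH A * prH g) * (prH g)⁻¹ = prH A by group, htor] at this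
      · right
        refine hinvU A ?_
        rw [hx', map_mul, map_mul, map_inv]
        calc prH A * (prH g * x * (prH g)⁻¹) * (prH A)⁻¹
            = prH g * (((prH g)⁻¹ * prH A * prH g) * x * ((prH g)⁻¹ * prH A * prH g)⁻¹) * (prH g)⁻¹ := by group
          _ = (prH g * x * (prH g)⁻¹)⁻¹ := by rw [h]; group
    have hinv_zero : ∀ B C : SL2, (tr C) ^ 2 ≠ 4 → (tr C) ≠ 0 → ¬ IsSc B → B * C = C * B →
        ∀ D : SL2, (tr D) ^ 2 ≠ 4 → B * D * B⁻¹ = D⁻¹ → D * C ≠ C * D → (tr B) = 0 := by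
      intro B C hC _ hB hBC D hD hBD hDC
      by_contra hB0
      -- the square of `B` commutes with both, hence is scalar
      have hB2 : (B * B) * D = D * (B * B) := by
        have e : B * D⁻¹ * B⁻¹ = D := by
          rw [show B * D⁻¹ * B⁻¹ = (B * D * B⁻¹)⁻¹ by group, hBD, inv_inv]
        calc B * B * D = B * (B * D * B⁻¹) * B := by group
          _ = (B * D⁻¹ * B⁻¹) * (B * B) := by rw [hBD]; group
          _ = D * (B * B) := by rw [e]
      by_cases hs2 : IsSc (B * B)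
      · exact hB0 (trace_zero_of_sq (by rw [← map_mul]; exact pr_eq_one.2 hs2) hB)
      · refine hDC (commute_trans hs2 hB2 ?_)
        calc B * B * C = B * (B * C) := mul_assoc _ _ _
          _ = B * (C * B) := by rw [hBC]
          _ = B * C * B := (mul_assoc _ _ _).symm
          _ = C * B * B := by rw [hBC]
          _ = C * (B * B) := mul_assoc _ _ _
    rcases hdec _ ha with h1 | h1 <;> rcases h2 with h2 | h2
    · exfalso
      refine hUX (commute_of_mem_tor ?_)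
      rw [← tor_eq_of_common (not_isSc_of_trace hUτ) hX h2 h1 ha1]
      exact mem_tor_self _
    · exfalso
      have hc := commute_of_mem_tor h1
      exact hp ⟨A, hA, hinv_zero A X hτ h0 hA hc U hUτ h2 hUX, hc, h2⟩
    · exfalso
      have hc := commute_of_mem_tor h2
      have hi := invert_lift h1 h0
      exact hp' ⟨A, hA, hinv_zero A U hUτ hU0 hA hc X hτ hi (Ne.symm hUX), hc, hi⟩
    · exact Or.inr ⟨h1, by rw [← map_inv, ← map_mul, ← map_mul, h2, map_inv]⟩
  have hvH : (prH g₂)⁻¹ * prH V * prH g₂ ∈ H := by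
    rw [← hV, map_mul, map_mul, map_inv]; simpa [mul_assoc] using hYH
  have hwH : (prH g₃)⁻¹ * prH W * prH g₃ ∈ H := by
    rw [← hW, map_mul, map_mul, map_inv]; simpa [mul_assoc] using hY'H
  refine not_binary_of_disjoint (prH g₂) (prH g₃) hsH hvH hwH hVW' fun a b ha ha' hb hb' e => ?_
  rcases key g₂ Y V hV hYH hYX hVτ hV0 hperpV hperpV' hsV a ha ha' with rfl | ⟨hax, hav⟩
  · rw [one_mul] at e
    subst e
    rcases key g₃ Y' W hW hY'H hY'X hWτ hW0 hperpW hperpW' hsW _ hb hb' with h | ⟨-, h⟩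
    · have hns : ¬ IsSc S := fun h' => h0 (by
        rw [h'.commute X, mul_inv_cancel_right] at hS
        by_contra
        refine sq_ne_one hX h0 ?_
        nth_rw 2 [hS]
        rw [map_inv, mul_inv_cancel])
      exact hns (pr_eq_one.1 h)
    · exact hsW (invert_lift h hW0)
  · rcases key g₃ Y' W hW hY'H hY'X hWτ hW0 hperpW hperpW' hsW b hb hb' with rfl | ⟨hbx, -⟩
    · rw [mul_one] at e
      subst e
      exact hsV (invert_lift hav hV0)
    · refine sq_ne_one hX h0 ?_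
      have h1 : a * b * x * (a * b)⁻¹ = x := by
        calc a * b * x * (a * b)⁻¹ = a * (b * x * b⁻¹) * a⁻¹ := by group
          _ = (a * x * a⁻¹)⁻¹ := by rw [hbx]; group
          _ = x := by rw [hax, inv_inv]
      rw [e, hsx] at h1
      rw [← hx]
      nth_rw 2 [← h1]
      rw [mul_inv_cancel]

theorem perp_iff_odd {X V : SL2} (h2 : (2 : F) ≠ 0) (hX : ¬ IsSc X) (hp : Perp X V) :
    2 * (tr (X * V)) = (tr X) * (tr V) := by
  obtain ⟨Y, hY, hY0, hYX, hYV⟩ := hp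
  obtain ⟨α, β, e⟩ := exists_repr hX hYX.symm
  have hβ : β ≠ 0 := fun h => hY ⟨α, by rw [e, h, zero_smul, add_zero]⟩
  have h1 : Y * V = V⁻¹ * Y := by rw [← hYV]; group
  have h2' : ((Y : M2) * (V : M2)).trace = ((V : M2).adjugate * (Y : M2)).trace := by
    have h := congrArg (fun Z : SL2 => (Z : M2).trace) h1
    exact h
  rw [e] at h2'
  simp [Matrix.vecMul, dotProduct, Matrix.trace_fin_two, Matrix.mul_apply, Fin.sum_univ_two, Matrix.adjugate_fin_two] at h2'
  show 2 * ((X : M2) * (V : M2)).trace = _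
  simp [Matrix.trace_fin_two, Matrix.mul_apply, Fin.sum_univ_two]
  refine sub_eq_zero.1 ((mul_eq_zero.1 ?_).resolve_left hβ)
  linear_combination h2'

theorem not_perp_two {X V : SL2} (h2 : (2 : F) = 0) (hX : ¬ IsSc X) (h0 : (tr X) ≠ 0) : ¬ Perp X V := by
  rintro ⟨Y, hY, hY0, hYX, -⟩
  obtain ⟨α, β, e⟩ := exists_repr hX hYX.symm
  rw [e] at hY0
  simp [Matrix.trace_add, Matrix.trace_smul] at hY0
  exact hY ⟨α, by rw [e, (mul_eq_zero.1 (show β * (tr X) = 0 by linear_combination hY0 - α * h2)).resolve_right h0,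
    zero_smul, add_zero]⟩

end Cfsg.Agent.PSL2Binary
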