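import Cfsg.Agent.Lib.PSL2Binary.Cyclic
import Cfsg.Agent.Lib.PSL2Binary.Dihedral
import Cfsg.Agent.Lib.PSL2Binary.BorelPrep
import Cfsg.Agent.Lib.Classical.DicksonProper
import Mathlib.FieldTheory.Finite.Basic

/-!
The binary actions in characteristic two.
-/

set_option autoImplicit false
set_option linter.unusedSectionVars false
set_option linter.unusedSimpArgs false
set_option linter.style.haveILetI false

namespace Cfsg.Agent.PSL2Binary

open Matrix PStable Cfsg.Agent.Dickson Cfsg.Agent.SzBinary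

variable {F : Type*} [Field F] [Finite F]

local notation "SL2" => Matrix.SpecialLinearGroup (Fin 2) F
local notation "M2" => Matrix (Fin 2) (Fin 2) F
local notation "P" => Matrix.ProjectiveSpecialLinearGroup (Fin 2) F
local notation "prH" => PSL2Inv.pr (F := F)
local notation "tr" X => Matrix.trace ((X : SL2) : M2)

theorem pr_inj_two (h2 : (2 : F) = 0) {X Y : SL2} (h : prH X = prH Y) : X = Y := by
  rcases PSL2Inv.pr_eq_iff.1 h with e | e
  · exact e.symm
  · rw [e, negOne_eq_one h2, one_mul]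

theorem not_isSc_two (h2 : (2 : F) = 0) {X : SL2} (h : prH X ≠ 1) : ¬ IsSc X := fun hs => h (pr_eq_one.2 hs)

/-- In even characteristic commuting is transitive away from the identity. -/
theorem comm_trans_two (h2 : (2 : F) = 0) {a b v : P} (hv : v ≠ 1) (ha : a * v = v * a) (hb : b * v = v * b) :
    a * b = b * a := by
  obtain ⟨A, rfl⟩ := PSL2Inv.pr_surjective a
  obtain ⟨B, rfl⟩ := PSL2Inv.pr_surjective b
  obtain ⟨V, rfl⟩ := PSL2Inv.pr_surjective v
  rw [← map_mul, ← map_mul] at ha hb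
  rw [← map_mul, ← map_mul,
    commute_trans (not_isSc_two h2 hv) (pr_inj_two h2 ha).symm (pr_inj_two h2 hb).symm]

theorem sq_eq_one_of_sylow [CharP F 2] {y : P} (S : Sylow 2 P) (hy : y ∈ (S : Subgroup P)) : y * y = 1 := by
  haveI : Fact (Nat.Prime 2) := ⟨Nat.prime_two⟩
  have h2 : (2 : F) = 0 := by simpa using CharP.cast_eq_zero F 2
  obtain ⟨R, hR⟩ := IsPGroup.exists_le_sylow (isPGroup_root (F := F) 2)
  have hRc : (R : Subgroup P) ≤ root := by
    have hidx : ¬ 2 ∣ (root : Subgroup P).index := by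
      intro hd
      have h1 := (root : Subgroup P).card_mul_index
      have h3 := zz_mul_card (F := F)
      rw [← h1, card_root, card_center] at h3
      haveI := Fintype.ofFinite F
      obtain ⟨m, -, hm⟩ := FiniteField.card F 2
      rw [← Nat.card_eq_fintype_card] at hm
      have he : 2 ∣ Nat.card F := hm ▸ dvd_pow_self 2 m.ne_zero
      rw [Nat.Coprime.gcd_eq_one (Nat.coprime_two_left.2 (by
        rw [Nat.odd_iff]; have := Finite.one_lt_card (α := F); omega)), one_mul] at h3
      have h4 := Nat.eq_of_mul_eq_mul_left Nat.card_pos h3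
      rw [h4] at hd
      have h5 := Nat.dvd_sub (dvd_pow he two_ne_zero : 2 ∣ Nat.card F ^ 2) hd
      rw [Nat.sub_sub_self (Nat.one_le_pow _ _ Nat.card_pos)] at h5
      omega
    refine (Subgroup.eq_of_le_of_card_ge hR ?_).ge
    obtain ⟨m, hm⟩ := IsPGroup.iff_card.1 R.2
    have h6 : Nat.card (R : Subgroup P) ∣ (root : Subgroup P).index * Nat.card (root : Subgroup P) := by
      rw [Subgroup.index_mul_card]; exact Subgroup.card_subgroup_dvd_card _
    rw [hm] at h6 ⊢
    exact Nat.le_of_dvd Nat.card_pos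
      (((Nat.Prime.coprime_iff_not_dvd Nat.prime_two).2 hidx).pow_left m |>.dvd_of_dvd_mul_left h6)
  obtain ⟨g, hg⟩ := MulAction.exists_smul_eq P R S
  rw [← hg, Sylow.coe_subgroup_smul, Subgroup.mem_pointwise_smul_iff_inv_smul_mem] at hy
  obtain ⟨b, hb⟩ := hRc hy
  have h0 : prH (upp b) * prH (upp b) = 1 := by
    rw [← map_mul, ← map_one prH]
    refine congrArg prH (Subtype.ext ?_)
    show (upp b : SL2).1 * (upp b : SL2).1 = 1
    have : b + b = 0 := by linear_combination b * h2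
    ext i j; fin_cases i <;> fin_cases j <;> simp [upp_val, Matrix.mul_apply, Fin.sum_univ_two, this]
  change prH (upp b) = _ at hb
  rw [hb] at h0
  have hy' : y = g * ((MulAut.conj g)⁻¹ • y) * g⁻¹ := by simp [mul_assoc]
  rw [hy']
  calc g * _ * g⁻¹ * (g * _ * g⁻¹) = g * (((MulAut.conj g)⁻¹ • y) * ((MulAut.conj g)⁻¹ • y)) * g⁻¹ := by group
    _ = 1 := by rw [h0]; group

theorem binary_sylow_two [CharP F 2] (S : Sylow 2 P) : BinaryOn (S : Subgroup P) := by
  classical
  haveI : Fact (Nat.Prime 2) := ⟨Nat.prime_two⟩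
  have h2 : (2 : F) = 0 := by simpa using CharP.cast_eq_zero F 2
  have hcomm : ∀ y ∈ (S : Subgroup P), ∀ w ∈ (S : Subgroup P), y * w = w * y := fun y hy w hw => by
    have h : ∀ s ∈ (S : Subgroup P), s = s⁻¹ := fun s hs => eq_inv_of_mul_eq_one_left (sq_eq_one_of_sylow S hs)
    rw [h _ ((S : Subgroup P).mul_mem hy hw), _root_.mul_inv_rev, ← h _ hy, ← h _ hw]
  have hmem : ∀ v ∈ (S : Subgroup P), v ≠ 1 → ∀ y, y ∈ (S : Subgroup P) ↔ y * y = 1 ∧ y * v = v * y := by
    intro v hv hv1
    let Q : Subgroup P :=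
      { carrier := {y | y * y = 1 ∧ y * v = v * y}
        one_mem' := ⟨one_mul 1, by simp⟩
        mul_mem' := fun {y w} hy hw => by
          refine ⟨?_, by rw [mul_assoc, hw.2, ← mul_assoc, hy.2, mul_assoc]⟩
          rw [show y * w * (y * w) = y * (w * y) * w by group, ← comm_trans_two h2 hv1 hy.2 hw.2,
            show y * (y * w) * w = (y * y) * (w * w) by group, hy.1, hw.1, one_mul]
        inv_mem' := fun {y} hy => by rwa [inv_eq_of_mul_eq_one_left hy.1] }
    have hQ : IsPGroup 2 Q := fun y => ⟨1, Subtype.ext (by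
      rw [pow_one, pow_two]; exact y.2.1)⟩
    have hQS : Q = (S : Subgroup P) :=
      S.is_maximal' hQ fun y hy => ⟨sq_eq_one_of_sylow S hy, hcomm y hy v hv⟩
    intro y
    rw [← hQS]
    rfl
  refine binary_of_tri fun x₁ x₂ x₃ u v hu hv hw hu1 hv1 z => ?_
  have hconj : ∀ (x s : P), (x⁻¹ * s * x) * (x⁻¹ * s * x) = 1 → s * s = 1 := fun x s h => by
    calc s * s = x * ((x⁻¹ * s * x) * (x⁻¹ * s * x)) * x⁻¹ := by group
      _ = 1 := by rw [h]; group
  have hiff : ∀ (x s : P), x⁻¹ * s * x ∈ (S : Subgroup P) → s ≠ 1 → ∀ y,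
      x⁻¹ * y * x ∈ (S : Subgroup P) ↔ y * y = 1 ∧ y * s = s * y := by
    intro x s hs hs1 y
    have h1 : x⁻¹ * s * x ≠ 1 := fun h => hs1 (by
      calc s = x * (x⁻¹ * s * x) * x⁻¹ := by group
        _ = 1 := by rw [h]; group)
    rw [hmem _ hs h1]
    constructor
    · rintro ⟨ha, hb⟩
      refine ⟨hconj x y ha, ?_⟩
      calc y * s = x * ((x⁻¹ * y * x) * (x⁻¹ * s * x)) * x⁻¹ := by group
        _ = x * ((x⁻¹ * s * x) * (x⁻¹ * y * x)) * x⁻¹ := by rw [hb]
        _ = s * y := by group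
    · rintro ⟨ha, hb⟩
      refine ⟨?_, ?_⟩
      · rw [show x⁻¹ * y * x * (x⁻¹ * y * x) = x⁻¹ * (y * y) * x by group, ha]; group
      · calc x⁻¹ * y * x * (x⁻¹ * s * x) = x⁻¹ * (y * s) * x := by group
          _ = x⁻¹ * (s * y) * x := by rw [hb]
          _ = x⁻¹ * s * x * (x⁻¹ * y * x) := by group
  have huu := hconj _ _ (sq_eq_one_of_sylow S hu)
  have hvv := hconj _ _ (sq_eq_one_of_sylow S hv)
  have hww := hconj _ _ (sq_eq_one_of_sylow S hw)
  have huv : v * u = u * v := by
    rw [inv_eq_of_mul_eq_one_left huu] at hww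
    calc v * u = u * u * (v * u) * (v * v) := by rw [huu, hvv, one_mul, mul_one]
      _ = u * (u * v * (u * v)) * v := by group
      _ = u * v := by rw [hww, mul_one]
  rw [hiff x₁ u hu hu1, hiff x₂ v hv hv1]
  exact and_congr_right fun _ => ⟨fun h => comm_trans_two h2 hu1 h huv,
    fun h => comm_trans_two h2 hv1 h huv.symm⟩

theorem exists_lift_three (h2 : (2 : F) = 0) {x : P} (h3 : x ^ 3 = 1) (hx : x ≠ 1) :
    ∃ X : SL2, prH X = x ∧ (tr X) = 1 := by
  obtain ⟨X, rfl⟩ := PSL2Inv.pr_surjective x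
  refine ⟨X, rfl, ?_⟩
  have hinv : X * X = X⁻¹ := eq_inv_of_mul_eq_one_left (pr_inj_two h2 (by
    rw [map_mul, map_mul, map_one, ← pow_two, ← pow_succ]; exact h3))
  have ht : (tr X) ^ 2 - 2 = tr X := by
    have := congrArg (fun Z : SL2 => tr Z) hinv
    simp only [trace_mul_self, trace_inv] at this
    exact this
  have h0 : (tr X) * ((tr X) - 1) = 0 := by linear_combination ht + h2
  refine sub_eq_zero.1 ((mul_eq_zero.1 h0).resolve_left fun h => hx ?_)
  have hsq := PSL2Inv.pr_mul_self h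
  rwa [pow_succ, pow_two, hsq, one_mul] at h3

/-- Three elements of order three cannot form a proper triangle. -/
theorem commute_of_traces (h2 : (2 : F) = 0) (hno : ∀ r : F, r ^ 2 + r + 1 ≠ 0) {U V : SL2} (hU : (tr U) = 1)
    (hV : (tr V) = 1) (hW : (tr (U⁻¹ * V)) = 1) : V * U = U * V := by
  have hτ : (tr U) ^ 2 ≠ 4 := by
    rw [hU]; intro h; exact one_ne_zero (show (1 : F) = 0 by linear_combination h + 2 * h2)
  obtain ⟨c, hc, hconj⟩ := PSL2Products.exists_std (g := U) (not_isScalar_of_trace hτ)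
  obtain ⟨y, hy⟩ := isConj_iff.1 hconj
  set T := PSL2Products.std (tr U) c hc with hT
  set V₁ := y * V * y⁻¹ with hV₁
  have h1 : (tr V₁) = 1 := by rw [hV₁, PStable.trace_conj, hV]
  have h3 : (tr (T⁻¹ * V₁)) = 1 := by
    rw [hV₁, ← hy, show (y * U * y⁻¹)⁻¹ * (y * V * y⁻¹) = y * (U⁻¹ * V) * y⁻¹ by group, PStable.trace_conj, hW]
  suffices h : V₁ = T⁻¹ by
    have hc' : V₁ * T = T * V₁ := by rw [h]; group
    calc V * U = y⁻¹ * (V₁ * T) * y := by rw [hV₁, ← hy]; group
      _ = y⁻¹ * (T * V₁) * y := by rw [hc']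
      _ = U * V := by rw [hV₁, ← hy]; group
  have hd := det_one V₁
  have hadj : T.1.adjugate = !![1, c⁻¹; -c, 0] := by
    simp [hT, hU, PSL2Products.std, Matrix.adjugate_fin_two]
  change (T.1.adjugate * V₁.1).trace = 1 at h3
  rw [hadj, Matrix.trace_fin_two, Matrix.mul_apply, Matrix.mul_apply] at h3
  simp only [Fin.sum_univ_two, Matrix.of_apply, Matrix.cons_val', Matrix.cons_val_zero, Matrix.cons_val_one,
    Matrix.cons_val_fin_one] at h3
  rw [Matrix.trace_fin_two] at h1
  generalize hp : (V₁ : M2) 0 0 = p at *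
  generalize hb : (V₁ : M2) 0 1 = b at *
  generalize hg : (V₁ : M2) 1 0 = g at *
  generalize hs : (V₁ : M2) 1 1 = s at *
  have hcc : c * c⁻¹ = 1 := mul_inv_cancel₀ hc
  have hg' : g = c * (1 + p + c * b) := by
    linear_combination (c : F) * h3 - g * hcc + (-(c * p)) * h2
  have hz : (p + 1) ^ 2 + (p + 1) * (c * b + 1) + (c * b + 1) ^ 2 = 0 := by
    linear_combination -hd + p * h1 + (-b) * hg' + (1 + 2 * p + c * b) * h2
  have hA : p + 1 = 0 := by
    by_contra hA
    refine hno ((c * b + 1) / (p + 1)) ?_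
    field_simp
    linear_combination hz
  have hB : c * b + 1 = 0 := pow_eq_zero_iff two_ne_zero |>.1
    (show (c * b + 1) ^ 2 = 0 by linear_combination hz - (p + 1 + (c * b + 1)) * hA)
  refine Subtype.ext ?_
  show (V₁ : M2) = T.1.adjugate
  ext i j
  fin_cases i <;> fin_cases j <;> simp [hT, hU, PSL2Products.std, Matrix.adjugate_fin_two, hp, hb, hg, hs]
  · linear_combination hA - h2
  · linear_combination c⁻¹ * hB - b * hcc - c⁻¹ * h2
  · linear_combination hg' + c * hA + c * hB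
  · linear_combination h1 - hA + h2

theorem binary_three (h2 : (2 : F) = 0) (hno : ∀ r : F, r ^ 2 + r + 1 ≠ 0) {H : Subgroup P}
    (hH : Nat.card H = 3) : BinaryOn H := by
  have hcube : ∀ y ∈ H, y ^ 3 = 1 := fun y hy => by
    have := pow_card_eq_one' (G := H) (x := ⟨y, hy⟩)
    rw [hH] at this
    exact congrArg Subtype.val this
  have hconj3 : ∀ (x s : P), x⁻¹ * s * x ∈ H → s ^ 3 = 1 := fun x s hs => by
    have h := hcube _ hs
    have := conj_pow (i := 3) (a := x⁻¹) (b := s)
    rw [inv_inv] at this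
    rw [this] at h
    calc s ^ 3 = x * (x⁻¹ * s ^ 3 * x) * x⁻¹ := by group
      _ = 1 := by rw [h]; group
  have hiff : ∀ (x s : P), x⁻¹ * s * x ∈ H → s ≠ 1 → ∀ y,
      x⁻¹ * y * x ∈ H ↔ y ∈ Subgroup.zpowers s := by
    intro x s hs hs1 y
    haveI := Fact.mk Nat.prime_three
    have ho : orderOf s = 3 := orderOf_eq_prime (hconj3 x s hs) hs1
    have hz : Subgroup.zpowers s = H.map (MulAut.conj x).toMonoidHom := by
      refine Subgroup.eq_of_le_of_card_ge (Subgroup.zpowers_le.2 ⟨_, hs, by simp [mul_assoc]⟩) ?_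
      rw [Subgroup.card_map_of_injective (MulAut.conj x).injective, hH, Nat.card_zpowers, ho]
    rw [hz, Subgroup.mem_map_equiv]
    simp [mul_assoc]
  refine binary_of_tri fun x₁ x₂ x₃ u v hu hv hw hu1 hv1 z => ?_
  rw [hiff x₁ u hu hu1, hiff x₂ v hv hv1]
  suffices v = u ∨ v = u⁻¹ by
    rcases this with rfl | rfl
    · rfl
    · rw [Subgroup.zpowers_inv]
  by_cases hw1 : u⁻¹ * v = 1
  · exact Or.inl (inv_mul_eq_one.1 hw1).symm
  obtain ⟨U, rfl, hU⟩ := exists_lift_three h2 (hconj3 _ _ hu) hu1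
  obtain ⟨V, rfl, hV⟩ := exists_lift_three h2 (hconj3 _ _ hv) hv1
  obtain ⟨W, hW', hW⟩ := exists_lift_three h2 (hconj3 _ _ hw) hw1
  have e : U⁻¹ * V = W := pr_inj_two h2 (by rw [hW', map_mul, map_inv])
  have hc := commute_of_traces h2 hno hU hV (by rw [e, hW])
  have hτ : (tr U) ^ 2 ≠ 4 := by
    rw [hU]; intro h; exact one_ne_zero (show (1 : F) = 0 by linear_combination h + 2 * h2)
  rcases commute_eq_or_inv' (not_isSc_of_trace hτ) hc.symm (hV.trans hU.symm) hτ with h | h
  · exact Or.inl (by rw [h])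
  · exact Or.inr (by rw [h, map_inv])

/-- Cube roots of unity in a field of even characteristic. -/
theorem root_iff (h2 : (2 : F) = 0) {a : ℕ} (ha : Nat.card F = 2 ^ a) :
    (∃ r : F, r ^ 2 + r + 1 = 0) ↔ Even a := by
  haveI := Fintype.ofFinite F
  haveI := Fact.mk Nat.prime_three
  have hmod : ∀ b : ℕ, 2 ^ b % 3 = if Even b then 1 else 2 := by
    intro b
    induction b with
    | zero => simp
    | succ n ih =>
      rw [pow_succ, Nat.mul_mod, ih]
      by_cases hn : Even n <;> simp [hn, Nat.even_add_one]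
  have hu : Nat.card Fˣ = 2 ^ a - 1 := by rw [Nat.card_units, ha]
  have hpos : 0 < 2 ^ a := Nat.two_pow_pos a
  constructor
  · rintro ⟨r, hr⟩
    by_contra hodd
    have hr0 : r ≠ 0 := fun h => by rw [h] at hr; simp at hr
    have h3 : orderOf (Units.mk0 r hr0) = 3 := by
      refine orderOf_eq_prime (Units.ext ?_) fun h => ?_
      · simp only [Units.val_pow_eq_pow_val, Units.val_mk0, Units.val_one]
        linear_combination (r - 1) * hr
      · have h' := congrArg Units.val h
        simp only [Units.val_mk0, Units.val_one] at h'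
        rw [h'] at hr
        exact one_ne_zero (show (1 : F) = 0 by linear_combination hr - h2)
    have hd := h3 ▸ orderOf_dvd_natCard (Units.mk0 r hr0)
    rw [hu] at hd
    have := hmod a
    rw [if_neg hodd] at this
    omega
  · intro hev
    have := hmod a
    rw [if_pos hev] at this
    have hd : 3 ∣ Nat.card Fˣ := by rw [hu]; omega
    obtain ⟨r, hr⟩ := exists_prime_orderOf_dvd_card' 3 hd
    refine ⟨(r : F), ?_⟩
    have h1 : (r : F) ≠ 1 := fun h => by
      rw [Units.val_eq_one.1 h, orderOf_one] at hr; omega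
    have h3 : (r : F) ^ 3 = 1 := by
      rw [← Units.val_pow_eq_pow_val, ← hr, pow_orderOf_eq_one, Units.val_one]
    exact (mul_eq_zero.1 (show ((r : F) - 1) * ((r : F) ^ 2 + r + 1) = 0 by linear_combination h3)).resolve_left
      (sub_ne_zero.2 h1)

end Cfsg.Agent.PSL2Binary
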