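import Cfsg.Agent.Lib.PSL2Binary.Dihedral
import Cfsg.Agent.Lib.SzBinary.Field

/-!
Subgroups of the Borel subgroup meeting the root group.
-/

set_option autoImplicit false
set_option linter.unusedSectionVars false
set_option linter.unusedSimpArgs false
set_option linter.style.haveILetI false

namespace Cfsg.Agent.PSL2Binary

open Matrix PStable Cfsg.Agent.Dickson Cfsg.Agent.SzBinary

variable {F : Type*} [Field F] [Finite F]

local notation "SL2" => Matrix.SpecialLinearGroup (Fin 2) F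
local notation "M2" => Matrix (Fin 2) (Fin 2) F
local notation "P" => Matrix.ProjectiveSpecialLinearGroup (Fin 2) F
local notation "prH" => PSL2Inv.pr (F := F)
local notation "tr" X => Matrix.trace ((X : SL2) : M2)

/-- Diagonal matrix. -/
def dg (l : Fˣ) : SL2 := ⟨!![(l : F), 0; 0, ((l⁻¹ : Fˣ) : F)], by simp [Matrix.det_fin_two_of]⟩

/-- The matrix exchanging the two coordinate lines, scaled. -/
def anti (m : Fˣ) : SL2 := ⟨!![0, -((m⁻¹ : Fˣ) : F); (m : F), 0], by simp [Matrix.det_fin_two_of]⟩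

theorem dg_val (l : Fˣ) : ((dg l : SL2) : M2) = !![(l : F), 0; 0, ((l⁻¹ : Fˣ) : F)] := rfl

theorem dg_mul (l k : Fˣ) : (dg l : SL2) * dg k = dg (l * k) := by
  apply Subtype.ext
  show (dg l : SL2).1 * (dg k : SL2).1 = _
  simp [dg_val, Matrix.mul_fin_two, mul_comm]

theorem dg_one : (dg 1 : SL2) = 1 := by
  apply Subtype.ext
  show (dg 1 : SL2).1 = (1 : M2)
  simp [dg_val, Matrix.one_fin_two]

theorem dg_inv (l : Fˣ) : (dg l : SL2)⁻¹ = dg l⁻¹ := by
  rw [inv_eq_iff_mul_eq_one, dg_mul, mul_inv_cancel, dg_one]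

theorem dg_conj_upp (l : Fˣ) (b : F) : (dg l : SL2) * upp b * (dg l)⁻¹ = upp ((l : F) ^ 2 * b) := by
  rw [dg_inv]
  apply Subtype.ext
  show (dg l : SL2).1 * (upp b : SL2).1 * (dg l⁻¹ : SL2).1 = _
  simp [dg_val, upp_val, Matrix.mul_fin_two]
  ring

theorem pr_dg_eq_one_iff (l : Fˣ) : prH (dg l) = 1 ↔ (l : F) ^ 2 = 1 := by
  rw [pr_eq_one, isSc_iff]
  simp only [dg_val, Matrix.of_apply, Matrix.cons_val', Matrix.cons_val_zero, Matrix.cons_val_one,
    Matrix.empty_val', Matrix.cons_val_fin_one, true_and, Units.val_inv_eq_inv_val]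
  constructor
  · intro h
    rw [pow_two]
    nth_rw 1 [h]
    exact inv_mul_cancel₀ l.ne_zero
  · intro h
    exact eq_inv_of_mul_eq_one_left (by rw [← pow_two, h])

theorem pr_form_mul (b c : F) (l k : Fˣ) :
    prH (upp b * dg l) * prH (upp c * dg k) = prH (upp (b + (l : F) ^ 2 * c) * dg (l * k)) := by
  rw [← map_mul]
  congr 1
  rw [← upp_mul, ← dg_conj_upp, ← dg_mul]
  group

theorem pr_form_inj {b c : F} {l k : Fˣ} (h : prH (upp b * dg l) = prH (upp c * dg k)) :
    b = c ∧ (l : F) ^ 2 = (k : F) ^ 2 := by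
  have hval : ∀ (b : F) (l : Fˣ), ((upp b * dg l : SL2) : M2) = !![(l : F), b * (l⁻¹ : Fˣ); 0, ((l⁻¹ : Fˣ) : F)] := by
    intro b l
    show (upp b : SL2).1 * (dg l : SL2).1 = _
    simp [dg_val, upp_val, Matrix.mul_fin_two]
  rcases PSL2Inv.pr_eq_iff.1 h with e | e
  · have h0 := congrFun (congrFun (congrArg (fun Z : SL2 => (Z : M2)) e) 0) 0
    have h1 := congrFun (congrFun (congrArg (fun Z : SL2 => (Z : M2)) e) 0) 1
    simp only [hval] at h0 h1
    simp at h0 h1
    rw [h0] at h1 ⊢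
    exact ⟨(mul_right_cancel₀ (inv_ne_zero l.ne_zero) h1).symm, rfl⟩
  · have h0 := congrFun (congrFun (congrArg (fun Z : SL2 => (Z : M2)) e) 0) 0
    have h1 := congrFun (congrFun (congrArg (fun Z : SL2 => (Z : M2)) e) 0) 1
    change (upp c * dg k : SL2).1 0 0 = ((-1 : M2) * (upp b * dg l : SL2).1) 0 0 at h0
    change (upp c * dg k : SL2).1 0 1 = ((-1 : M2) * (upp b * dg l : SL2).1) 0 1 at h1
    simp only [hval] at h0 h1
    simp at h0 h1
    rw [h0, inv_neg, mul_neg, neg_inj] at h1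
    exact ⟨(mul_right_cancel₀ (inv_ne_zero l.ne_zero) h1).symm, by rw [h0]; ring⟩

/-- A triangular subgroup in normal form. -/
structure BorelForm (H : Subgroup P) (U : AddSubgroup F) : Prop where
  upp_mem : ∀ b, prH (upp b) ∈ H ↔ b ∈ U
  form : ∀ a ∈ H, ∃ b l, b ∈ U ∧ prH (dg l) ∈ H ∧ a = prH (upp b * dg l)
  ne_bot : U ≠ ⊥

theorem form_unique {H : Subgroup P} {U : AddSubgroup F} (hf : BorelForm H U) {b : F} {l : Fˣ}
    (h : prH (upp b * dg l) ∈ H) : b ∈ U ∧ prH (dg l) ∈ H := by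
  obtain ⟨c, k, hc, hk, e⟩ := hf.form _ h
  obtain ⟨rfl, -⟩ := pr_form_inj e
  refine ⟨hc, ?_⟩
  have := H.mul_mem (H.inv_mem ((hf.upp_mem b).2 hc)) h
  rwa [map_mul, inv_mul_cancel_left] at this

theorem smul_mem_of_torus {H : Subgroup P} {U : AddSubgroup F} (hf : BorelForm H U) {b : F} {l : Fˣ}
    (hl : prH (dg l) ∈ H) (hb : b ∈ U) : (l : F) ^ 2 * b ∈ U := by
  rw [← hf.upp_mem, ← dg_conj_upp, map_mul, map_mul, map_inv]
  exact H.mul_mem (H.mul_mem hl ((hf.upp_mem b).2 hb)) (H.inv_mem hl)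

/-- The conjugate fixing the finite point `x` meets the subgroup in the stabiliser of `x`. -/
theorem fix_eq {H : Subgroup P} {U : AddSubgroup F} (hf : BorelForm H U) {x b : F} {l m : Fˣ}
    (h : (prH (upp x * anti m))⁻¹ * prH (upp b * dg l) * prH (upp x * anti m) ∈ H) :
    b = (1 - (l : F) ^ 2) * x := by
  obtain ⟨c, k, -, -, e⟩ := hf.form _ h
  rw [← map_inv, ← map_mul, ← map_mul] at e
  have key : ((upp x * anti m)⁻¹ * (upp b * dg l) * (upp x * anti m) : SL2).1 1 0 =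
      -((m : F) ^ 2 * ((l : F) * x + b * (l : F)⁻¹ - x * (l : F)⁻¹)) := by
    show (((upp x : SL2).1 * (anti m : SL2).1).adjugate * ((upp b : SL2).1 * (dg l : SL2).1) *
      ((upp x : SL2).1 * (anti m : SL2).1)) 1 0 = _
    simp [anti, dg_val, upp_val, Matrix.mul_fin_two, Matrix.adjugate_fin_two]
    ring
  have hzero : ((upp x * anti m)⁻¹ * (upp b * dg l) * (upp x * anti m) : SL2).1 1 0 = 0 := by
    rcases PSL2Inv.pr_eq_iff.1 e.symm with h' | h'
    · rw [h']
      show ((upp c : SL2).1 * (dg k : SL2).1) 1 0 = 0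
      simp [dg_val, upp_val, Matrix.mul_fin_two]
    · rw [h']
      show ((-1 : M2) * ((upp c : SL2).1 * (dg k : SL2).1)) 1 0 = 0
      simp [dg_val, upp_val, Matrix.mul_fin_two]
  rw [key, neg_eq_zero, mul_eq_zero] at hzero
  have h0 := hzero.resolve_left (pow_ne_zero 2 m.ne_zero)
  have hl := l.ne_zero
  field_simp at h0
  linear_combination h0

theorem not_binary_borel_odd {H : Subgroup P} {U : AddSubgroup F} (hf : BorelForm H U) (h2 : (2 : F) ≠ 0)
    (hU : U ≠ ⊤ ∨ ∀ l : Fˣ, prH (dg l) ∈ H → (l : F) ^ 2 = 1) : ¬ BinaryOn H := by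
  obtain ⟨u, hu, hu0⟩ : ∃ u ∈ U, u ≠ 0 := by
    by_contra h
    push Not at h
    exact hf.ne_bot (eq_bot_iff.2 fun x hx => h x hx)
  obtain ⟨x, hx⟩ : ∃ x : F, ∀ l : Fˣ, prH (dg l) ∈ H → (l : F) ^ 2 ≠ 1 → ∀ d ∈ U,
      (1 - (l : F) ^ 2) * (x + d) ∉ U := by
    rcases hU with hU | hU
    · obtain ⟨x, hx⟩ : ∃ x : F, x ∉ U := by
        by_contra h
        push Not at h
        exact hU (eq_top_iff.2 fun y _ => h y)
      refine ⟨x, fun l hl hl1 d hd hmem => hx ?_⟩
      have hne : 1 - (l : F) ^ 2 ≠ 0 := sub_ne_zero.2 (Ne.symm hl1)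
      let φ : U → U := fun y => ⟨(1 - (l : F) ^ 2) * y, by
        rw [sub_mul, one_mul]; exact U.sub_mem y.2 (smul_mem_of_torus hf hl y.2)⟩
      have hφ : Function.Injective φ := fun y z h =>
        Subtype.ext (mul_left_cancel₀ hne (congrArg Subtype.val h :))
      obtain ⟨y, hy⟩ := Finite.surjective_of_injective hφ ⟨_, hmem⟩
      have hxy : (y : F) = x + d := mul_left_cancel₀ hne (congrArg Subtype.val hy :)
      simpa [hxy] using U.sub_mem y.2 hd
    · exact ⟨0, fun l hl hl1 => absurd (hU l hl) hl1⟩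
  have hu2 : u / 2 ∈ U := by
    obtain ⟨p, hp⟩ := CharP.exists F
    haveI : Fact p.Prime := ⟨(CharP.char_is_prime_or_zero F p).resolve_right (CharP.char_ne_zero_of_finite F p)⟩
    have hodd : p ≠ 2 := fun e => h2 (by subst e; exact_mod_cast CharP.cast_eq_zero F 2)
    obtain ⟨k, hk⟩ := (Fact.out : p.Prime).odd_of_ne_two hodd
    have h1 : ((k + 1 : ℕ) : F) * 2 = 1 := by
      have := CharP.cast_eq_zero F p
      rw [hk] at this
      push_cast at this ⊢
      linear_combination this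
    rw [div_eq_mul_inv, inv_eq_of_mul_eq_one_left h1, mul_comm]
    rw [← nsmul_eq_mul]
    exact U.nsmul_mem hu _
  set m : Fˣ := Units.mk0 (2 / u) (div_ne_zero h2 hu0) with hm
  set V : SL2 := upp x * low (4 / u) * (upp x)⁻¹ with hV
  set W : SL2 := upp (x - u / 2) * low (4 / u) * (upp (x - u / 2))⁻¹ with hW
  set g₂ := prH (upp x * anti m) with hg₂
  set g₃ := prH (upp (x - u / 2) * anti m) with hg₃
  have hlow : (anti m : SL2)⁻¹ * low (4 / u) * anti m = upp (-u) := by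
    apply Subtype.ext
    show (anti m : SL2).1.adjugate * (low (4 / u) : SL2).1 * (anti m : SL2).1 = _
    simp [anti, hm, upp_val, low_val, Matrix.mul_fin_two, Matrix.adjugate_fin_two]
    and_intros <;> first | trivial | (field_simp; ring) | field_simp
  have hmem : ∀ y : F, (prH (upp y * anti m))⁻¹ * prH (upp y * low (4 / u) * (upp y)⁻¹) * prH (upp y * anti m) ∈ H := by
    intro y
    rw [← map_inv, ← map_mul, ← map_mul,
      show (upp y * anti m)⁻¹ * (upp y * low (4 / u) * (upp y)⁻¹) * (upp y * anti m) =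
        (anti m : SL2)⁻¹ * low (4 / u) * anti m by group, hlow]
    exact (hf.upp_mem _).2 (U.neg_mem hu)
  have htriv : ∀ d ∈ U, ∀ a, a ∈ H → (prH (upp (x + d) * anti m))⁻¹ * a * prH (upp (x + d) * anti m) ∈ H → a = 1 := by
    intro d hd a ha ha'
    obtain ⟨b, l, hb, hl, rfl⟩ := hf.form a ha
    have e := fix_eq hf ha'
    by_cases hl1 : (l : F) ^ 2 = 1
    · rw [hl1, sub_self, zero_mul] at e
      rw [e, upp_zero, one_mul]
      exact (pr_dg_eq_one_iff l).2 hl1
    · exact absurd (e ▸ hb) (hx l hl hl1 d hd)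
  refine not_binary_of_disjoint g₂ g₃ (u := prH (upp u)) (v := prH V) (w := prH W) ((hf.upp_mem u).2 hu)
    (hmem x) (hmem (x - u / 2)) ?_ fun a b ha ha' hb hb' e => ?_
  · rw [← map_mul]
    refine (PSL2Inv.pr_eq_iff.2 (Or.inr ?_)).symm
    apply Subtype.ext
    show (upp u : SL2).1 = (-1 : M2) * ((upp x : SL2).1 * (low (4 / u) : SL2).1 * (upp x : SL2).1.adjugate *
      ((upp (x - u / 2) : SL2).1 * (low (4 / u) : SL2).1 * (upp (x - u / 2) : SL2).1.adjugate))
    simp [upp_val, low_val, Matrix.mul_fin_two, Matrix.adjugate_fin_two]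
    and_intros <;> first | trivial | (field_simp; ring) | field_simp
  · rw [htriv 0 U.zero_mem a ha (by rw [add_zero]; exact ha'), htriv (-(u / 2)) (U.neg_mem hu2) b hb
      (by rw [← sub_eq_add_neg]; exact hb'), one_mul] at e
    rcases PSL2Inv.pr_eq_one_iff.1 e.symm with h | h
    · exact hu0 (by simpa [upp_val] using congrFun (congrFun (congrArg (fun Z : SL2 => (Z : M2)) h) 0) 1)
    · have := congrFun (congrFun (congrArg (fun Z : SL2 => (Z : M2)) h) 0) 1
      change (upp u : SL2).1 0 1 = (-1 : M2) 0 1 at this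
      simp [upp_val] at this
      exact hu0 this

theorem not_binary_borel_even {H : Subgroup P} {U : AddSubgroup F} (hf : BorelForm H U) (h2 : (2 : F) = 0)
    (hq : 4 ≤ Nat.card F) (hU : U ≠ ⊤) : ¬ BinaryOn H := by
  classical
  haveI := Fintype.ofFinite F
  haveI : CharP F 2 := by
    have h := CharP.ringChar_of_prime_eq_zero Nat.prime_two (R := F) (by exact_mod_cast h2)
    exact h ▸ ringChar.charP F
  obtain ⟨α, β, u, v, w, hα, hβ, hu, hv, hw, huvw, hno⟩ :
      ∃ α β u v w : F, α ≠ 0 ∧ β ≠ 0 ∧ u ∈ U ∧ α * v ∈ U ∧ β * w ∈ U ∧ u = v + w ∧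
        ∀ a b, a ∈ U → α * a ∈ U → b ∈ U → β * b ∈ U → a + b ≠ u := by
    by_cases h8 : 8 ≤ Fintype.card F
    · exact exists_triple h8 U hf.ne_bot hU
    -- the field of four elements
    obtain ⟨n, -, hn⟩ := FiniteField.card F 2
    have hcard : Fintype.card F = 4 := by
      rw [Nat.card_eq_fintype_card] at hq
      rw [hn] at hq h8 ⊢
      have hlt : (n : ℕ) < 3 := by
        by_contra hc
        exact h8 (le_trans (by norm_num) (Nat.pow_le_pow_right (by norm_num) (not_lt.1 hc)))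
      have hgt : 2 ≤ (n : ℕ) := by
        by_contra hc
        have : (n : ℕ) = 1 := by have := n.pos; omega
        rw [this] at hq; omega
      rw [show (n : ℕ) = 2 by omega]; rfl
    obtain ⟨u, hu, hu0⟩ : ∃ u ∈ U, u ≠ 0 := by
      by_contra h
      push Not at h
      exact hf.ne_bot (eq_bot_iff.2 fun x hx => h x hx)
    have hU2 : ∀ y ∈ U, y = 0 ∨ y = u := by
      intro y hy
      by_contra h
      push Not at h
      apply hU
      have hsub : ({0, u, y, u + y} : Finset F) ⊆ Finset.univ.filter (fun z => z ∈ U) := by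
        intro z hz
        simp only [Finset.mem_insert, Finset.mem_singleton] at hz
        rcases hz with rfl | rfl | rfl | rfl <;> simp [U.zero_mem, hu, hy, U.add_mem hu hy]
      have h4 : ({0, u, y, u + y} : Finset F).card = 4 := by
        rw [Finset.card_eq_four]
        refine ⟨0, u, y, u + y, Ne.symm hu0, Ne.symm h.1, ?_, Ne.symm h.2, ?_, ?_, rfl⟩
        · exact fun e => h.2 (by linear_combination -e - u * h2)
        · exact fun e => h.1 (by linear_combination -e)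
        · exact fun e => hu0 (by linear_combination -e)
      rw [eq_top_iff]
      intro z _
      have heq := Finset.eq_univ_of_card _ ((le_antisymm (Finset.card_le_univ _)
        (hcard ▸ h4 ▸ Finset.card_le_card hsub)))
      have hz : z ∈ Finset.univ.filter (fun z => z ∈ U) := by rw [heq]; exact Finset.mem_univ z
      exact (Finset.mem_filter.1 hz).2
    obtain ⟨r, hr0, hr1⟩ : ∃ r : F, r ≠ 0 ∧ r ≠ 1 := by
      by_contra h
      push Not at h
      have : (Finset.univ : Finset F) ⊆ {0, 1} := fun z _ => by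
        by_cases hz : z = 0 <;> simp [hz, h z]
      have := (Finset.card_le_card this).trans Finset.card_le_two
      rw [Finset.card_univ, hcard] at this
      omega
    have hr1' : 1 + r ≠ 0 := fun e => hr1 (by linear_combination e - h2)
    refine ⟨r⁻¹, (1 + r)⁻¹, u, r * u, (1 + r) * u, inv_ne_zero hr0, inv_ne_zero hr1', hu, ?_, ?_, ?_, ?_⟩
    · rwa [inv_mul_cancel_left₀ hr0]
    · rwa [inv_mul_cancel_left₀ hr1']
    · linear_combination -(r * u) * h2
    · intro a b ha ha' hb hb'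
      have hz : ∀ z c : F, z ∈ U → c * z ∈ U → c ≠ 1 → c ≠ 0 → z = 0 := fun z c hz hcz hc1 hc0 => by
        rcases hU2 z hz with e | e
        · exact e
        · subst e
          rcases hU2 _ hcz with e | e
          · exact absurd ((mul_eq_zero.1 e).resolve_left hc0) hu0
          · exact absurd ((mul_eq_right₀ hu0).1 e) hc1
      rw [hz a _ ha ha' (fun e => hr1 (inv_eq_one.1 e)) (inv_ne_zero hr0),
        hz b _ hb hb' (fun e => hr0 (by linear_combination inv_eq_one.1 e)) (inv_ne_zero hr1'), add_zero]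
      exact Ne.symm hu0
  obtain ⟨l, hl⟩ := SL2Classes.exists_sqrt_two α
  obtain ⟨k, hk⟩ := SL2Classes.exists_sqrt_two β
  have hl0 : l ≠ 0 := fun e => hα (by rw [← hl, e, zero_pow two_ne_zero])
  have hk0 : k ≠ 0 := fun e => hβ (by rw [← hk, e, zero_pow two_ne_zero])
  have hmem : ∀ (c : Fˣ) (y : F), (c : F) ^ 2 * y ∈ U →
      (prH (dg c⁻¹))⁻¹ * prH (upp y) * prH (dg c⁻¹) ∈ H := fun c y hy => by
    rw [← map_inv, ← map_mul, ← map_mul, dg_inv, inv_inv, ← dg_inv, dg_conj_upp]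
    exact (hf.upp_mem _).2 hy
  have hint : ∀ (c : Fˣ) (y : F) (t : Fˣ), (prH (dg c⁻¹))⁻¹ * prH (upp y * dg t) * prH (dg c⁻¹) ∈ H →
      (c : F) ^ 2 * y ∈ U := fun c y t h => by
    rw [← map_inv, ← map_mul, ← map_mul, dg_inv, inv_inv,
      show dg c * (upp y * dg t) * dg c⁻¹ = (dg c * upp y * (dg c)⁻¹) * (dg c * dg t * dg c⁻¹) by group,
      dg_conj_upp, dg_mul, dg_mul, mul_inv_cancel_comm] at h
    exact (form_unique hf h).1
  refine not_binary_of_disjoint (prH (dg (Units.mk0 l hl0)⁻¹)) (prH (dg (Units.mk0 k hk0)⁻¹))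
    (u := prH (upp u)) (v := prH (upp v)) (w := prH (upp w)) ((hf.upp_mem u).2 hu)
    (hmem _ v (by rw [Units.val_mk0, hl]; exact hv)) (hmem _ w (by rw [Units.val_mk0, hk]; exact hw))
    (by rw [← map_mul, upp_mul, huvw]) fun a b ha ha' hb hb' e => ?_
  obtain ⟨a₀, t, ha₀, ht, rfl⟩ := hf.form a ha
  obtain ⟨b₀, t', hb₀, -, rfl⟩ := hf.form b hb
  have ha2 := hint _ _ _ ha'
  have hb2 := hint _ _ _ hb'
  rw [Units.val_mk0, hl] at ha2
  rw [Units.val_mk0, hk] at hb2
  rw [pr_form_mul] at e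
  have e' := (pr_form_inj (k := 1) (c := u) (by rw [e, dg_one, mul_one])).1
  exact hno a₀ _ ha₀ ha2 (smul_mem_of_torus hf ht hb₀)
    (by rw [mul_left_comm]; exact smul_mem_of_torus hf ht hb2) e'

theorem not_binary_borel_full {H : Subgroup P} {U : AddSubgroup F} (hf : BorelForm H U) (hU : U = ⊤) {l₀ : Fˣ}
    (hl₀ : prH (dg l₀) ∈ H) (h4 : (l₀ : F) ^ 4 ≠ 1) : ¬ BinaryOn H := by
  intro hb
  have hall : ∀ y, prH (upp y) ∈ H := fun y => (hf.upp_mem y).2 (hU ▸ AddSubgroup.mem_top y)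
  set μ := (l₀ : F) ^ 2 with hμ
  have hmem : ∀ y : F, (prH (upp y * anti 1))⁻¹ * prH (upp y * dg l₀ * (upp y)⁻¹) * prH (upp y * anti 1) ∈ H := by
    intro y
    rw [← map_inv, ← map_mul, ← map_mul,
      show (upp y * anti 1)⁻¹ * (upp y * dg l₀ * (upp y)⁻¹) * (upp y * anti 1) =
        (anti 1 : SL2)⁻¹ * dg l₀ * anti 1 by group,
      show (anti 1 : SL2)⁻¹ * dg l₀ * anti 1 = dg l₀⁻¹ by
        apply Subtype.ext
        show (anti 1 : SL2).1.adjugate * (dg l₀ : SL2).1 * (anti 1 : SL2).1 = _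
        simp [anti, dg_val, Matrix.mul_fin_two, Matrix.adjugate_fin_two],
      ← dg_inv, map_inv]
    exact H.inv_mem hl₀
  have hu1 : (prH (upp (0 : F) * anti 1))⁻¹ * prH (dg (l₀ * l₀)) * prH (upp (0 : F) * anti 1) ∈ H := by
    have h := H.mul_mem (hmem 0) (hmem 0)
    rw [show (prH (upp (0 : F) * anti 1))⁻¹ * prH (upp 0 * dg l₀ * (upp 0)⁻¹) * prH (upp 0 * anti 1) *
      ((prH (upp (0 : F) * anti 1))⁻¹ * prH (upp 0 * dg l₀ * (upp 0)⁻¹) * prH (upp 0 * anti 1)) =
      (prH (upp (0 : F) * anti 1))⁻¹ * (prH (upp 0 * dg l₀ * (upp 0)⁻¹) * prH (upp 0 * dg l₀ * (upp 0)⁻¹)) *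
        prH (upp (0 : F) * anti 1) by group, ← map_mul prH (upp 0 * dg l₀ * (upp 0)⁻¹)] at h
    simpa [upp_zero, dg_mul] using h
  obtain ⟨a, b, ⟨ha, ha1, ha2⟩, ⟨hb1, hb2, hb3⟩, hab⟩ := crit4 hb (prH (upp (0 : F) * anti 1))
    (prH (upp (-μ) * anti 1)) (prH (upp 1 * anti 1)) (prH (dg (l₀ * l₀)))
    (prH (upp (-μ) * dg l₀ * (upp (-μ))⁻¹)) (prH (upp 1 * dg l₀ * (upp 1)⁻¹))
    (by rw [← dg_mul, map_mul]; exact H.mul_mem hl₀ hl₀) hu1 (hmem _) (hmem _) (by
      rw [← map_mul]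
      congr 1
      apply Subtype.ext
      show (dg (l₀ * l₀) : SL2).1 = (upp (-μ) : SL2).1 * (dg l₀ : SL2).1 * (upp (-μ) : SL2).1.adjugate *
        ((upp 1 : SL2).1 * (dg l₀ : SL2).1 * (upp 1 : SL2).1.adjugate)
      have := l₀.ne_zero
      simp [dg_val, upp_val, Matrix.mul_fin_two, Matrix.adjugate_fin_two, hμ]
      and_intros <;> first | trivial | (field_simp; ring) | field_simp)
  have htriv : ∀ (y : F) (c : P), y ≠ 0 → c ∈ H → (prH (upp (0 : F) * anti 1))⁻¹ * c * prH (upp (0 : F) * anti 1) ∈ H →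
      (prH (upp y * anti 1))⁻¹ * c * prH (upp y * anti 1) ∈ H → c = 1 := by
    intro y c hy hc h0 hy'
    obtain ⟨d, l, -, -, rfl⟩ := hf.form c hc
    have e0 := fix_eq hf h0
    have e1 := fix_eq hf hy'
    rw [mul_zero] at e0
    subst e0
    have hl1 : (l : F) ^ 2 = 1 := by
      have := (mul_eq_zero.1 e1.symm).resolve_right hy
      linear_combination -this
    rw [upp_zero, one_mul]
    exact (pr_dg_eq_one_iff l).2 hl1
  rw [htriv _ a (neg_ne_zero.2 (pow_ne_zero 2 l₀.ne_zero)) ha ha1 ha2, htriv 1 b one_ne_zero hb1 hb2 hb3,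
    one_mul, pr_dg_eq_one_iff] at hab
  refine h4 ?_
  rw [Units.val_mul] at hab
  linear_combination hab

theorem not_binary_borel_two {H : Subgroup P} {U : AddSubgroup F} (hf : BorelForm H U) (h2 : (2 : F) ≠ 0)
    (hU : U = ⊤) {i : Fˣ} (hi : prH (dg i) ∈ H) (hii : (i : F) ^ 2 = -1)
    (hall : ∀ l : Fˣ, prH (dg l) ∈ H → (l : F) ^ 4 = 1) : ¬ BinaryOn H := by
  have hU' : ∀ y, prH (upp y) ∈ H := fun y => (hf.upp_mem y).2 (hU ▸ AddSubgroup.mem_top y)
  let J : SL2 := ⟨!![0, 1; -1, 0], by simp [Matrix.det_fin_two_of]⟩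
  have hi0 := i.ne_zero
  have hiinv : (i : F)⁻¹ = -(i : F) := by
    exact inv_eq_of_mul_eq_one_right (by linear_combination -hii)
  have hmem : ∀ (X : SL2) (y : F) (c : F) (l : Fˣ), prH (dg l) ∈ H →
      (upp y * anti 1)⁻¹ * X * (upp y * anti 1) = upp c * dg l →
      (prH (upp y * anti 1))⁻¹ * prH X * prH (upp y * anti 1) ∈ H := fun X y c l hl e => by
    rw [← map_inv, ← map_mul, ← map_mul, e, map_mul]
    exact H.mul_mem (hU' c) hl
  refine not_binary_of_disjoint (prH (upp (i : F) * anti 1)) (prH (upp 1 * anti 1))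
    (u := prH (dg i)) (v := prH J) (w := prH (J⁻¹ * dg i)) hi ?_ ?_
    (by rw [← map_mul, mul_inv_cancel_left]) fun a b ha ha' hb hb' e => ?_
  · refine hmem J _ (-(i : F)) i⁻¹ (by rw [← dg_inv, map_inv]; exact H.inv_mem hi) ?_
    apply Subtype.ext
    show ((upp (i : F) : SL2).1 * (anti 1 : SL2).1).adjugate * J.1 * ((upp (i : F) : SL2).1 * (anti 1 : SL2).1) =
      (upp (-(i : F)) : SL2).1 * (dg i⁻¹ : SL2).1
    simp [J, anti, dg_val, upp_val, Matrix.mul_fin_two, Matrix.adjugate_fin_two, hiinv]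
    refine ⟨?_, ?_⟩ <;> first | linear_combination hii | linear_combination (-2 : F) * hii | linear_combination -hii
  · refine hmem _ _ 1 i (hi) ?_
    apply Subtype.ext
    show ((upp 1 : SL2).1 * (anti 1 : SL2).1).adjugate * (J.1.adjugate * (dg i : SL2).1) *
      ((upp 1 : SL2).1 * (anti 1 : SL2).1) = (upp 1 : SL2).1 * (dg i : SL2).1
    simp [J, anti, dg_val, upp_val, Matrix.mul_fin_two, Matrix.adjugate_fin_two, hiinv]
  obtain ⟨a₀, l, -, hl, rfl⟩ := hf.form a ha
  obtain ⟨b₀, l', -, hl', rfl⟩ := hf.form b hb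
  have ea := fix_eq hf ha'
  have eb := fix_eq hf hb'
  rw [pr_form_mul] at e
  obtain ⟨h0, hsq⟩ := pr_form_inj (c := (0 : F)) (k := i) (by rw [e, upp_zero, one_mul])
  rw [Units.val_mul, mul_pow, hii] at hsq
  have hpm : ∀ k : Fˣ, prH (dg k) ∈ H → (k : F) ^ 2 = 1 ∨ (k : F) ^ 2 = -1 := fun k hk =>
    mul_self_eq_one_iff.1 (by rw [← pow_two, ← pow_mul]; exact hall k hk)
  rw [ea, eb] at h0
  have hne : (1 : F) ≠ -1 := fun h => h2 (by linear_combination h)
  rcases hpm l hl with h | h <;> rcases hpm l' hl' with h' | h' <;> rw [h, h'] at hsq h0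
  · exact hne (by linear_combination hsq)
  · exact h2 (by linear_combination h0)
  · exact mul_ne_zero h2 hi0 (by linear_combination h0)
  · exact hne (by linear_combination hsq)

end Cfsg.Agent.PSL2Binary
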