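import Cfsg.Agent.Lib.SzBinary.Basic
import Mathlib.GroupTheory.GroupAction.Basic
import Mathlib.Data.Finite.Perm
import Mathlib.GroupTheory.Index
import Mathlib.Tactic.Group

/-!
Binary actions on cosets: the condition read off from four points, invariance under isomorphisms,
and doubly transitive actions.
-/

set_option autoImplicit false
set_option linter.style.haveILetI false

namespace Cfsg.Agent.PSL2Binary

open Cfsg.Agent.SzBinary

variable {G : Type*} [Group G]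

theorem binaryOn_map {G' : Type*} [Group G'] (e : G ≃* G') {K : Subgroup G} (hb : BinaryOn K) :
    BinaryOn (K.map e.toMonoidHom) := by
  intro n I J hn hp
  choose x hx using fun i => QuotientGroup.mk_surjective (I i)
  choose y hy using fun i => QuotientGroup.mk_surjective (J i)
  have key : ∀ g i, g • I i = J i ↔
      e.symm g • ((e.symm (x i) : G) : G ⧸ K) = ((e.symm (y i) : G) : G ⧸ K) := fun g i => by
    rw [← hx i, ← hy i, MulAction.Quotient.smul_coe, MulAction.Quotient.smul_coe, QuotientGroup.eq,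
      QuotientGroup.eq, Subgroup.mem_map_equiv]
    simp
  obtain ⟨g, hg⟩ := hb n (fun i => ((e.symm (x i) : G) : G ⧸ K)) (fun i => ((e.symm (y i) : G) : G ⧸ K)) hn
    fun i j hij => by
      obtain ⟨g, h1, h2⟩ := hp i j hij
      exact ⟨e.symm g, (key g i).1 h1, (key g j).1 h2⟩
  exact ⟨e g, fun i => (key _ i).2 (by simpa using hg i)⟩

/-- The condition that binarity imposes on four cosets, one pair of which is fixed. -/
theorem crit4 {H : Subgroup G} (hb : BinaryOn H) (g₁ g₂ g₃ u v w : G) (hu : u ∈ H)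
    (hu₁ : g₁⁻¹ * u * g₁ ∈ H) (hv : g₂⁻¹ * v * g₂ ∈ H) (hw : g₃⁻¹ * w * g₃ ∈ H) (huvw : u = v * w) :
    ∃ a b : G, (a ∈ H ∧ g₁⁻¹ * a * g₁ ∈ H ∧ g₂⁻¹ * a * g₂ ∈ H) ∧
      (b ∈ H ∧ g₁⁻¹ * b * g₁ ∈ H ∧ g₃⁻¹ * b * g₃ ∈ H) ∧ u = a * b := by
  have e2 : ∀ g x y : G, g • ((x : G) : G ⧸ H) = ((y : G) : G ⧸ H) ↔ y⁻¹ * g * x ∈ H := fun g x y => by
    rw [MulAction.Quotient.smul_coe, eq_comm, QuotientGroup.eq, smul_eq_mul, mul_assoc]
  have e0 : ∀ g : G, g • ((1 : G) : G ⧸ H) = ((1 : G) : G ⧸ H) ↔ g ∈ H := fun g => by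
    rw [e2]; simp
  have h03 : u • ((1 : G) : G ⧸ H) = ((1 : G) : G ⧸ H) ∧
      u • ((g₃ : G) : G ⧸ H) = ((u * g₃ : G) : G ⧸ H) :=
    ⟨(e0 u).2 hu, (e2 _ _ _).2 (by rw [show (u * g₃)⁻¹ * u * g₃ = 1 by group]; exact H.one_mem)⟩
  have h13 : u • ((g₁ : G) : G ⧸ H) = ((g₁ : G) : G ⧸ H) := (e2 _ _ _).2 hu₁
  have h23 : v • ((g₂ : G) : G ⧸ H) = ((g₂ : G) : G ⧸ H) ∧
      v • ((g₃ : G) : G ⧸ H) = ((u * g₃ : G) : G ⧸ H) :=
    ⟨(e2 _ _ _).2 hv, (e2 _ _ _).2 (by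
      rw [huvw, show (v * w * g₃)⁻¹ * v * g₃ = (g₃⁻¹ * w * g₃)⁻¹ by group]; exact H.inv_mem hw)⟩
  obtain ⟨g, hg⟩ := hb 4
    ![((1 : G) : G ⧸ H), ((g₁ : G) : G ⧸ H), ((g₂ : G) : G ⧸ H), ((g₃ : G) : G ⧸ H)]
    ![((1 : G) : G ⧸ H), ((g₁ : G) : G ⧸ H), ((g₂ : G) : G ⧸ H), (((u * g₃ : G)) : G ⧸ H)]
    (by norm_num) (by
      intro i j hij
      fin_cases i <;> fin_cases j <;> first
        | exact absurd rfl hij
        | exact ⟨1, one_smul _ _, one_smul _ _⟩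
        | exact ⟨u, h03⟩
        | exact ⟨u, h03.2, h03.1⟩
        | exact ⟨u, h13, h03.2⟩
        | exact ⟨u, h03.2, h13⟩
        | exact ⟨v, h23⟩
        | exact ⟨v, h23.2, h23.1⟩)
  have hg0 : g ∈ H := (e0 g).1 (hg 0)
  have hg1 : g₁⁻¹ * g * g₁ ∈ H := (e2 g g₁ g₁).1 (hg 1)
  refine ⟨g, g⁻¹ * u, ⟨hg0, hg1, (e2 g g₂ g₂).1 (hg 2)⟩,
    ⟨H.mul_mem (H.inv_mem hg0) hu, ?_, ?_⟩, by group⟩
  · rw [show g₁⁻¹ * (g⁻¹ * u) * g₁ = (g₁⁻¹ * g * g₁)⁻¹ * (g₁⁻¹ * u * g₁) by group]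
    exact H.mul_mem (H.inv_mem hg1) hu₁
  · have h := H.inv_mem ((e2 g g₃ (u * g₃)).1 (hg 3))
    rwa [show ((u * g₃)⁻¹ * g * g₃)⁻¹ = g₃⁻¹ * (g⁻¹ * u) * g₃ by group] at h

theorem not_binary_of_disjoint {H : Subgroup G} (g₂ g₃ : G) {u v w : G} (hu : u ∈ H)
    (hv : g₂⁻¹ * v * g₂ ∈ H) (hw : g₃⁻¹ * w * g₃ ∈ H) (huvw : u = v * w)
    (hno : ∀ a b : G, a ∈ H → g₂⁻¹ * a * g₂ ∈ H → b ∈ H → g₃⁻¹ * b * g₃ ∈ H → a * b ≠ u) :
    ¬ BinaryOn H := fun hb => by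
  obtain ⟨a, b, ⟨ha, ha'⟩, ⟨hb1, hb2⟩, hab⟩ := crit_of_binary hb g₂ g₃ u v w hu hv hw huvw
  exact hno a b ha ha' hb1 hb2 hab.symm

/-- A binary doubly transitive action realises every permutation of the points. -/
theorem factorial_index_le [Finite G] {H : Subgroup G} (hb : BinaryOn H) (hH : 2 ≤ H.index)
    (ht : ∀ g₁ g₂ : G, g₁ ∉ H → g₂ ∉ H → ∃ h ∈ H, g₂⁻¹ * h * g₁ ∈ H) :
    Nat.factorial H.index ≤ Nat.card G := by
  classical
  haveI : Finite (G ⧸ H) := Quotient.finite _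
  haveI := Fintype.ofFinite (G ⧸ H)
  have htrans : ∀ a b c d : G ⧸ H, a ≠ b → c ≠ d → ∃ g : G, g • a = c ∧ g • b = d := by
    intro a b c d hab hcd
    obtain ⟨a, rfl⟩ := QuotientGroup.mk_surjective a
    obtain ⟨b, rfl⟩ := QuotientGroup.mk_surjective b
    obtain ⟨c, rfl⟩ := QuotientGroup.mk_surjective c
    obtain ⟨d, rfl⟩ := QuotientGroup.mk_surjective d
    rw [Ne, QuotientGroup.eq] at hab hcd
    obtain ⟨h, hh, hh'⟩ := ht _ _ hab hcd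
    refine ⟨c * h * a⁻¹, ?_, ?_⟩
    · rw [MulAction.Quotient.smul_coe, QuotientGroup.eq, smul_eq_mul,
        show (c * h * a⁻¹ * a)⁻¹ * c = h⁻¹ by group]
      exact H.inv_mem hh
    · rw [MulAction.Quotient.smul_coe, QuotientGroup.eq, smul_eq_mul,
        show (c * h * a⁻¹ * b)⁻¹ * d = ((c⁻¹ * d)⁻¹ * h * (a⁻¹ * b))⁻¹ by group]
      exact H.inv_mem hh'
  set n := Fintype.card (G ⧸ H) with hn
  have hidx : H.index = n := by rw [Subgroup.index_eq_card, Nat.card_eq_fintype_card]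
  let e : G ⧸ H ≃ Fin n := Fintype.equivFin _
  have hsurj : Function.Surjective (fun g : G => (MulAction.toPerm g : Equiv.Perm (G ⧸ H))) := by
    intro σ
    obtain ⟨g, hg⟩ := hb n (fun i => e.symm i) (fun i => σ (e.symm i)) (by omega) fun i j hij =>
      htrans _ _ _ _ (fun h => hij (e.symm.injective h)) (fun h => hij (e.symm.injective (σ.injective h)))
    refine ⟨g, Equiv.ext fun x => ?_⟩
    simpa using hg (e x)
  have h := Nat.card_le_card_of_surjective _ hsurj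
  rw [Nat.card_perm, Nat.card_eq_fintype_card] at h
  rwa [hidx]

end Cfsg.Agent.PSL2Binary
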