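import Cfsg.Agent.Lib.PSL2Binary.Dihedral
import Mathlib.Algebra.Polynomial.Roots

/-!
Dihedral subgroups with a rotation of order neither two nor four, odd characteristic.
-/

set_option autoImplicit false
set_option linter.unusedSectionVars false
set_option linter.unusedSimpArgs false
set_option linter.style.haveILetI false

namespace Cfsg.Agent.PSL2Binary

open Matrix PStable Cfsg.Agent.Dickson Cfsg.Agent.SzBinary

variable {F : Type*} [Field F] [Finite F]

local notation "SL2" => Matrix.SpecialLinearGroup (Fin 2) F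
local notation "M2" => Matrix (Fin 2) (Fin 2) F
local notation "P" => Matrix.ProjectiveSpecialLinearGroup (Fin 2) F
local notation "prH" => PSL2Inv.pr (F := F)
local notation "tr" X => Matrix.trace ((X : SL2) : M2)

theorem exists_circle_param (hq : 6 ≤ Nat.card F) : ∃ t : F, t ≠ 0 ∧ t ^ 2 ≠ 1 ∧ t ^ 2 + 1 ≠ 0 := by
  classical
  haveI := Fintype.ofFinite F
  by_contra h
  push Not at h
  have hne : (Polynomial.X ^ 5 - Polynomial.X : Polynomial F) ≠ 0 := fun e => by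
    have := congrArg (Polynomial.coeff · 1) e
    simp at this
  have hsub : (Finset.univ : Finset F) ⊆ (Polynomial.X ^ 5 - Polynomial.X : Polynomial F).roots.toFinset := by
    intro t _
    rw [Multiset.mem_toFinset, Polynomial.mem_roots hne]
    simp
    by_cases ht : t = 0
    · simp [ht]
    by_cases h1 : t ^ 2 = 1
    · linear_combination (t ^ 3 + t) * h1
    · linear_combination (t ^ 3 - t) * h t ht h1
  have h1 := (Finset.card_le_card hsub).trans ((Multiset.toFinset_card_le _).trans (Polynomial.card_roots' _))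
  rw [Finset.card_univ, ← Nat.card_eq_fintype_card] at h1
  have h2 : (Polynomial.X ^ 5 - Polynomial.X : Polynomial F).natDegree ≤ 5 := by
    refine (Polynomial.natDegree_sub_le _ _).trans ?_
    simp
  omega

theorem exists_sum_sq_ne_zero (h2 : (2 : F) ≠ 0) (hq : 6 ≤ Nat.card F) {R : F} (hR : R ≠ 0) :
    ∃ p r : F, p ≠ 0 ∧ r ≠ 0 ∧ p ^ 2 + r ^ 2 = R := by
  classical
  haveI := Fintype.ofFinite F
  obtain ⟨p, r, hpr⟩ := FiniteField.exists_root_sum_quadratic
    (f := (Polynomial.X ^ 2 + Polynomial.C (-R) : Polynomial F)) (g := (Polynomial.X ^ 2 : Polynomial F))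
    (Polynomial.degree_X_pow_add_C (by norm_num) _) (Polynomial.degree_X_pow 2)
    (FiniteField.odd_card_of_char_ne_two fun h => h2 (by
      have := ringChar.Nat.cast_ringChar (R := F)
      rw [h] at this; simpa using this))
  simp at hpr
  obtain ⟨t, ht, ht1, hti⟩ := exists_circle_param hq
  have hden : 1 + t ^ 2 ≠ 0 := by rwa [add_comm]
  have hnum : 1 - t ^ 2 ≠ 0 := sub_ne_zero.2 (Ne.symm ht1)
  by_cases hp : p = 0
  · refine ⟨r * (1 - t ^ 2) / (1 + t ^ 2), r * (2 * t) / (1 + t ^ 2), ?_, ?_, ?_⟩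
    · refine div_ne_zero (mul_ne_zero (fun h => hR ?_) hnum) hden
      rw [hp, h] at hpr; linear_combination -hpr
    · refine div_ne_zero (mul_ne_zero (fun h => hR ?_) (mul_ne_zero h2 ht)) hden
      rw [hp, h] at hpr; linear_combination -hpr
    · field_simp
      rw [hp] at hpr
      linear_combination (1 + t ^ 2) ^ 2 * hpr
  by_cases hr : r = 0
  · refine ⟨p * (1 - t ^ 2) / (1 + t ^ 2), p * (2 * t) / (1 + t ^ 2), ?_, ?_, ?_⟩
    · exact div_ne_zero (mul_ne_zero hp hnum) hden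
    · exact div_ne_zero (mul_ne_zero hp (mul_ne_zero h2 ht)) hden
    · field_simp
      rw [hr] at hpr
      linear_combination (1 + t ^ 2) ^ 2 * hpr
  exact ⟨p, r, hp, hr, by linear_combination hpr⟩

theorem not_binary_dihedral_odd {H : Subgroup P} {X S : SL2} (h2 : (2 : F) ≠ 0) (hq : 6 ≤ Nat.card F)
    (hτ : (tr X) ^ 2 ≠ 4) (h0 : (tr X) ≠ 0) (hτ2 : (tr X) ^ 2 ≠ 2) (hXH : prH X ∈ H)
    (hsH : prH S ∈ H) (hS0 : (tr S) = 0) (hS : S * X * S⁻¹ = X⁻¹)
    (hdec : ∀ a ∈ H, a ∈ tor X ∨ a * prH X * a⁻¹ = (prH X)⁻¹) : ¬ BinaryOn H := by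
  let T₀ : SL2 := ⟨!![0, -1; 1, 0], by simp [Matrix.det_fin_two_of]⟩
  have h4 : (4 : F) ≠ 0 := by
    intro h; exact h2 (pow_eq_zero_iff two_ne_zero |>.1 (show (2 : F) ^ 2 = 0 by rw [← h]; norm_num))
  have hS4 : (tr S) ^ 2 ≠ 4 := by rw [hS0]; simpa using h4.symm
  obtain ⟨y, hy⟩ := exists_conj_of_trace (Y := T₀) hS4 (by rw [hS0]; simp [T₀, Matrix.trace_fin_two])
  set X₁ := y * X * y⁻¹ with hX₁
  set t := tr X with ht
  have htX₁ : (tr X₁) = t := PStable.trace_conj y X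
  have hinv : T₀ * X₁ = X₁⁻¹ * T₀ := by
    rw [hX₁, ← hy]
    calc y * S * y⁻¹ * (y * X * y⁻¹) = y * (S * X * S⁻¹) * S * y⁻¹ := by group
      _ = (y * X * y⁻¹)⁻¹ * (y * S * y⁻¹) := by rw [hS]; group
  set p := (X₁ : M2) 0 0 with hp
  set r := (X₁ : M2) 0 1 with hr
  have h11 : (X₁ : M2) 1 1 = t - p := by rw [← htX₁, Matrix.trace_fin_two]; ring
  have h10 : (X₁ : M2) 1 0 = r := by
    have h := congrFun (congrFun (congrArg (fun Z : SL2 => (Z : M2)) hinv) 0) 0
    change ((T₀ : M2) * (X₁ : M2)) 0 0 = ((X₁ : M2).adjugate * (T₀ : M2)) 0 0 at h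
    simp [T₀, Matrix.mul_apply, Fin.sum_univ_two, Matrix.adjugate_fin_two] at h
    rw [hr]; linear_combination h
  have hdet := det_one X₁
  rw [h11, h10, ← hp, ← hr] at hdet
  set A := 2 * p - t with hA
  set B := 2 * r with hB
  have hAB : A ^ 2 + B ^ 2 = t ^ 2 - 4 := by rw [hA, hB]; linear_combination -4 * hdet
  have hD : t ^ 2 - 4 ≠ 0 := sub_ne_zero.2 hτ
  have hρ : 2 * t ^ 2 - 4 ≠ 0 := fun h => hτ2 (mul_left_cancel₀ h2 (by linear_combination h))
  obtain ⟨P₁, Q₁, hP, hQ, hPQ⟩ := exists_sum_sq_ne_zero h2 hq (mul_ne_zero hρ hD)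
  set a₁ := (A * P₁ + B * Q₁) / (t ^ 2 - 4) with ha₁
  set b₁ := (B * P₁ - A * Q₁) / (t ^ 2 - 4) with hb₁
  have ea : a₁ * (t ^ 2 - 4) = A * P₁ + B * Q₁ := div_mul_cancel₀ _ hD
  have eb : b₁ * (t ^ 2 - 4) = B * P₁ - A * Q₁ := div_mul_cancel₀ _ hD
  have e1 : A * a₁ + B * b₁ = P₁ := mul_right_cancel₀ hD (by
    linear_combination A * ea + B * eb + P₁ * hAB)
  have e2 : B * a₁ - A * b₁ = Q₁ := mul_right_cancel₀ hD (by
    linear_combination B * ea - A * eb + Q₁ * hAB)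
  have e3 : a₁ ^ 2 + b₁ ^ 2 = 2 * t ^ 2 - 4 := mul_right_cancel₀ hD (by
    have : (a₁ ^ 2 + b₁ ^ 2) * (t ^ 2 - 4) = P₁ ^ 2 + Q₁ ^ 2 := by
      rw [← e1, ← e2, ← hAB]; ring
    rw [this, hPQ])
  set a := (a₁ + t) / 2 with ha
  set b := (b₁ - t) / 2 with hb
  have eaa : a₁ = 2 * a - t := by rw [ha]; field_simp; ring
  have ebb : b₁ = 2 * b + t := by rw [hb]; field_simp; ring
  let V₀ : SL2 := ⟨!![a, b; b + t, t - a], by
    rw [Matrix.det_fin_two_of]
    refine mul_left_cancel₀ h4 ?_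
    rw [eaa, ebb] at e3
    linear_combination -e3⟩
  let W₀ : SL2 := V₀⁻¹ * T₀
  have htV : (tr V₀) = t := by simp [V₀, Matrix.trace_fin_two]
  have htW : (tr W₀) = t := by
    show ((V₀ : M2).adjugate * (T₀ : M2)).trace = t
    simp [V₀, T₀, Matrix.trace_fin_two, Matrix.mul_apply, Fin.sum_univ_two, Matrix.adjugate_fin_two]
  have hXV : 2 * (tr (X₁ * V₀)) ≠ t * t := by
    intro h
    change 2 * ((X₁ : M2) * (V₀ : M2)).trace = t * t at h
    simp [V₀, Matrix.trace_fin_two, Matrix.mul_apply, Fin.sum_univ_two, ← hp, ← hr, h11, h10] at h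
    apply hP
    rw [← e1, eaa, ebb, hA, hB]
    linear_combination h
  have hXW : 2 * (tr (X₁ * W₀)) ≠ t * t := by
    intro h
    change 2 * ((X₁ : M2) * ((V₀ : M2).adjugate * (T₀ : M2))).trace = t * t at h
    simp [V₀, T₀, Matrix.trace_fin_two, Matrix.mul_apply, Fin.sum_univ_two, Matrix.adjugate_fin_two,
      ← hp, ← hr, h11, h10] at h
    apply hQ
    rw [← e2, eaa, ebb, hA, hB]
    linear_combination h
  set V := y⁻¹ * V₀ * y with hV
  set W := y⁻¹ * W₀ * y with hW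
  have trV : (tr V) = t := by
    have := PStable.trace_conj y⁻¹ V₀; rw [inv_inv] at this; rw [hV, this, htV]
  have trW : (tr W) = t := by
    have := PStable.trace_conj y⁻¹ W₀; rw [inv_inv] at this; rw [hW, this, htW]
  have htrans : ∀ U₀ : SL2, (tr (X * (y⁻¹ * U₀ * y))) = tr (X₁ * U₀) := fun U₀ => by
    have := PStable.trace_conj y (X * (y⁻¹ * U₀ * y))
    rw [show y * (X * (y⁻¹ * U₀ * y)) * y⁻¹ = X₁ * U₀ by rw [hX₁]; group] at this
    exact this.symm
  have nperp : ∀ U : SL2, (tr U) = t → 2 * (tr (X * U)) ≠ t * t → ¬ Perp X U ∧ ¬ Perp U X := by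
    intro U hU hne
    refine ⟨fun hp => hne ?_, fun hp => hne ?_⟩
    · have := perp_iff_odd h2 (not_isSc_of_trace hτ) hp
      rwa [hU] at this
    · have := perp_iff_odd h2 (not_isSc_of_trace (by rw [hU]; exact hτ)) hp
      rw [hU] at this
      change 2 * ((U : M2) * (X : M2)).trace = _ at this
      rwa [Matrix.trace_mul_comm] at this
  obtain ⟨hpV, hpV'⟩ := nperp V trV (by rw [hV, htrans]; exact hXV)
  obtain ⟨hpW, hpW'⟩ := nperp W trW (by rw [hW, htrans]; exact hXW)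
  obtain ⟨g₂, hg₂⟩ := exists_conj_of_trace hτ (trV : (tr V) = tr X)
  obtain ⟨g₃, hg₃⟩ := exists_conj_of_trace hτ (trW : (tr W) = tr X)
  refine not_binary_of_reflection (S := S) (Y := X) (Y' := X) hτ h0 hsH hS0 hS hdec hg₂ hXH rfl hg₃ hXH rfl ?_
    (by rw [trV]; exact hτ) (by rw [trV]; exact h0) (by rw [trW]; exact hτ) (by rw [trW]; exact h0)
    hpV hpV' hpW hpW'
  rw [hV, hW, show y⁻¹ * V₀ * y * (y⁻¹ * W₀ * y) = y⁻¹ * (V₀ * W₀) * y by group,
    show V₀ * W₀ = T₀ from mul_inv_cancel_left _ _, ← hy]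
  group

end Cfsg.Agent.PSL2Binary
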