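import Cfsg.Agent.Lib.PSL2Binary.Dihedral

/-!
Dihedral subgroups in characteristic two.
-/

set_option autoImplicit false
set_option linter.unusedSectionVars false
set_option linter.unusedSimpArgs false
set_option linter.style.haveILetI false

namespace Cfsg.Agent.PSL2Binary

open Matrix PStable Cfsg.Agent.Dickson Cfsg.Agent.SzBinary

variable {F : Type*} [Field F] [Finite F]

local notation "SL2" => Matrix.SpecialLinearGroup (Fin 2) F
local notation "M2" => Matrix (Fin 2) (Fin 2) F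
local notation "P" => Matrix.ProjectiveSpecialLinearGroup (Fin 2) F
local notation "prH" => PSL2Inv.pr (F := F)
local notation "tr" X => Matrix.trace ((X : SL2) : M2)

theorem exists_conj_upp_two (h2 : (2 : F) = 0) {S : SL2} (hS : ¬ IsSc S) (h0 : (tr S) = 0) :
    ∃ y : SL2, y * S * y⁻¹ = upp 1 := by
  haveI := Fintype.ofFinite F
  haveI : CharP F 2 := by
    have h := CharP.ringChar_of_prime_eq_zero Nat.prime_two (R := F) (by exact_mod_cast h2)
    exact h ▸ ringChar.charP F
  refine isConj_iff.1 (SL2Classes.isConj_two (fun hs => hS (isSc_iff.2 hs)) (fun hs => ?_) ?_)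
  · have := (isSc_iff.2 hs : IsSc (upp (1 : F)))
    rw [isSc_iff] at this
    simp [upp_val] at this
  · rw [h0]; simp [upp_val, Matrix.trace_fin_two]; linear_combination -h2

theorem not_isSc_of_invert {X S : SL2} (hτ : (tr X) ^ 2 ≠ 4) (h0 : (tr X) ≠ 0)
    (hS : S * X * S⁻¹ = X⁻¹) : ¬ IsSc S := fun h => by
  rw [h.commute X, mul_inv_cancel_right] at hS
  refine sq_ne_one (not_isSc_of_trace hτ) h0 ?_
  nth_rw 2 [hS]
  rw [map_inv, mul_inv_cancel]

theorem sq_ne_four_two (h2 : (2 : F) = 0) {x : F} : x ^ 2 ≠ 4 ↔ x ≠ 0 := by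
  rw [show (4 : F) = 0 by linear_combination 2 * h2]
  simp

theorem not_binary_dihedral_two {H : Subgroup P} {X S : SL2} (h2 : (2 : F) = 0)
    (h0 : (tr X) ≠ 0) (hXH : prH X ∈ H) (hsH : prH S ∈ H) (hS0 : (tr S) = 0) (hS : S * X * S⁻¹ = X⁻¹)
    (hdec : ∀ a ∈ H, a ∈ tor X ∨ a * prH X * a⁻¹ = (prH X)⁻¹)
    (hex : (tr X) ≠ 1 ∨ ∃ r : F, r ^ 2 + r + 1 = 0) : ¬ BinaryOn H := by
  set t := tr X with ht
  have hτ : t ^ 2 ≠ 4 := (sq_ne_four_two h2).2 h0
  obtain ⟨y, hy⟩ := exists_conj_upp_two h2 (not_isSc_of_invert hτ h0 hS) hS0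
  have main : ∀ (V₀ : SL2) (Y' : SL2) (s' : F), prH Y' ∈ H → Y' * X = X * Y' → (tr V₀) = t →
      (tr (V₀⁻¹ * upp 1)) = s' → (tr Y') = s' → s' ≠ 0 → ¬ BinaryOn H := by
    intro V₀ Y' s' hY'H hY'X htV htW htY hs'
    set V := y⁻¹ * V₀ * y with hV
    set W := y⁻¹ * (V₀⁻¹ * upp 1) * y with hW
    have trV : (tr V) = t := by
      have := PStable.trace_conj y⁻¹ V₀; rw [inv_inv] at this; rw [hV, this, htV]
    have trW : (tr W) = s' := by
      have := PStable.trace_conj y⁻¹ (V₀⁻¹ * upp 1); rw [inv_inv] at this; rw [hW, this, htW]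
    have hY4 : (tr Y') ^ 2 ≠ 4 := (sq_ne_four_two h2).2 (by rw [htY]; exact hs')
    obtain ⟨g₂, hg₂⟩ := exists_conj_of_trace hτ (trV : (tr V) = tr X)
    obtain ⟨g₃, hg₃⟩ := exists_conj_of_trace hY4 (trW.trans htY.symm : (tr W) = tr Y')
    refine not_binary_of_reflection (S := S) hτ h0 hsH hS0 hS hdec hg₂ hXH rfl hg₃ hY'H hY'X ?_
      (by rw [trV]; exact hτ) (by rw [trV]; exact h0) (by rw [trW]; exact (sq_ne_four_two h2).2 hs')
      (by rw [trW]; exact hs') (not_perp_two h2 (not_isSc_of_trace hτ) h0)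
      (not_perp_two h2 (not_isSc_of_trace (by rw [trV]; exact hτ)) (by rw [trV]; exact h0))
      (not_perp_two h2 (not_isSc_of_trace hτ) h0)
      (not_perp_two h2 (not_isSc_of_trace (by rw [trW]; exact (sq_ne_four_two h2).2 hs')) (by rw [trW]; exact hs'))
    rw [hV, hW, show y⁻¹ * V₀ * y * (y⁻¹ * (V₀⁻¹ * upp 1) * y) = y⁻¹ * upp 1 * y by group, ← hy]
    group
  by_cases h1 : t = 1
  · obtain ⟨r, hr⟩ := hex.resolve_left (not_not.2 h1)
    refine main ⟨!![r, 0; 0, 1 + r], by
      rw [Matrix.det_fin_two_of]; linear_combination hr - h2⟩ X t hXH rfl ?_ ?_ rfl h0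
    · simp [Matrix.trace_fin_two]; linear_combination r * h2 - h1
    · show ((!![r, 0; 0, 1 + r] : M2).adjugate * (upp (1 : F) : SL2).1).trace = t
      simp [upp_val, Matrix.trace_fin_two, Matrix.mul_apply, Fin.sum_univ_two, Matrix.adjugate_fin_two]
      linear_combination r * h2 - h1
  · have hc : t + t ^ 2 ≠ 0 := fun h => by
      rcases mul_eq_zero.1 (show t * (1 + t) = 0 by linear_combination h) with h | h
      · exact h0 h
      · exact h1 (by linear_combination h - h2)
    refine main ⟨!![0, (t + t ^ 2)⁻¹; t + t ^ 2, t], by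
      rw [Matrix.det_fin_two_of, zero_mul, inv_mul_cancel₀ hc]; linear_combination -h2⟩ (X * X) (t ^ 2)
      (by rw [map_mul]; exact H.mul_mem hXH hXH) (mul_assoc X X X) ?_ ?_ ?_ (pow_ne_zero 2 h0)
    · simp [Matrix.trace_fin_two]
    · show ((!![0, (t + t ^ 2)⁻¹; t + t ^ 2, t] : M2).adjugate * (upp (1 : F) : SL2).1).trace = t ^ 2
      simp [upp_val, Matrix.trace_fin_two, Matrix.mul_apply, Fin.sum_univ_two, Matrix.adjugate_fin_two]
      linear_combination -(t ^ 2) * h2
    · rw [trace_mul_self]; linear_combination -h2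

/-- The dihedral group of order six inside a larger torus normaliser. -/
theorem not_binary_dihedral_two_small {H : Subgroup P} {X S : SL2} (h2 : (2 : F) = 0)
    (hq : 4 ≤ Nat.card F) (h0 : (tr X) ≠ 0) (hXH : prH X ∈ H) (hsH : prH S ∈ H) (hS0 : (tr S) = 0)
    (hS : S * X * S⁻¹ = X⁻¹)
    (hdec : ∀ a ∈ H, a ∈ tor X ∨ a * prH X * a⁻¹ = (prH X)⁻¹)
    (hproper : ∃ a ∈ tor X, a ∉ H) : ¬ BinaryOn H := by
  classical
  have hτ : (tr X) ^ 2 ≠ 4 := (sq_ne_four_two h2).2 h0
  have hX := not_isSc_of_trace hτ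
  set x := prH X with hx
  -- the torus has no involutions, so squaring is onto
  have hodd : ∀ a ∈ tor X, a * a = 1 → a = 1 := by
    intro a ha haa
    obtain ⟨A, rfl⟩ := PSL2Inv.pr_surjective a
    by_contra ha1
    have hA : ¬ IsSc A := fun h => ha1 (pr_eq_one.2 h)
    exact not_perp_two (V := A) h2 hX h0 ⟨A, hA, trace_zero_of_sq haa hA, commute_of_mem_tor ha, by
      rw [mul_inv_cancel_right]
      refine eq_inv_of_mul_eq_one_left ?_
      apply Subtype.ext
      show ((A * A : SL2) : M2) = 1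
      obtain ⟨c, hc⟩ := pr_eq_one.1 (show prH (A * A) = 1 by rw [map_mul]; exact haa)
      have hd := det_one (A * A)
      rw [hc] at hd
      simp at hd
      rcases mul_self_eq_one_iff.1 hd with h | h
      · rw [hc, h, one_smul]
      · rw [hc, h, show (-1 : F) = 1 by linear_combination -h2, one_smul]⟩
  obtain ⟨c, hc, hcc⟩ : ∃ c ∈ tor X, c * c ∉ H := by
    obtain ⟨a, ha, haH⟩ := hproper
    let sq : tor X → tor X := fun z => z * z
    have hinj : Function.Injective sq := fun z w hzw => by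
      have hzw' : (z : P) * z = w * w := congrArg Subtype.val hzw
      have hcomm := comm_tor hX z.2 ((tor X).inv_mem w.2)
      refine Subtype.ext (mul_inv_eq_one.1 (hodd _ ((tor X).mul_mem z.2 ((tor X).inv_mem w.2)) ?_))
      calc (z : P) * (w : P)⁻¹ * (z * (w : P)⁻¹) = z * ((w : P)⁻¹ * z) * (w : P)⁻¹ := by group
        _ = (z * z) * ((w : P) * w)⁻¹ := by rw [← hcomm]; group
        _ = 1 := by rw [hzw', mul_inv_cancel]
    obtain ⟨z, hz⟩ := Finite.surjective_of_injective hinj ⟨a, ha⟩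
    exact ⟨z, z.2, fun h => haH (by rwa [← show (z : P) * z = a from congrArg Subtype.val hz])⟩
  have hcx : c * x * c⁻¹ = x := by rw [comm_tor hX hc (mem_tor_self X), mul_inv_cancel_right]
  set s := prH S with hs
  have hsx : s * x * s⁻¹ = x⁻¹ := by rw [hs, hx, ← map_inv, ← map_mul, ← map_mul, hS, map_inv]
  have hss : s * s = 1 := PSL2Inv.pr_mul_self hS0
  -- a conjugate reflection outside the subgroup, and a conjugate group through it
  have side : ∀ r : P, r ∈ H → r * r = 1 → r * x * r⁻¹ = x⁻¹ → ∃ g : P,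
      g⁻¹ * (c * r * c⁻¹) * g ∈ H ∧ ∀ a, a ∈ H → g⁻¹ * a * g ∈ H → a = 1 := by
    intro r hr hrr hrx
    set t := c * r * c⁻¹ with ht
    have htt : t * t = 1 := by
      rw [ht, show c * r * c⁻¹ * (c * r * c⁻¹) = c * (r * r) * c⁻¹ by group, hrr]; group
    have htx : t * x * t⁻¹ = x⁻¹ := by
      rw [ht]
      have h' : c⁻¹ * x * c = x := by
        rw [mul_assoc, ← comm_tor hX hc (mem_tor_self X), inv_mul_cancel_left]
      calc c * r * c⁻¹ * x * (c * r * c⁻¹)⁻¹ = c * (r * (c⁻¹ * x * c) * r⁻¹) * c⁻¹ := by group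
        _ = (c * x * c⁻¹)⁻¹ := by rw [h', hrx]; group
        _ = x⁻¹ := by rw [hcx]
    have htH : t ∉ H := fun h => by
      have h' : t * r ∈ H := H.mul_mem h hr
      have hrc : r * c⁻¹ * r⁻¹ = c := by
        obtain ⟨R, hR⟩ := PSL2Inv.pr_surjective r
        obtain ⟨C, hC, hC'⟩ := (tor X).inv_mem hc
        by_cases hCs : IsSc C
        · rw [← hC', pr_eq_one.2 hCs, mul_one, mul_inv_cancel, eq_comm, ← inv_eq_one, ← hC']
          exact pr_eq_one.2 hCs
        · have hC4 : (tr C) ^ 2 ≠ 4 := trace_ne_of_mem_cent hX hτ hC hCs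
          have hi := invert_of_commute hτ h0 hC4 (invert_lift (Y := R) (by rw [hR]; exact hrx) h0) (mem_cent.1 hC).2
          rw [← hR, ← hC', ← map_inv, ← map_mul, ← map_mul, hi, map_inv, hC', inv_inv]
      apply hcc
      rw [ht, show c * r * c⁻¹ * r = c * (r * c⁻¹ * r⁻¹) * (r * r) by group, hrc, hrr, mul_one] at h'
      exact h'
    obtain ⟨T, hT⟩ := PSL2Inv.pr_surjective t
    have hTs : ¬ IsSc T := fun h => htH (by rw [← hT, pr_eq_one.2 h]; exact H.one_mem)
    have hT0 : (tr T) = 0 := trace_zero_of_sq (by rw [hT]; exact htt) hTs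
    obtain ⟨y, hy⟩ := exists_conj_upp_two h2 hTs hT0
    obtain ⟨ρ, hρ0, hρ1⟩ : ∃ ρ : F, ρ ≠ 0 ∧ ρ ≠ 1 := by
      by_contra hno
      push Not at hno
      haveI := Fintype.ofFinite F
      have : (Finset.univ : Finset F) ⊆ {0, 1} := fun u _ => by
        by_cases hu : u = 0
        · simp [hu]
        · simp [hno u hu]
      have := (Finset.card_le_card this).trans Finset.card_le_two
      rw [Finset.card_univ, ← Nat.card_eq_fintype_card] at this
      omega
    set E := y⁻¹ * upp ρ * y with hE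
    set e := prH E with he
    have hET : E * T = T * E := by
      rw [hE, show T = y⁻¹ * upp 1 * y by rw [← hy]; group]
      calc y⁻¹ * upp ρ * y * (y⁻¹ * upp 1 * y) = y⁻¹ * (upp ρ * upp 1) * y := by group
        _ = y⁻¹ * (upp 1 * upp ρ) * y := by rw [upp_mul, upp_mul, add_comm]
        _ = y⁻¹ * upp 1 * y * (y⁻¹ * upp ρ * y) := by group
    have het : e * t = t * e := by rw [he, ← hT, ← map_mul, ← map_mul, hET]
    have hee : e * e = 1 := by
      rw [he, ← map_mul, hE, show y⁻¹ * upp ρ * y * (y⁻¹ * upp ρ * y) = y⁻¹ * (upp ρ * upp ρ) * y by group,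
        upp_mul, show ρ + ρ = 0 by linear_combination ρ * h2, upp_zero, mul_one, inv_mul_cancel, map_one]
    have hEne : ∀ u : F, u ≠ ρ → y⁻¹ * upp u * y ≠ E := fun u hu h =>
      hu (upp_injective (mul_left_cancel (mul_right_cancel h)))
    have hone : ∀ Z : SL2, prH Z = 1 → Z = 1 := fun Z hZ => by
      rcases PSL2Inv.pr_eq_one_iff.1 hZ with h | h
      · exact h
      · rw [h, negOne_eq_one h2]
    have he1 : e ≠ 1 := fun h => hEne 0 (Ne.symm hρ0) (by
      rw [upp_zero, mul_one, inv_mul_cancel, hone E h])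
    have hne_t : e ≠ t := fun h => hEne 1 (Ne.symm hρ1) (by
      rw [he, ← hT] at h
      rcases PSL2Inv.pr_eq_iff.1 h with h' | h'
      · rw [← h', ← hy]; group
      · rw [show E = T by rw [h', negOne_eq_one h2, one_mul], ← hy]; group)
    -- the two tori differ
    have htor : tor (E * X * E⁻¹) ≠ tor X := by
      intro heq
      have hc' : (E * X * E⁻¹) * X = X * (E * X * E⁻¹) := commute_of_mem_tor (heq ▸ mem_tor_self _)
      rcases commute_eq_or_inv' hX hc'.symm (PStable.trace_conj E X) hτ with h | h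
      · refine he1 (hodd e (mem_tor_of_commute h0 ?_) hee)
        rw [he, ← map_mul, ← map_mul]
        exact congrArg prH (by
          calc E * X = E * X * E⁻¹ * E := by group
            _ = X * E := by rw [h])
      · have hex' : e * x * e⁻¹ = x⁻¹ := by rw [he, hx, ← map_inv, ← map_mul, ← map_mul, h, map_inv]
        have h1 : e * t * x = x * (e * t) := by
          calc e * t * x = e * (t * x * t⁻¹) * e⁻¹ * (e * t) := by group
            _ = (e * x * e⁻¹)⁻¹ * (e * t) := by rw [htx]; group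
            _ = x * (e * t) := by rw [hex', inv_inv]
        have h3 : e * t * (e * t) = 1 := by
          calc e * t * (e * t) = e * (t * e) * t := by group
            _ = (e * e) * (t * t) := by rw [← het]; group
            _ = 1 := by rw [hee, htt, one_mul]
        have h4 := hodd _ (mem_tor_of_commute h0 h1) h3
        exact hne_t (by rw [eq_inv_of_mul_eq_one_left h4]; exact inv_eq_of_mul_eq_one_left htt)
    refine ⟨e * c, ?_, fun a ha ha' => ?_⟩
    · rw [show (e * c)⁻¹ * t * (e * c) = c⁻¹ * (e⁻¹ * (t * e)) * c by group, ← het, inv_mul_cancel_left, ht]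
      rw [show c⁻¹ * (c * r * c⁻¹) * c = r by group]
      exact hr
    obtain ⟨C, hCc⟩ := PSL2Inv.pr_surjective c
    have hCX : C * X = X * C := commute_of_mem_tor (X := X) (by rw [hCc]; exact hc)
    have hX₂ : E * C * X * (E * C)⁻¹ = E * X * E⁻¹ := by
      rw [show E * C * X * (E * C)⁻¹ = E * (C * X) * C⁻¹ * E⁻¹ by group, hCX]; group
    by_contra ha1
    set x₂ := prH (E * X * E⁻¹) with hx₂
    have hx₂' : x₂ = e * x * e⁻¹ := by rw [hx₂, map_mul, map_mul, map_inv]
    have h2a : a ∈ tor (E * X * E⁻¹) ∨ a * x₂ * a⁻¹ = x₂⁻¹ := by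
      rcases hdec _ ha' with h | h
      · left
        have := (conj_mem_tor (E * C) X (a := (e * c)⁻¹ * a * (e * c))).2 h
        rw [hX₂, map_mul, hCc, ← he,
          show e * c * ((e * c)⁻¹ * a * (e * c)) * (e * c)⁻¹ = a by group] at this
        exact this
      · right
        rw [hx₂', show e * x * e⁻¹ = (e * c) * x * (e * c)⁻¹ by
          rw [show e * c * x * (e * c)⁻¹ = e * (c * x * c⁻¹) * e⁻¹ by group, hcx]]
        calc a * (e * c * x * (e * c)⁻¹) * a⁻¹
            = e * c * (((e * c)⁻¹ * a * (e * c)) * x * ((e * c)⁻¹ * a * (e * c))⁻¹) * (e * c)⁻¹ := by group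
          _ = (e * c * x * (e * c)⁻¹)⁻¹ := by rw [h]; group
    have hX₂s : ¬ IsSc (E * X * E⁻¹) := fun h => hX (isSc_conj_iff.1 h)
    have hX₂0 : (tr (E * X * E⁻¹)) ≠ 0 := by rw [PStable.trace_conj]; exact h0
    rcases hdec a ha with h1 | h1 <;> rcases h2a with h2a | h2a
    · exact htor (tor_eq_of_common hX₂s hX h2a h1 ha1)
    · obtain ⟨A, rfl⟩ := PSL2Inv.pr_surjective a
      have hA : ¬ IsSc A := fun h => ha1 (pr_eq_one.2 h)
      have hA2 : prH A * prH A ∈ tor (E * X * E⁻¹) := mem_tor_of_commute hX₂0 (by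
        rw [← hx₂]
        calc prH A * prH A * x₂ = prH A * (prH A * x₂ * (prH A)⁻¹) * prH A := by group
          _ = prH A * x₂⁻¹ * prH A := by rw [h2a]
          _ = (prH A * x₂ * (prH A)⁻¹)⁻¹ * (prH A * prH A) := by group
          _ = x₂ * (prH A * prH A) := by rw [h2a, inv_inv])
      by_cases hA1 : prH A * prH A = 1
      · exact ha1 (hodd _ h1 hA1)
      · exact htor (tor_eq_of_common hX₂s hX hA2 ((tor X).mul_mem h1 h1) hA1)
    · have hA2 : a * a ∈ tor X := mem_tor_of_commute h0 (by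
        rw [← hx]
        calc a * a * x = a * (a * x * a⁻¹) * a := by group
          _ = a * x⁻¹ * a := by rw [h1]
          _ = (a * x * a⁻¹)⁻¹ * (a * a) := by group
          _ = x * (a * a) := by rw [h1, inv_inv])
      by_cases hA1 : a * a = 1
      · obtain ⟨A, rfl⟩ := PSL2Inv.pr_surjective a
        have hA : ¬ IsSc A := fun h => ha1 (pr_eq_one.2 h)
        exact not_perp_two (V := X) h2 hX₂s hX₂0
          ⟨A, hA, trace_zero_of_sq hA1 hA, commute_of_mem_tor h2a, invert_lift h1 h0⟩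
      · exact htor (tor_eq_of_common hX₂s hX ((tor _).mul_mem h2a h2a) hA2 hA1)
    · have h3 : a * t * x = x * (a * t) := by
        calc a * t * x = a * (t * x * t⁻¹) * a⁻¹ * (a * t) := by group
          _ = (a * x * a⁻¹)⁻¹ * (a * t) := by rw [htx]; group
          _ = x * (a * t) := by rw [h1, inv_inv]
      have h4 : a * t * x₂ = x₂ * (a * t) := by
        have htx₂ : t * x₂ * t⁻¹ = x₂⁻¹ := by
          rw [hx₂', show t * (e * x * e⁻¹) * t⁻¹ = (t * e) * x * (t * e)⁻¹ by group, ← het,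
            show e * t * x * (e * t)⁻¹ = e * (t * x * t⁻¹) * e⁻¹ by group, htx]
          group
        calc a * t * x₂ = a * (t * x₂ * t⁻¹) * a⁻¹ * (a * t) := by group
          _ = (a * x₂ * a⁻¹)⁻¹ * (a * t) := by rw [htx₂]; group
          _ = x₂ * (a * t) := by rw [h2a, inv_inv]
      by_cases hat : a * t = 1
      · exact htH (by rw [show t = a⁻¹ from eq_inv_of_mul_eq_one_right hat]; exact H.inv_mem ha)
      · exact htor (tor_eq_of_common hX₂s hX (mem_tor_of_commute hX₂0 h4) (mem_tor_of_commute h0 h3) hat)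
  have hsx' : s * x * (s * x) = 1 := by
    calc s * x * (s * x) = (s * x * s⁻¹) * (s * s) * x := by group
      _ = 1 := by rw [hsx, hss]; group
  obtain ⟨g₂, hg₂, hn₂⟩ := side s hsH hss hsx
  obtain ⟨g₃, hg₃, hn₃⟩ := side (s * x) (H.mul_mem hsH hXH) hsx' (by
    rw [show s * x * x * (s * x)⁻¹ = s * x * s⁻¹ by group, hsx])
  refine not_binary_of_disjoint g₂ g₃ (u := x) (v := c * s * c⁻¹) (w := c * (s * x) * c⁻¹) hXH hg₂ hg₃ ?_
    fun a b ha ha' hb hb' hab => ?_
  · calc x = c * x * c⁻¹ := hcx.symm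
      _ = c * ((s * s) * x) * c⁻¹ := by rw [hss, one_mul]
      _ = c * s * c⁻¹ * (c * (s * x) * c⁻¹) := by group
  · rw [hn₂ a ha ha', hn₃ b hb hb', one_mul] at hab
    exact hX (pr_eq_one.1 hab.symm)

end Cfsg.Agent.PSL2Binary
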