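import Mathlib.GroupTheory.SpecificGroups.Alternating
import Mathlib.GroupTheory.Perm.Fin
import Mathlib.GroupTheory.Perm.Cycle.Concrete

/-!
Finite facts on the alternating and symmetric groups of degree four and five.
-/

set_option autoImplicit false
set_option maxRecDepth 100000

namespace Cfsg.Agent.PSL2Binary.Finite

open Equiv

/-- Finite data on a group with a marked element, pinning down the subgroups containing it. -/
structure Marked (Γ : Type*) [Group Γ] where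
  a : Γ
  b : Γ
  /-- relations determining the conjugates of `b` under the powers of `a` -/
  Rel : Γ → Prop
  r : ℕ
  ha : a ≠ 1
  hrel_b : Rel b
  hrel : ∀ z, Rel z → ∃ i : Fin r, z = a ^ (i : ℕ) * b * (a ^ (i : ℕ))⁻¹
  hb : b * a * b⁻¹ ≠ a ∧ b * a * b⁻¹ ≠ a⁻¹
  hword : ∀ k : Γ, (k * a * k⁻¹ = a ∨ k * a * k⁻¹ = a⁻¹) ∨
    ∀ S : Γ → Prop, S a → S k → (∀ x y, S x → S y → S (x * y)) → (∀ x, S x → S x⁻¹) → S b
  hcomm : ∀ k : Γ, k * a * k⁻¹ = a → ∃ i : Fin r, k = a ^ (i : ℕ)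

/-- A triple showing that the action on the cosets of the subgroup `In` is not binary. -/
structure Witness (Γ : Type*) [Group Γ] (In : Γ → Prop) where
  u : Γ
  v : Γ
  h₂ : Γ
  h₃ : Γ
  hu : In u
  hv : In (h₂⁻¹ * v * h₂)
  hw : In (h₃⁻¹ * (v⁻¹ * u) * h₃)
  hfinal : ∀ x y, In x → In (h₂⁻¹ * x * h₂) → In y → In (h₃⁻¹ * y * h₃) → x * y ≠ u

theorem closure_conj {Γ : Type*} [Group Γ] {a b w : Γ} (i : ℕ) (hw : w = a ^ i * b * (a ^ i)⁻¹)
    {S : Γ → Prop} (ha : S a) (h1 : S 1) (hS : S w) (hm : ∀ x y, S x → S y → S (x * y))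
    (hi : ∀ x, S x → S x⁻¹) : S b := by
  have hp : S (a ^ i) := by
    induction i generalizing w with
    | zero => simpa using h1
    | succ n ih =>
      rw [pow_succ]
      refine hm _ _ ?_ ha
      clear hw hS ih
      induction n with
      | zero => simpa using h1
      | succ m ihm => rw [pow_succ]; exact hm _ _ ihm ha
  rw [show b = (a ^ i)⁻¹ * w * a ^ i by rw [hw]; group]
  exact hm _ _ (hm _ _ (hi _ hp) hS) hp

abbrev A4 := alternatingGroup (Fin 4)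
abbrev S4 := Equiv.Perm (Fin 4)
abbrev A5 := alternatingGroup (Fin 5)

def a4a : A4 := ⟨swap 0 1 * swap 1 2, Equiv.Perm.mem_alternatingGroup.2 (by decide)⟩
def a4b : A4 := ⟨swap 0 1 * swap 2 3, Equiv.Perm.mem_alternatingGroup.2 (by decide)⟩

theorem a4_rel : ∀ z : A4, (z * z = 1 ∧ z ≠ 1 ∧ (a4a * z) ^ 3 = 1) →
    ∃ i : Fin 3, z = a4a ^ (i : ℕ) * a4b * (a4a ^ (i : ℕ))⁻¹ := by decide +kernel

theorem a4_word : ∀ k : A4, (k * a4a * k⁻¹ = a4a ∨ k * a4a * k⁻¹ = a4a⁻¹) ∨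
    ∃ i : Fin 3, a4a * k * a4a⁻¹ * k⁻¹ = a4a ^ (i : ℕ) * a4b * (a4a ^ (i : ℕ))⁻¹ := by decide +kernel

theorem a4_comm : ∀ k : A4, k * a4a * k⁻¹ = a4a → ∃ i : Fin 3, k = a4a ^ (i : ℕ) := by decide +kernel

theorem a4_no_inv : ∀ k : A4, k * a4a * k⁻¹ = a4a⁻¹ → False := by decide +kernel

def s4a : S4 := swap 0 1 * swap 1 2
def s4b : S4 := swap 0 1 * swap 2 3

theorem s4_rel : ∀ z : S4, (z * z = 1 ∧ z ≠ 1 ∧ (s4a * z) ^ 3 = 1) →
    ∃ i : Fin 3, z = s4a ^ (i : ℕ) * s4b * (s4a ^ (i : ℕ))⁻¹ := by decide +kernel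

theorem s4_word : ∀ k : S4, (k * s4a * k⁻¹ = s4a ∨ k * s4a * k⁻¹ = s4a⁻¹) ∨
    (∃ i : Fin 3, s4a * k * s4a⁻¹ * k⁻¹ = s4a ^ (i : ℕ) * s4b * (s4a ^ (i : ℕ))⁻¹) ∨
    (∃ i : Fin 3, s4a * k * s4a * k * k * k = s4a ^ (i : ℕ) * s4b * (s4a ^ (i : ℕ))⁻¹) := by decide +kernel

theorem s4_comm : ∀ k : S4, k * s4a * k⁻¹ = s4a → ∃ i : Fin 3, k = s4a ^ (i : ℕ) := by decide +kernel

def a5a : A5 := ⟨swap 0 1 * swap 1 2 * swap 2 3 * swap 3 4, Equiv.Perm.mem_alternatingGroup.2 (by decide)⟩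
def a5b : A5 := ⟨swap 0 1 * swap 2 3, Equiv.Perm.mem_alternatingGroup.2 (by decide)⟩

theorem a5_rel : ∀ z : A5, (z * z = 1 ∧ z ≠ 1 ∧ (a5a * z) ^ 3 = 1 ∧ (a5a * a5a * z) ^ 5 = 1) →
    ∃ i : Fin 5, z = a5a ^ (i : ℕ) * a5b * (a5a ^ (i : ℕ))⁻¹ := by decide +kernel

theorem a5_word : ∀ k : A5, (k * a5a * k⁻¹ = a5a ∨ k * a5a * k⁻¹ = a5a⁻¹) ∨
    (∃ i : Fin 5, a5a * a5a * k * a5a * k⁻¹ = a5a ^ (i : ℕ) * a5b * (a5a ^ (i : ℕ))⁻¹) ∨
    (∃ i : Fin 5, a5a * a5a * k * a5a⁻¹ * k⁻¹ = a5a ^ (i : ℕ) * a5b * (a5a ^ (i : ℕ))⁻¹) := by decide +kernel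

theorem a5_comm : ∀ k : A5, k * a5a * k⁻¹ = a5a → ∃ i : Fin 5, k = a5a ^ (i : ℕ) := by decide +kernel

def a4v : A4 := ⟨swap 1 2 * swap 2 3, Equiv.Perm.mem_alternatingGroup.2 (by decide)⟩
def a4g : A4 := ⟨swap 0 1 * swap 1 3, Equiv.Perm.mem_alternatingGroup.2 (by decide)⟩
def a4h : A4 := ⟨swap 1 2 * swap 2 3, Equiv.Perm.mem_alternatingGroup.2 (by decide)⟩

theorem a4_final : ∀ x y : A4, (∃ i : Fin 3, x = a4a ^ (i : ℕ)) → (∃ i : Fin 3, a4g⁻¹ * x * a4g = a4a ^ (i : ℕ)) →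
    (∃ i : Fin 3, y = a4a ^ (i : ℕ)) → (∃ i : Fin 3, a4h⁻¹ * y * a4h = a4a ^ (i : ℕ)) → x * y ≠ a4a := by
  decide +kernel

/-- The data of the alternating group of degree four. -/
def markedA4 : Marked A4 where
  a := a4a
  b := a4b
  Rel z := z * z = 1 ∧ z ≠ 1 ∧ (a4a * z) ^ 3 = 1
  r := 3
  ha := by decide +kernel
  hrel_b := by decide +kernel
  hrel := a4_rel
  hb := by decide +kernel
  hword k := (a4_word k).imp_right fun ⟨i, hi⟩ S ha hk hm hinv =>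
    closure_conj i.1 hi ha (by simpa using hm _ _ ha (hinv _ ha))
      (hm _ _ (hm _ _ (hm _ _ ha hk) (hinv _ ha)) (hinv _ hk)) hm hinv
  hcomm := a4_comm

def s4v : S4 := swap 1 2 * swap 2 3
def s4g : S4 := swap 0 1 * swap 1 2 * swap 2 3
def s4h : S4 := swap 1 2 * swap 2 3

theorem s4_final : ∀ x y : S4, (∃ i : Fin 3, x = s4a ^ (i : ℕ)) → (∃ i : Fin 3, s4g⁻¹ * x * s4g = s4a ^ (i : ℕ)) →
    (∃ i : Fin 3, y = s4a ^ (i : ℕ)) → (∃ i : Fin 3, s4h⁻¹ * y * s4h = s4a ^ (i : ℕ)) → x * y ≠ s4a := by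
  decide +kernel

/-- The data of the symmetric group of degree four. -/
def markedS4 : Marked S4 where
  a := s4a
  b := s4b
  Rel z := z * z = 1 ∧ z ≠ 1 ∧ (s4a * z) ^ 3 = 1
  r := 3
  ha := by decide +kernel
  hrel_b := by decide +kernel
  hrel := s4_rel
  hb := by decide +kernel
  hword k := (s4_word k).imp_right fun h S ha hk hm hinv => by
    rcases h with ⟨i, hi⟩ | ⟨i, hi⟩
    · exact closure_conj i.1 hi ha (by simpa using hm _ _ ha (hinv _ ha))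
        (hm _ _ (hm _ _ (hm _ _ ha hk) (hinv _ ha)) (hinv _ hk)) hm hinv
    · exact closure_conj i.1 hi ha (by simpa using hm _ _ ha (hinv _ ha))
        (hm _ _ (hm _ _ (hm _ _ (hm _ _ (hm _ _ ha hk) ha) hk) hk) hk) hm hinv
  hcomm := s4_comm

def a5v : A5 := ⟨swap 0 4 * swap 4 1 * swap 1 2 * swap 2 3, Equiv.Perm.mem_alternatingGroup.2 (by decide)⟩
def a5g : A5 := ⟨swap 2 3 * swap 3 4, Equiv.Perm.mem_alternatingGroup.2 (by decide)⟩
def a5h : A5 := ⟨swap 2 4 * swap 4 3, Equiv.Perm.mem_alternatingGroup.2 (by decide)⟩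

/-- Membership of the normaliser of the marked subgroup of order five. -/
def InTen (x : A5) : Prop := x * a5a * x⁻¹ = a5a ∨ x * a5a * x⁻¹ = a5a⁻¹

instance : DecidablePred InTen := fun x => inferInstanceAs (Decidable (_ ∨ _))

theorem a5_final : ∀ x y : A5, InTen x → InTen (a5g⁻¹ * x * a5g) → InTen y → InTen (a5h⁻¹ * y * a5h) →
    x * y ≠ a5a⁻¹ := by
  decide +kernel

/-- The data of the alternating group of degree five. -/
def markedA5 : Marked A5 where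
  a := a5a
  b := a5b
  Rel z := z * z = 1 ∧ z ≠ 1 ∧ (a5a * z) ^ 3 = 1 ∧ (a5a * a5a * z) ^ 5 = 1
  r := 5
  ha := by decide +kernel
  hrel_b := by decide +kernel
  hrel := a5_rel
  hb := by decide +kernel
  hword k := (a5_word k).imp_right fun h S ha hk hm hinv => by
    rcases h with ⟨i, hi⟩ | ⟨i, hi⟩
    · exact closure_conj i.1 hi ha (by simpa using hm _ _ ha (hinv _ ha))
        (hm _ _ (hm _ _ (hm _ _ (hm _ _ ha ha) hk) ha) (hinv _ hk)) hm hinv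
    · exact closure_conj i.1 hi ha (by simpa using hm _ _ ha (hinv _ ha))
        (hm _ _ (hm _ _ (hm _ _ (hm _ _ ha ha) hk) (hinv _ ha)) (hinv _ hk)) hm hinv
  hcomm := a5_comm


/-- A subgroup of order three of the alternating group of degree four. -/
def witnessA4 : Witness A4 (fun x => ∃ i : Fin 3, x = a4a ^ (i : ℕ)) where
  u := a4a
  v := a4v
  h₂ := a4g
  h₃ := a4h
  hu := by decide +kernel
  hv := by decide +kernel
  hw := by decide +kernel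
  hfinal := a4_final

/-- A subgroup of order three of the symmetric group of degree four. -/
def witnessS4 : Witness S4 (fun x => ∃ i : Fin 3, x = s4a ^ (i : ℕ)) where
  u := s4a
  v := s4v
  h₂ := s4g
  h₃ := s4h
  hu := by decide +kernel
  hv := by decide +kernel
  hw := by decide +kernel
  hfinal := s4_final

/-- The dihedral group of order ten in the alternating group of degree five. -/
def witnessA5 : Witness A5 InTen where
  u := a5a⁻¹
  v := a5v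
  h₂ := a5g
  h₃ := a5h
  hu := by decide +kernel
  hv := by decide +kernel
  hw := by decide +kernel
  hfinal := a5_final

def a5cv : A5 := ⟨swap 0 2 * swap 2 4 * swap 4 3 * swap 3 1, Equiv.Perm.mem_alternatingGroup.2 (by decide)⟩
def a5cg : A5 := ⟨swap 2 3 * swap 3 4, Equiv.Perm.mem_alternatingGroup.2 (by decide)⟩
def a5ch : A5 := ⟨swap 2 4 * swap 4 3, Equiv.Perm.mem_alternatingGroup.2 (by decide)⟩

theorem a5_final_cyclic : ∀ x y : A5, (∃ i : Fin 5, x = a5a ^ (i : ℕ)) → (∃ i : Fin 5, a5cg⁻¹ * x * a5cg = a5a ^ (i : ℕ)) →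
    (∃ i : Fin 5, y = a5a ^ (i : ℕ)) → (∃ i : Fin 5, a5ch⁻¹ * y * a5ch = a5a ^ (i : ℕ)) → x * y ≠ a5a := by
  decide +kernel

/-- A subgroup of order five of the alternating group of degree five. -/
def witnessA5Cyclic : Witness A5 (fun x => ∃ i : Fin 5, x = a5a ^ (i : ℕ)) where
  u := a5a
  v := a5cv
  h₂ := a5cg
  h₃ := a5ch
  hu := by decide +kernel
  hv := by decide +kernel
  hw := by decide +kernel
  hfinal := a5_final_cyclic

end Cfsg.Agent.PSL2Binary.Finite
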