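import Cfsg.Agent.Lib.PSL2Binary.BorelPrep
import Cfsg.Agent.Lib.Classical.DicksonFieldGroups

/-!
Subfield subgroups.
-/

set_option autoImplicit false
set_option linter.unusedSectionVars false
set_option linter.unusedSimpArgs false
set_option linter.style.haveILetI false

namespace Cfsg.Agent.PSL2Binary

open Matrix PStable Cfsg.Agent.Dickson Cfsg.Agent.SzBinary

variable {F : Type*} [Field F] [Finite F] {K : Type*} [Field K] [Finite K]

local notation "SL2" => Matrix.SpecialLinearGroup (Fin 2) F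
local notation "M2" => Matrix (Fin 2) (Fin 2) F
local notation "P" => Matrix.ProjectiveSpecialLinearGroup (Fin 2) F
local notation "prH" => PSL2Inv.pr (F := F)
local notation "tr" X => Matrix.trace ((X : SL2) : M2)

theorem rat_of_mem {f : K →+* F} {X : SL2} (h : prH X ∈ fieldGroup f 1) :
    ∃ (s : F) (M : Matrix (Fin 2) (Fin 2) K), s ≠ 0 ∧ ∀ i j, s * (X : M2) i j = f (M i j) := by
  obtain ⟨y, hy⟩ := h
  change ProjGenLinGroup.map f y = 1 * Matrix.SpecialLinearGroup.toPGL X * 1⁻¹ at hy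
  rw [one_mul, inv_one, mul_one] at hy
  induction y using ProjGenLinGroup.induction_on with | mk γ =>
  rw [ProjGenLinGroup.map_mk] at hy
  obtain ⟨c, hc⟩ := ProjGenLinGroup.mk_eq_mk_iff.1 hy.symm
  refine ⟨(c : F), γ, c.ne_zero, fun i j => ?_⟩
  have e := congrFun (congrFun (congrArg (fun Z : GL (Fin 2) F => (Z : M2)) hc) i) j
  simp [GeneralLinearGroup.coe_scalar, Matrix.mul_diagonal] at e
  rw [mul_comm]
  exact e

theorem div_mem_range {f : K →+* F} {s a b : F} (hs : s ≠ 0) {x y : K} (ha : s * a = f x) (hb : s * b = f y) :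
    a / b = f (x / y) := by
  rw [map_div₀, ← ha, ← hb, mul_div_mul_left _ _ hs]

theorem upp_mem_fieldGroup (f : K →+* F) (b : K) : prH (upp (f b)) ∈ fieldGroup f 1 := by
  refine ⟨Matrix.SpecialLinearGroup.toPGL (⟨!![1, b; 0, 1], by simp [Matrix.det_fin_two_of]⟩ :
    Matrix.SpecialLinearGroup (Fin 2) K), ?_⟩
  show ProjGenLinGroup.map f (ProjGenLinGroup.mk _) = 1 * ProjGenLinGroup.mk _ * 1⁻¹
  simp only [one_mul, inv_one, mul_one, ProjGenLinGroup.map_mk]
  congr 1
  apply Units.ext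
  show (!![1, b; 0, 1] : Matrix (Fin 2) (Fin 2) K).map f = (upp (f b) : SL2).1
  ext i j
  fin_cases i <;> fin_cases j <;> simp [upp_val]

theorem low_mem_fieldGroup (f : K →+* F) (b : K) : prH (low (f b)) ∈ fieldGroup f 1 := by
  refine ⟨Matrix.SpecialLinearGroup.toPGL (⟨!![1, 0; b, 1], by simp [Matrix.det_fin_two_of]⟩ :
    Matrix.SpecialLinearGroup (Fin 2) K), ?_⟩
  show ProjGenLinGroup.map f (ProjGenLinGroup.mk _) = 1 * ProjGenLinGroup.mk _ * 1⁻¹
  simp only [one_mul, inv_one, mul_one, ProjGenLinGroup.map_mk]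
  congr 1
  apply Units.ext
  show (!![1, 0; b, 1] : Matrix (Fin 2) (Fin 2) K).map f = (low (f b) : SL2).1
  ext i j
  fin_cases i <;> fin_cases j <;> simp [low_val]

theorem translation_of_rat {f : K →+* F} {e : F} (he : ∀ x, f x ≠ e) {X : SL2}
    (h1 : prH X ∈ fieldGroup f 1) (h2 : prH ((upp e)⁻¹ * X * upp e) ∈ fieldGroup f 1) :
    ∃ b : F, prH X = prH (upp b) := by
  obtain ⟨s, M, hs, hM⟩ := rat_of_mem h1
  obtain ⟨t, N, ht, hN⟩ := rat_of_mem h2
  have hval : (((upp e)⁻¹ * X * upp e : SL2) : M2) =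
      !![(X : M2) 0 0 - e * (X : M2) 1 0, (X : M2) 0 1 + e * ((X : M2) 0 0 - (X : M2) 1 1) - e ^ 2 * (X : M2) 1 0;
        (X : M2) 1 0, (X : M2) 1 1 + e * (X : M2) 1 0] := by
    show (upp e : SL2).1.adjugate * (X : M2) * (upp e : SL2).1 = _
    refine ext2 ?_ ?_ ?_ ?_ <;>
      simp [upp_val, Matrix.adjugate_fin_two, Matrix.mul_apply, Fin.sum_univ_two, Matrix.vecMul, dotProduct] <;>
      ring
  have n00 := hN 0 0
  have n01 := hN 0 1
  have n10 := hN 1 0
  rw [hval] at n00 n01 n10
  simp at n00 n01 n10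
  have h10 : (X : M2) 1 0 = 0 := by
    by_contra hne
    have a1 := div_mem_range hs (hM 0 0) (hM 1 0)
    have a2 := div_mem_range ht n00 n10
    rw [sub_div, mul_div_assoc, div_self hne, mul_one, a1] at a2
    exact he (M 0 0 / M 1 0 - N 0 0 / N 1 0) (by rw [map_sub]; linear_combination a2)
  have hd := det_one X
  rw [h10, mul_zero, sub_zero] at hd
  have h00 := left_ne_zero_of_mul_eq_one hd
  rw [h10] at n00 n01
  simp at n00 n01
  have h11 : (X : M2) 1 1 = (X : M2) 0 0 := by
    by_contra hne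
    have a1 := div_mem_range hs (hM 0 1) (hM 0 0)
    have a2 := div_mem_range hs (hM 1 1) (hM 0 0)
    have a3 := div_mem_range ht n01 n00
    have hne' : 1 - f (M 1 1 / M 0 0) ≠ 0 := fun h0 => hne (by
      rw [← a2] at h0
      field_simp at h0
      linear_combination -h0)
    refine he ((N 0 1 / N 0 0 - M 0 1 / M 0 0) / (1 - M 1 1 / M 0 0)) ?_
    rw [map_div₀, map_sub, map_sub, map_one, div_eq_iff hne', ← a1, ← a2, ← a3]
    field_simp
    ring
  rw [h11] at hd
  rcases mul_self_eq_one_iff.1 hd with h | h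
  · refine ⟨(X : M2) 0 1, congrArg prH (Subtype.ext ?_)⟩
    exact ext2 (by simp [upp_val, h]) (by simp [upp_val]) (by simp [upp_val, h10]) (by simp [upp_val, h11, h])
  · refine ⟨-(X : M2) 0 1, (PSL2Inv.pr_eq_iff.2 (Or.inr (Subtype.ext ?_))).symm⟩
    show (X : M2) = (-1 : M2) * (upp (-(X : M2) 0 1) : SL2).1
    exact ext2 (by simp [upp_val, h]) (by simp [upp_val]) (by simp [upp_val, h10]) (by simp [upp_val, h11, h])

theorem monomial_of_rat {f : K →+* F} {l : Fˣ} (hl : ∀ x, f x ≠ (l : F) ^ 2) {X : SL2}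
    (h1 : prH X ∈ fieldGroup f 1) (h2 : prH ((dg l)⁻¹ * X * dg l) ∈ fieldGroup f 1) :
    ((X : M2) 0 1 = 0 ∧ (X : M2) 1 0 = 0) ∨ ((X : M2) 0 0 = 0 ∧ (X : M2) 1 1 = 0) := by
  obtain ⟨s, M, hs, hM⟩ := rat_of_mem h1
  obtain ⟨t, N, ht, hN⟩ := rat_of_mem h2
  have hval : (((dg l)⁻¹ * X * dg l : SL2) : M2) =
      !![(X : M2) 0 0, (X : M2) 0 1 / (l : F) ^ 2; (l : F) ^ 2 * (X : M2) 1 0, (X : M2) 1 1] := by
    show (dg l : SL2).1.adjugate * (X : M2) * (dg l : SL2).1 = _
    refine ext2 ?_ ?_ ?_ ?_ <;>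
      simp [dg_val, Matrix.adjugate_fin_two, Matrix.mul_apply, Fin.sum_univ_two, Matrix.vecMul, dotProduct] <;>
      field_simp
  have n00 := hN 0 0
  have n01 := hN 0 1
  have n10 := hN 1 0
  have n11 := hN 1 1
  rw [hval] at n00 n01 n10 n11
  simp at n00 n01 n10 n11
  have hl0 : (l : F) ^ 2 ≠ 0 := pow_ne_zero 2 l.ne_zero
  by_cases h00 : (X : M2) 0 0 = 0
  · refine Or.inr ⟨h00, ?_⟩
    by_contra hne
    have hd := det_one X
    rw [h00, zero_mul] at hd
    have h01 : (X : M2) 0 1 ≠ 0 := fun h => by rw [h] at hd; simp at hd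
    have a1 := div_mem_range hs (hM 1 1) (hM 0 1)
    have a2 := div_mem_range ht n11 n01
    refine hl ((N 1 1 / N 0 1) / (M 1 1 / M 0 1)) ?_
    rw [map_div₀, ← a1, ← a2]
    field_simp
  · left
    constructor <;> by_contra hne
    · have a1 := div_mem_range hs (hM 0 1) (hM 0 0)
      have a2 := div_mem_range ht n01 n00
      refine hl ((M 0 1 / M 0 0) / (N 0 1 / N 0 0)) ?_
      rw [map_div₀, ← a1, ← a2]
      field_simp
    · have a1 := div_mem_range hs (hM 1 0) (hM 0 0)
      have a2 := div_mem_range ht n10 n00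
      refine hl ((N 1 0 / N 0 0) / (M 1 0 / M 0 0)) ?_
      rw [map_div₀, ← a1, ← a2]
      field_simp

/-- A subgroup of index at most two of a subfield group. -/
theorem not_binary_subfield_standard (f : K →+* F) {m : ℕ} (hm : Nat.card K ^ m = Nat.card F) (hm2 : 2 ≤ m)
    {H : Subgroup P} (hle : H ≤ fieldGroup f 1) (hidx : Nat.card (fieldGroup f 1) ≤ 2 * Nat.card H)
    (heven : (2 : F) = 0 → Nat.card (fieldGroup f 1) ≤ Nat.card H) : ¬ BinaryOn H := by
  obtain ⟨e, he⟩ : ∃ e : F, ∀ x, f x ≠ e := by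
    by_contra h
    push Not at h
    have h1 := Nat.card_le_card_of_surjective f h
    rw [← hm] at h1
    have hk : 1 < Nat.card K := Finite.one_lt_card
    have := Nat.pow_lt_pow_right hk (show 1 < m by omega)
    rw [pow_one] at this
    omega
  intro hb
  by_cases h2 : (2 : F) = 0
  · have hHeq : H = fieldGroup f 1 := Subgroup.eq_of_le_of_card_ge hle (heven h2)
    haveI := Fintype.ofFinite F
    haveI : CharP F 2 := by
      have h := CharP.ringChar_of_prime_eq_zero Nat.prime_two (R := F) (by exact_mod_cast h2)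
      exact h ▸ ringChar.charP F
    obtain ⟨l, hl⟩ := SL2Classes.exists_sqrt_two e
    obtain ⟨k, hk⟩ := SL2Classes.exists_sqrt_two (1 + e)
    have hl0 : l ≠ 0 := fun h => he 0 (by rw [map_zero, ← hl, h, zero_pow two_ne_zero])
    have hk0 : k ≠ 0 := fun h => he 1 (by
      rw [h, zero_pow two_ne_zero] at hk
      rw [map_one]; linear_combination hk + h2)
    have hu : prH (upp (1 : F)) ∈ H := by rw [hHeq, ← map_one f]; exact upp_mem_fieldGroup f 1
    have hmem : ∀ c : Fˣ, (prH (dg c))⁻¹ * prH (upp ((c : F) ^ 2)) * prH (dg c) ∈ H := fun c => by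
      rw [← map_inv, ← map_mul, ← map_mul,
        show (dg c : SL2)⁻¹ * upp ((c : F) ^ 2) * dg c = upp 1 by
          rw [show upp ((c : F) ^ 2) = dg c * upp 1 * (dg c)⁻¹ by rw [dg_conj_upp, mul_one]]; group]
      exact hu
    obtain ⟨a, b, ⟨ha, ha'⟩, ⟨hb1, hb2⟩, hab⟩ := crit_of_binary hb (prH (dg (Units.mk0 l hl0)))
      (prH (dg (Units.mk0 k hk0))) (prH (upp 1)) (prH (upp e)) (prH (upp (1 + e))) hu
      (by have h := hmem (Units.mk0 l hl0); rwa [Units.val_mk0, hl] at h)
      (by have h := hmem (Units.mk0 k hk0); rwa [Units.val_mk0, hk] at h)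
      (by rw [← map_mul, upp_mul, show e + (1 + e) = 1 by linear_combination e * h2])
    obtain ⟨A, rfl⟩ := PSL2Inv.pr_surjective a
    obtain ⟨B, rfl⟩ := PSL2Inv.pr_surjective b
    rw [← map_inv, ← map_mul, ← map_mul] at ha' hb2
    rw [hHeq] at ha ha' hb1 hb2
    have mA := monomial_of_rat (l := Units.mk0 l hl0) (fun x h => he x (by rw [h, Units.val_mk0, hl])) ha ha'
    have mB := monomial_of_rat (l := Units.mk0 k hk0) (fun x h => he (x + 1) (by
      rw [map_add, map_one, h, Units.val_mk0, hk]; linear_combination h2)) hb1 hb2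
    rw [← map_mul] at hab
    have hAB : ((A * B : SL2) : M2) = (upp (1 : F) : SL2).1 := by
      rcases PSL2Inv.pr_eq_iff.1 hab with h | h
      · rw [h]
      · rw [h, negOne_eq_one h2, one_mul]
    change (A : M2) * (B : M2) = _ at hAB
    have c00 := congrFun (congrFun hAB 0) 0
    have c01 := congrFun (congrFun hAB 0) 1
    simp [upp_val, Matrix.mul_apply, Fin.sum_univ_two] at c00 c01
    rcases mA with ⟨x1, x2⟩ | ⟨x1, x2⟩ <;> rcases mB with ⟨y1, y2⟩ | ⟨y1, y2⟩ <;>
      simp [x1, x2, y1, y2] at c00 c01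
  · have hsq : ∀ r ∈ fieldGroup f 1, r * r ∈ H := by
      intro r hr
      rcases Nat.lt_or_ge (Nat.card H) (Nat.card (fieldGroup f 1)) with hlt | hge
      · have hidx2 : (H.subgroupOf (fieldGroup f 1)).index = 2 := by
          have h := (H.subgroupOf (fieldGroup f 1)).card_mul_index
          rw [Nat.card_congr (Subgroup.subgroupOfEquivOfLe hle).toEquiv] at h
          have h1 : (H.subgroupOf (fieldGroup f 1)).index ≤ 2 :=
            Nat.le_of_mul_le_mul_left (by rw [h, mul_comm]; exact hidx) (Nat.card_pos (α := H))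
          interval_cases hi : (H.subgroupOf (fieldGroup f 1)).index <;> omega
        exact Subgroup.mul_self_mem_of_index_two hidx2 (⟨r, hr⟩ : fieldGroup f 1)
      · rw [Subgroup.eq_of_le_of_card_ge hle hge]; exact Subgroup.mul_mem _ hr hr
    have h2K : (2 : K) ≠ 0 := fun h => h2 (by rw [← map_ofNat f 2, h, map_zero])
    have hupp : ∀ b : K, prH (upp (f b)) ∈ H := fun b => by
      have h := hsq _ (upp_mem_fieldGroup f (b / 2))
      rwa [← map_mul, upp_mul, ← map_add, show b / 2 + b / 2 = b by field_simp; ring] at h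
    have hlow : ∀ b : K, prH (low (f b)) ∈ H := fun b => by
      have h := hsq _ (low_mem_fieldGroup f (b / 2))
      rwa [← map_mul, low_mul, ← map_add, show b / 2 + b / 2 = b by field_simp; ring] at h
    set t : Fˣ := Units.mk0 2 h2 with ht
    have hanti : prH (anti t) ∈ H := by
      have h := H.mul_mem (H.mul_mem (hlow 2) (hupp (-(1 / 2)))) (hlow 2)
      rw [← map_mul, ← map_mul] at h
      convert h using 2
      apply Subtype.ext
      show (anti t : SL2).1 = (low (f 2) : SL2).1 * (upp (f (-(1 / 2))) : SL2).1 * (low (f 2) : SL2).1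
      simp [anti, ht, upp_val, low_val, Matrix.mul_fin_two, map_div₀, map_ofNat]
      and_intros <;> first | trivial | exact Or.inl trivial | (field_simp; ring; done) | (field_simp; ring_nf; exact Or.inl trivial) | field_simp
    have hhalf : prH (upp (-(1 / 2) : F)) ∈ H := by
      have := hupp (-(1 / 2))
      rwa [map_neg, map_div₀, map_one, map_ofNat] at this
    have hone : prH (upp (1 : F)) ∈ H := by have := hupp 1; rwa [map_one] at this
    have hconj : (anti t : SL2)⁻¹ * low 4 * anti t = upp (-1) := by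
      apply Subtype.ext
      show (anti t : SL2).1.adjugate * (low 4 : SL2).1 * (anti t : SL2).1 = _
      simp [anti, ht, upp_val, low_val, Matrix.mul_fin_two, Matrix.adjugate_fin_two]
      and_intros <;> first | trivial | exact Or.inl trivial | (field_simp; ring; done) | (field_simp; ring_nf; exact Or.inl trivial) | field_simp
    set g₁ := prH (upp e) with hg₁
    have hv : ∀ c : F, (prH (upp c * anti t) * g₁)⁻¹ * prH (upp c * low 4 * (upp c)⁻¹) *
        (prH (upp c * anti t) * g₁) ∈ H := fun c => by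
      rw [hg₁, ← map_mul, ← map_inv, ← map_mul, ← map_mul,
        show (upp c * anti t * upp e)⁻¹ * (upp c * low 4 * (upp c)⁻¹) * (upp c * anti t * upp e) =
          (upp e)⁻¹ * ((anti t)⁻¹ * low 4 * anti t) * upp e by group, hconj, upp_inv, upp_mul, upp_mul,
        show -e + -1 + e = (-1 : F) by ring, ← upp_inv, map_inv]
      exact H.inv_mem hone
    obtain ⟨a, b, ⟨ha, ha1, ha2⟩, ⟨hb1, hb2, hb3⟩, hab⟩ := crit4 hb g₁ (prH (upp 0 * anti t) * g₁)
      (prH (upp (-(1 / 2)) * anti t) * g₁) (prH (upp 1)) (prH (upp 0 * low 4 * (upp 0)⁻¹))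
      (prH (upp (-(1 / 2)) * low 4 * (upp (-(1 / 2)))⁻¹)) hone
      (by rw [hg₁, ← map_inv, ← map_mul, ← map_mul, upp_inv, upp_mul, upp_mul,
            show -e + 1 + e = (1 : F) by ring]; exact hone)
      (hv 0) (hv _) (by
        rw [← map_mul]
        refine (PSL2Inv.pr_eq_iff.2 (Or.inr ?_)).symm
        apply Subtype.ext
        show (upp 1 : SL2).1 = (-1 : M2) * ((upp 0 : SL2).1 * (low 4 : SL2).1 * (upp 0 : SL2).1.adjugate *
          ((upp (-(1 / 2)) : SL2).1 * (low 4 : SL2).1 * (upp (-(1 / 2)) : SL2).1.adjugate))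
        simp [upp_val, low_val, Matrix.mul_fin_two, Matrix.adjugate_fin_two]
        and_intros <;> first | trivial | exact Or.inl trivial | (field_simp; ring; done) | (field_simp; ring_nf; exact Or.inl trivial) | field_simp)
    have htriv : ∀ (c : F) (x : P), prH (upp c) ∈ H → x ∈ H → g₁⁻¹ * x * g₁ ∈ H →
        (prH (upp c * anti t) * g₁)⁻¹ * x * (prH (upp c * anti t) * g₁) ∈ H → x = 1 := by
      intro c x hc hx hx1 hx2
      obtain ⟨X, rfl⟩ := PSL2Inv.pr_surjective x
      rw [hg₁, ← map_inv, ← map_mul, ← map_mul] at hx1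
      obtain ⟨b, hb⟩ := translation_of_rat he (hle hx) (hle hx1)
      rw [hb] at hx hx2 ⊢
      have hm : prH ((upp c * anti t)⁻¹ * upp b * (upp c * anti t)) ∈ H := by
        rw [map_mul, map_mul, map_inv, map_mul]
        exact H.mul_mem (H.mul_mem (H.inv_mem (H.mul_mem hc hanti)) hx) (H.mul_mem hc hanti)
      have hm1 : prH ((upp e)⁻¹ * ((upp c * anti t)⁻¹ * upp b * (upp c * anti t)) * upp e) ∈ H := by
        have : (prH (upp c * anti t) * g₁)⁻¹ * prH (upp b) * (prH (upp c * anti t) * g₁) =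
            prH ((upp e)⁻¹ * ((upp c * anti t)⁻¹ * upp b * (upp c * anti t)) * upp e) := by
          simp only [hg₁, map_mul, map_inv]; group
        exact (congrArg (· ∈ H) this).mp hx2
      obtain ⟨b', hb'⟩ := translation_of_rat he (hle hm) (hle hm1)
      have hval : (((upp c * anti t)⁻¹ * upp b * (upp c * anti t) : SL2) : M2) 1 0 = -(4 * b) := by
        show (((upp c : SL2).1 * (anti t : SL2).1).adjugate * (upp b : SL2).1 *
          ((upp c : SL2).1 * (anti t : SL2).1)) 1 0 = _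
        simp [anti, ht, upp_val, Matrix.mul_fin_two, Matrix.adjugate_fin_two]
        ring
      have h0 : (((upp c * anti t)⁻¹ * upp b * (upp c * anti t) : SL2) : M2) 1 0 = 0 := by
        rcases PSL2Inv.pr_eq_iff.1 hb'.symm with h | h
        · rw [h]; simp [upp_val]
        · rw [h]
          show ((-1 : M2) * (upp b' : SL2).1) 1 0 = 0
          simp [upp_val]
      rw [hval, neg_eq_zero] at h0
      have h4 : (4 : F) ≠ 0 := fun h => h2 (pow_eq_zero_iff two_ne_zero |>.1
        (show (2 : F) ^ 2 = 0 by rw [← h]; norm_num))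
      rw [(mul_eq_zero.1 h0).resolve_left h4, upp_zero, map_one]
    rw [htriv 0 a (by rw [upp_zero, map_one]; exact H.one_mem) ha ha1 ha2, htriv _ b hhalf hb1 hb2 hb3,
      one_mul] at hab
    exact one_ne_zero (α := F) (pr_upp_injective (a₁ := (1 : F)) (a₂ := 0) (hab.trans (by simp [upp_zero])))

theorem not_binary_subfield (f : K →+* F) {m : ℕ} (hm : Nat.card K ^ m = Nat.card F) (hm2 : 2 ≤ m)
    {H : Subgroup P} (hf : SubfieldLike f H)
    (hiso : Nonempty (H ≃* Matrix.ProjectiveSpecialLinearGroup (Fin 2) K) ∨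
      Nonempty (H ≃* Matrix.ProjGenLinGroup (Fin 2) K)) : ¬ BinaryOn H := by
  obtain ⟨g, hg⟩ := hf
  induction g using ProjGenLinGroup.induction_on with | mk γ =>
  obtain ⟨φ, hφ⟩ := exists_auto (F := F) γ⁻¹
  intro hb
  have hle : H.map φ.toMonoidHom ≤ fieldGroup f 1 := by
    rintro _ ⟨x, hx, rfl⟩
    obtain ⟨X, rfl⟩ := PSL2Inv.pr_surjective x
    show (1 : Matrix.ProjGenLinGroup (Fin 2) F) * Matrix.ProjectiveSpecialLinearGroup.toPGL (φ (prH X)) * 1⁻¹ ∈ (ProjGenLinGroup.map f).range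
    rw [hφ, one_mul, inv_one, mul_one]
    have h := hg _ hx
    change ProjGenLinGroup.mk γ * ProjGenLinGroup.mk (Matrix.SpecialLinearGroup.toGL X) * (ProjGenLinGroup.mk γ)⁻¹ ∈ _ at h
    show ProjGenLinGroup.mk (Matrix.SpecialLinearGroup.toGL (conjGL γ⁻¹ X)) ∈ (ProjGenLinGroup.map f).range
    rw [show Matrix.SpecialLinearGroup.toGL (conjGL γ⁻¹ X) = γ * Matrix.SpecialLinearGroup.toGL X * γ⁻¹ from
      Units.ext (by rw [Units.val_mul, Units.val_mul]; show (conjGL γ⁻¹ X : SL2).1 = _; rw [conjGL_val, inv_inv]; rfl),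
      map_mul, map_mul, map_inv]
    exact h
  have hcard : Nat.card (H.map φ.toMonoidHom) = Nat.card H := Subgroup.card_map_of_injective φ.injective
  have hb1 := card_fieldGroup_le f (1 : Matrix.ProjGenLinGroup (Fin 2) F)
  have hz := gcd_mul_card_psl (K := K)
  have hH : Nat.card K * (Nat.card K ^ 2 - 1) ≤ Nat.gcd 2 (Nat.card K - 1) * Nat.card H := by
    rcases hiso with ⟨⟨e⟩⟩ | ⟨⟨e⟩⟩
    · rw [Nat.card_congr e.toEquiv, hz]
    · rw [Nat.card_congr e.toEquiv, card_pgl2]
      exact Nat.le_mul_of_pos_left _ (Nat.gcd_pos_of_pos_left _ (by norm_num))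
  refine not_binary_subfield_standard f hm hm2 hle ?_ (fun h2 => ?_) (binaryOn_map φ hb)
  · rw [hcard]
    exact hb1.trans (hH.trans (Nat.mul_le_mul_right _ (Nat.gcd_le_left _ (by norm_num))))
  · have h2K : (2 : K) = 0 := f.injective (by rw [map_ofNat, map_zero]; exact h2)
    haveI := Fintype.ofFinite K
    haveI : CharP K 2 := by
      have h := CharP.ringChar_of_prime_eq_zero Nat.prime_two (R := K) (by exact_mod_cast h2K)
      exact h ▸ ringChar.charP K
    obtain ⟨n, -, hn⟩ := FiniteField.card K 2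
    rw [← Nat.card_eq_fintype_card] at hn
    have hgcd : Nat.gcd 2 (Nat.card K - 1) = 1 := by
      refine (Nat.coprime_two_left (n := Nat.card K - 1)).2 ?_
      have h1 : 2 ∣ Nat.card K := hn ▸ dvd_pow_self 2 n.ne_zero
      have h3 : 1 ≤ Nat.card K := Nat.card_pos
      rw [Nat.odd_iff]
      omega
    rw [hgcd, one_mul] at hH
    rw [hcard]
    exact hb1.trans hH

end Cfsg.Agent.PSL2Binary
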