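import Cfsg.Agent.Lib.PSL2Binary.Small
import Cfsg.Agent.Lib.PSL2Binary.Sufficient
import Cfsg.Agent.Lib.PSL2Binary.DihedralOdd
import Cfsg.Agent.Lib.PSL2Binary.DihedralTwo
import Cfsg.Agent.Lib.PSL2Binary.FourGroups
import Cfsg.Agent.Lib.PSL2Binary.Borel
import Cfsg.Agent.Lib.PSL2Binary.Subfield
import Mathlib.GroupTheory.SpecificGroups.Dihedral

/-!
Classification of the binary coset actions of `PSL_2(q)`.
-/

set_option autoImplicit false
set_option linter.unusedSectionVars false
set_option linter.unusedSimpArgs false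
set_option linter.style.haveILetI false

namespace Cfsg.Agent.PSL2Binary

open Matrix PStable Cfsg.Agent.Dickson Cfsg.Agent.SzBinary

variable {F : Type*} [Field F] [Finite F]

local notation "SL2" => Matrix.SpecialLinearGroup (Fin 2) F
local notation "M2" => Matrix (Fin 2) (Fin 2) F
local notation "P" => Matrix.ProjectiveSpecialLinearGroup (Fin 2) F
local notation "prH" => PSL2Inv.pr (F := F)
local notation "tr" X => Matrix.trace ((X : SL2) : M2)
local notation "zz" => Nat.card (Subgroup.center SL2)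

/-- The alternatives for a binary action. -/
def Allowed (H : Subgroup (Matrix.ProjectiveSpecialLinearGroup (Fin 2) F)) : Prop :=
  H = ⊥ ∨ ((∃ a : ℕ, Nat.card F = 2 ^ a) ∧
      ∃ S : Sylow 2 (Matrix.ProjectiveSpecialLinearGroup (Fin 2) F), H = S) ∨
    ((∃ a : ℕ, Odd a ∧ Nat.card F = 2 ^ a) ∧ Nat.card H = 3)

variable (p n : ℕ) [hp : Fact p.Prime] [CharP F p]

theorem two_ne_zero_of (h : p ≠ 2) : (2 : F) ≠ 0 := fun h2 =>
  h (CharP.eq F ‹CharP F p› (by
    have := CharP.ringChar_of_prime_eq_zero Nat.prime_two (R := F) (by exact_mod_cast h2)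
    exact this ▸ ringChar.charP F))

theorem two_eq_zero_of (h : p = 2) : (2 : F) = 0 := by
  subst h; simpa using CharP.cast_eq_zero F 2

theorem not_dvd_of_pm (hq : Nat.card F = p ^ n) (hn : 0 < n) {k : ℕ}
    (hk : zz * k ∣ Nat.card F + 1 ∨ zz * k ∣ Nat.card F - 1) : ¬ p ∣ k := by
  intro hd
  have hpq : p ∣ Nat.card F := hq ▸ dvd_pow_self p hn.ne'
  have hpos : 1 ≤ Nat.card F := Nat.card_pos
  rcases hk with h | h <;> have h' := (hd.trans (dvd_mul_left k _)).trans h
  · exact hp.out.not_dvd_one ((Nat.dvd_add_right hpq).1 h')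
  · have := Nat.dvd_sub hpq h'
    rw [show Nat.card F - (Nat.card F - 1) = 1 by omega] at this
    exact hp.out.not_dvd_one this

theorem cube_of_trace_one (h2 : (2 : F) = 0) {X : SL2} (h : (tr X) = 1) : prH X ^ 3 = 1 := by
  have hd := det_one X
  rw [Matrix.trace_fin_two] at h
  rw [← map_pow, ← map_one prH]
  refine congrArg prH (Subtype.ext ?_)
  simp only [pow_succ, pow_zero, one_mul]
  show (X : M2) * (X : M2) * (X : M2) = 1
  refine ext2 ?_ ?_ ?_ ?_ <;>
    simp only [Matrix.mul_apply, Fin.sum_univ_two, Matrix.one_apply_eq,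
      Matrix.one_apply_ne, ne_eq, zero_ne_one, one_ne_zero, not_false_eq_true]
  · linear_combination ((X : M2) 0 0 * ((X : M2) 0 0 + (X : M2) 1 1 + 1) - 1) * h -
      ((X : M2) 0 0 + ((X : M2) 0 0 + (X : M2) 1 1)) * hd - h2
  · linear_combination (X : M2) 0 1 * ((X : M2) 0 0 + (X : M2) 1 1 + 1) * h - (X : M2) 0 1 * hd
  · linear_combination (X : M2) 1 0 * ((X : M2) 0 0 + (X : M2) 1 1 + 1) * h - (X : M2) 1 0 * hd
  · linear_combination ((X : M2) 1 1 * ((X : M2) 0 0 + (X : M2) 1 1 + 1) - 1) * h -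
      ((X : M2) 1 1 + ((X : M2) 0 0 + (X : M2) 1 1)) * hd - h2

theorem cyclic_case (hq : Nat.card F = p ^ n) {H : Subgroup P} [hc : IsCyclic H] (hpk : ¬ p ∣ Nat.card H)
    (hb : BinaryOn H) : Allowed H := by
  obtain ⟨⟨x, hxH⟩, hgen⟩ := IsCyclic.exists_generator (α := H)
  have ho : orderOf x = Nat.card H := by
    rw [← Subgroup.orderOf_mk x hxH]; exact orderOf_eq_card_of_forall_mem_zpowers hgen
  by_cases hx1 : x = 1
  · left
    rw [hx1, orderOf_one] at ho
    exact Subgroup.card_eq_one.1 ho.symm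
  have hxp : x ^ p ≠ 1 := fun h => by
    rcases (Nat.dvd_prime hp.out).1 (orderOf_dvd_of_pow_eq_one h) with h' | h'
    · exact hx1 (orderOf_eq_one_iff.1 h')
    · exact hpk (ho ▸ h' ▸ dvd_rfl)
  obtain ⟨X, rfl⟩ := PSL2Inv.pr_surjective x
  have hτ := (semis_of_pow p hxp).2
  have hle : H ≤ tor X := by
    intro y hy
    obtain ⟨i, hi⟩ := hgen ⟨y, hy⟩
    have : prH X ^ i = y := congrArg Subtype.val hi
    exact this ▸ (tor X).zpow_mem (mem_tor_self X) i
  by_cases hex : (2 : F) ≠ 0 ∨ (tr X) ≠ 1 ∨ ∃ r : F, r ^ 2 + r + 1 = 0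
  · exact absurd hb (not_binary_torus hτ hxH hle hex)
  push Not at hex
  obtain ⟨h2, ht, hr⟩ := hex
  have hp2 : p = 2 := by_contra fun h => two_ne_zero_of p h h2
  subst hp2
  refine Or.inr (Or.inr ⟨⟨n, ?_, hq⟩, ?_⟩)
  · rw [← Nat.not_even_iff_odd, ← root_iff h2 hq]
    exact fun ⟨r, hr'⟩ => hr r hr'
  · rw [← ho]
    haveI := Fact.mk Nat.prime_three
    exact orderOf_eq_prime (cube_of_trace_one h2 ht) hx1

theorem allowed_of_map (hq : Nat.card F = p ^ n) {H : Subgroup P} (φ : P ≃* P)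
    (h : H.map φ.toMonoidHom = ⊥ ∨ Nat.card (H.map φ.toMonoidHom) = 3 ∧ p = 2 ∧ Odd n) : Allowed H := by
  rcases h with h | ⟨h, hp2, hn⟩
  · exact Or.inl ((Subgroup.map_eq_bot_iff_of_injective H φ.injective).1 h)
  · refine Or.inr (Or.inr ⟨⟨n, hn, hp2 ▸ hq⟩, ?_⟩)
    rwa [Subgroup.card_map_of_injective φ.injective] at h

theorem borel_case (hq : Nat.card F = p ^ n) (hn : 0 < n) (h4 : 4 ≤ Nat.card F) {H : Subgroup P} (S : Sylow p P)
    (hS : H ≤ Subgroup.normalizer ((S : Subgroup P) : Set P)) (hb : BinaryOn H) : Allowed H := by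
  classical
  obtain ⟨φ₁, hSr, htri⟩ := exists_triangular p S hS
  obtain ⟨φ₂, hr2, hform⟩ := exists_form htri
  set φ := φ₁.trans φ₂
  have hmap : (H.map φ₁.toMonoidHom).map φ₂.toMonoidHom = H.map φ.toMonoidHom := by
    rw [Subgroup.map_map]; rfl
  rw [hmap] at hform
  set H' := H.map φ.toMonoidHom with hH'
  have hb' : BinaryOn H' := binaryOn_map φ hb
  set U := translations H' with hU
  by_cases hU0 : U = ⊥
  · -- only a torus
    let D : Fˣ →* P := MonoidHom.comp prH (MonoidHom.mk' (fun u : Fˣ => (dg u : SL2)) fun u v => (dg_mul u v).symm)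
    set L : Subgroup Fˣ := H'.comap D with hL
    have heq : H' = L.map D := by
      refine le_antisymm (fun a ha => ?_) (by rintro _ ⟨l, hl, rfl⟩; exact hl)
      obtain ⟨b, l, hb0, hl, rfl⟩ := hform a ha
      rw [hU0, AddSubgroup.mem_bot] at hb0
      exact ⟨l, hl, by rw [hb0, upp_zero, one_mul]; rfl⟩
    haveI : IsCyclic H' := by
      rw [heq]
      exact isCyclic_of_surjective (D.subgroupMap L) (D.subgroupMap_surjective L)
    have hnd : ¬ p ∣ Nat.card H' := by
      intro hd
      rw [heq] at hd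
      have h1 := (hd.trans (L.card_map_dvd D)).trans L.card_subgroup_dvd_card
      rw [Nat.card_units] at h1
      have := Nat.dvd_sub (hq ▸ dvd_pow_self p hn.ne' : p ∣ Nat.card F) h1
      rw [show Nat.card F - (Nat.card F - 1) = 1 by omega] at this
      exact hp.out.not_dvd_one this
    refine allowed_of_map p n hq φ ?_
    rcases cyclic_case p n hq hnd hb' with h | ⟨⟨a, ha⟩, S', hS'⟩ | ⟨⟨a, hodd, ha⟩, h3⟩
    · exact Or.inl h
    · left
      have hp2 : p = 2 := (Nat.prime_dvd_prime_iff_eq hp.out Nat.prime_two).1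
        (hp.out.dvd_of_dvd_pow (ha ▸ hq ▸ dvd_pow_self p hn.ne'))
      subst hp2
      obtain ⟨m, hm⟩ := IsPGroup.iff_card.1 S'.2
      rw [← hS'] at hm
      rcases m with _ | m
      · exact Subgroup.card_eq_one.1 (by rw [hm, pow_zero])
      · exact absurd (hm ▸ dvd_pow_self 2 m.succ_ne_zero) hnd
    · refine Or.inr ⟨h3, ?_⟩
      have hp2 : p = 2 := (Nat.prime_dvd_prime_iff_eq hp.out Nat.prime_two).1
        (hp.out.dvd_of_dvd_pow (ha ▸ hq ▸ dvd_pow_self p hn.ne'))
      subst hp2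
      refine ⟨rfl, ?_⟩
      rwa [Nat.pow_right_injective (le_refl 2) (hq.symm.trans ha)]
  have hf : BorelForm H' U := ⟨fun b => Iff.rfl, hform, hU0⟩
  by_cases hp2 : p = 2
  · have h2 := two_eq_zero_of (F := F) p hp2
    by_cases hUT : U = ⊤
    swap
    · exact absurd hb' (not_binary_borel_even hf h2 h4 hUT)
    by_cases hl : ∃ l : Fˣ, prH (dg l) ∈ H' ∧ (l : F) ^ 2 ≠ 1
    · obtain ⟨l, hl, hl2⟩ := hl
      refine absurd hb' (not_binary_borel_full hf hUT hl fun h => ?_)
      have : ((l : F) ^ 2 - 1) * ((l : F) ^ 2 - 1) = 0 := by linear_combination h + (1 - (l : F) ^ 2) * h2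
      exact hl2 (sub_eq_zero.1 (mul_self_eq_zero.1 this))
    push Not at hl
    subst hp2
    refine Or.inr (Or.inl ⟨⟨n, hq⟩, S, ?_⟩)
    refine Subgroup.map_injective (f := φ.toMonoidHom) φ.injective ?_
    rw [show (S : Subgroup P).map φ.toMonoidHom = root by
      rw [show φ.toMonoidHom = φ₂.toMonoidHom.comp φ₁.toMonoidHom from rfl, ← Subgroup.map_map, hSr, hr2], ← hH']
    ext a
    constructor
    · intro ha
      obtain ⟨b, l, -, hlm, rfl⟩ := hform a ha
      exact ⟨b, by rw [map_mul, (pr_dg_eq_one_iff l).2 (hl l hlm), mul_one]⟩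
    · rintro ⟨b, rfl⟩
      exact (hf.upp_mem b).2 (hUT ▸ AddSubgroup.mem_top b)
  have h2 := two_ne_zero_of (F := F) p hp2
  exfalso
  by_cases hl : U ≠ ⊤ ∨ ∀ l : Fˣ, prH (dg l) ∈ H' → (l : F) ^ 2 = 1
  · exact not_binary_borel_odd hf h2 hl hb'
  push Not at hl
  obtain ⟨hUT, l, hl, hl2⟩ := hl
  by_cases h44 : ∃ k : Fˣ, prH (dg k) ∈ H' ∧ (k : F) ^ 4 ≠ 1
  · obtain ⟨k, hk, hk4⟩ := h44
    exact not_binary_borel_full hf hUT hk hk4 hb'
  push Not at h44
  refine not_binary_borel_two hf h2 hUT hl ?_ h44 hb'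
  exact (mul_self_eq_one_iff.1 (show (l : F) ^ 2 * (l : F) ^ 2 = 1 by linear_combination h44 l hl)).resolve_left hl2

theorem dihedral_case (hq : Nat.card F = p ^ n) (hn : 0 < n) (h4 : 4 ≤ Nat.card F) (h5 : Nat.card F ≠ 5)
    {H : Subgroup P} {k : ℕ} (hk : zz * k ∣ Nat.card F + 1 ∨ zz * k ∣ Nat.card F - 1) (e : H ≃* DihedralGroup k)
    (hb : BinaryOn H) : Allowed H := by
  classical
  have hk0 : k ≠ 0 := by
    rintro rfl
    rw [mul_zero] at hk
    rcases hk with h | h <;> have := Nat.eq_zero_of_zero_dvd h <;> omega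
  haveI : NeZero k := ⟨hk0⟩
  have hcH : Nat.card H = 2 * k := (Nat.card_congr e.toEquiv).trans DihedralGroup.nat_card
  have hpk := not_dvd_of_pm p n hq hn hk
  have hodd7 : p ≠ 2 → 7 ≤ Nat.card F := fun hp2 => by
    have : Nat.card F % 2 = 1 := by
      rw [hq, Nat.pow_mod, (hp.out.eq_two_or_odd.resolve_left hp2), one_pow, Nat.one_mod]
    omega
  by_cases hk1 : k = 1
  · subst hk1
    rw [mul_one] at hcH
    haveI : Fact (Nat.Prime 2) := ⟨Nat.prime_two⟩
    by_cases hp2 : p = 2
    · subst hp2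
      obtain ⟨S, hS⟩ := IsPGroup.exists_le_sylow (IsPGroup.of_card (p := 2) (n := 1) (by rw [hcH, pow_one]) : IsPGroup 2 H)
      exact borel_case 2 n hq hn h4 S (hS.trans Subgroup.le_normalizer) hb
    · haveI : IsCyclic H := isCyclic_of_prime_card hcH
      exact cyclic_case p n hq (fun h => hp2 (by rw [hcH] at h; exact (Nat.prime_dvd_prime_iff_eq hp.out Nat.prime_two).1 h)) hb
  set x : P := (e.symm (DihedralGroup.r 1) : P) with hx
  set s : P := (e.symm (DihedralGroup.sr 0) : P) with hs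
  have hox : orderOf x = k := by rw [hx, Subgroup.orderOf_coe, MulEquiv.orderOf_eq, DihedralGroup.orderOf_r_one]
  have hxH : x ∈ H := (e.symm _).2
  have hsH : s ∈ H := (e.symm _).2
  have hone : ∀ {d : DihedralGroup k}, d ≠ 1 → (e.symm d : P) ≠ 1 := fun hd h =>
    hd (by rwa [OneMemClass.coe_eq_one, EmbeddingLike.map_eq_one_iff] at h)
  have hs1 : s ≠ 1 := hone (by rintro ⟨⟩)
  have hss : s * s = 1 := by
    rw [hs, ← coe_symm_mul, DihedralGroup.sr_mul_self, map_one, OneMemClass.coe_one]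
  have hinv : s * x * s⁻¹ = x⁻¹ := by
    rw [hs, hx, ← coe_symm_inv, ← coe_symm_inv, ← coe_symm_mul, ← coe_symm_mul]
    simp
  have hr : ∀ i : ZMod k, (e.symm (DihedralGroup.r i) : P) = x ^ i.val := fun i => by
    rw [hx, ← coe_symm_pow, DihedralGroup.r_one_pow, ZMod.natCast_zmod_val]
  have hsr : ∀ i : ZMod k, (e.symm (DihedralGroup.sr i) : P) = s * x ^ i.val := fun i => by
    rw [← hr, hs, ← coe_symm_mul, DihedralGroup.sr_mul_r, zero_add]
  have hall : ∀ y ∈ H, ∃ i : ZMod k, y = x ^ i.val ∨ y = s * x ^ i.val := by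
    intro y hy
    rcases hd : e ⟨y, hy⟩ with i | i <;> refine ⟨i, ?_⟩
    · left; rw [← hr, ← hd, e.symm_apply_apply]
    · right; rw [← hsr, ← hd, e.symm_apply_apply]
  obtain rfl | hk2 := eq_or_ne k 2
  · have hp2 : p ≠ 2 := fun h => hpk (by rw [h])
    exfalso
    have hxx : x * x = 1 := by
      have := pow_orderOf_eq_one x
      rwa [hox, pow_two] at this
    have hcomm : x * s = s * x := by
      rw [hx, hs, ← coe_symm_mul, ← coe_symm_mul]; congr 2
    refine not_binary_four (two_ne_zero_of p hp2) (hodd7 hp2) (V := H) (by rw [hcH]) hxH hsH hxx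
      (fun h => by rw [h, orderOf_one] at hox; omega) hss hs1 ?_ hcomm ?_ hb
    · intro h
      have := e.symm.injective (Subtype.ext h : e.symm (DihedralGroup.r 1) = e.symm (DihedralGroup.sr 0))
      cases this
    · intro y hy
      obtain ⟨i, hi⟩ := hall y hy
      have hi2 : i.val < 2 := ZMod.val_lt i
      interval_cases i.val <;> rcases hi with rfl | rfl
      · simp
      · simp
      · simp
      · right; right; right; rw [pow_one, hcomm]
  have hk3 : 3 ≤ k := by omega
  have hxp : x ^ p ≠ 1 := fun h => by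
    rcases (Nat.dvd_prime hp.out).1 (hox ▸ orderOf_dvd_of_pow_eq_one h) with h' | h' <;>
      [omega; exact hpk (h' ▸ dvd_rfl)]
  have hx2 : x * x ≠ 1 := fun h => by
    have := Nat.le_of_dvd two_pos (hox ▸ orderOf_dvd_of_pow_eq_one (by rwa [pow_two]))
    omega
  obtain ⟨X, hX, hτ, h0⟩ := semisimple_lift p hxp hx2
  obtain ⟨S, hS⟩ := PSL2Inv.pr_surjective s
  have hS0 : (tr S) = 0 := trace_zero_of_sq (by rw [hS]; exact hss) fun h => hs1 (hS ▸ pr_eq_one.2 h)
  have hSX : S * X * S⁻¹ = X⁻¹ := invert_lift (by rw [hS, hX]; exact hinv) h0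
  have hXH : prH X ∈ H := hX ▸ hxH
  have hSH : prH S ∈ H := hS ▸ hsH
  have hdec : ∀ a ∈ H, a ∈ tor X ∨ a * prH X * a⁻¹ = (prH X)⁻¹ := by
    intro a ha
    obtain ⟨i, rfl | rfl⟩ := hall a ha
    · exact Or.inl (hX ▸ (tor X).pow_mem (mem_tor_self X) _)
    · right
      rw [hX]
      have hc : x ^ i.val * x = x * x ^ i.val := (Commute.self_pow x _).symm
      rw [show s * x ^ i.val * x * (s * x ^ i.val)⁻¹ = s * (x ^ i.val * x) * (x ^ i.val)⁻¹ * s⁻¹ by group, hc,
        show s * (x * x ^ i.val) * (x ^ i.val)⁻¹ * s⁻¹ = s * x * s⁻¹ by group, hinv]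
  exfalso
  by_cases hp2 : p = 2
  · have h2 := two_eq_zero_of (F := F) p hp2
    by_cases hex : (tr X) ≠ 1 ∨ ∃ r : F, r ^ 2 + r + 1 = 0
    · exact not_binary_dihedral_two h2 h0 hXH hSH hS0 hSX hdec hex hb
    push Not at hex
    have hk3' : k = 3 := by
      have := hox ▸ orderOf_dvd_of_pow_eq_one (hX ▸ cube_of_trace_one h2 hex.1)
      have := Nat.le_of_dvd (by norm_num) this
      omega
    subst hp2
    have hodd : Odd n := by
      rw [← Nat.not_even_iff_odd, ← root_iff h2 hq]
      exact fun ⟨r, hr'⟩ => hex.2 r hr'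
    have hn3 : 3 ≤ n := by
      obtain ⟨m, rfl⟩ := hodd
      by_contra hlt
      obtain rfl : m = 0 := by omega
      simp at hq
      omega
    have hq8 : 8 ≤ Nat.card F := by rw [hq]; exact Nat.pow_le_pow_right two_pos hn3
    refine not_binary_dihedral_two_small h2 h4 h0 hXH hSH hS0 hSX hdec ?_ hb
    by_contra hno
    push Not at hno
    have h6 := Subgroup.card_le_of_le (show tor X ≤ H from hno)
    rw [hcH, hk3'] at h6
    have hz : zz = 1 := by
      rw [card_center]
      refine Nat.Coprime.gcd_eq_one (Nat.coprime_two_left.2 ?_)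
      rw [Nat.odd_iff]
      have : 2 ∣ Nat.card F := hq ▸ dvd_pow_self 2 hn.ne'
      omega
    have := card_tor hτ
    rw [hz, one_mul] at this
    omega
  have h2 := two_ne_zero_of (F := F) p hp2
  by_cases hk4 : k = 4
  · subst hk4
    set z := x * x with hz
    have hx4 : x ^ 4 = 1 := by
      have := pow_orderOf_eq_one x
      rwa [hox] at this
    have hzz' : z * z = 1 := by rw [hz, ← hx4]; simp only [pow_succ, pow_zero, one_mul, mul_assoc]
    have hsz : s * z = z * s := by
      rw [hz]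
      calc s * (x * x) = (s * x * s⁻¹) * (s * x * s⁻¹) * s := by group
        _ = (x ^ 4)⁻¹ * (x * x) * s := by rw [hinv]; group
        _ = x * x * s := by rw [hx4]; group
    refine not_binary_eight h2 (hodd7 hp2) (by rw [hcH]) (H.mul_mem hxH hxH) hsH hzz' hx2 hss hs1 ?_ ?_
      (f := fun i : Fin 4 => (e.symm (DihedralGroup.sr (i : ZMod 4)) : P)) ?_ ?_ hb
    · rw [hx, ← coe_symm_mul, hs, Ne, Subtype.coe_inj, EmbeddingLike.apply_eq_iff_eq]
      rintro ⟨⟩
    · intro y hy
      rw [Subgroup.mem_centralizer_singleton_iff]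
      obtain ⟨i, rfl | rfl⟩ := hall y hy
      · exact (Commute.pow_left (Commute.mul_right (Commute.refl x) (Commute.refl x)) _ :)
      · rw [mul_assoc, (Commute.pow_left (Commute.mul_right (Commute.refl x) (Commute.refl x)) _ :), ← mul_assoc,
          hsz, mul_assoc]
    · intro i j hij
      have := DihedralGroup.sr.inj (e.symm.injective (Subtype.ext hij))
      exact this
    · intro i
      refine ⟨(e.symm _).2, ?_, hone (by rintro ⟨⟩), ?_⟩
      · exact (fun j : ZMod 4 => by
          rw [← coe_symm_mul, DihedralGroup.sr_mul_self, map_one, OneMemClass.coe_one] :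
            ∀ j : ZMod 4, (e.symm (DihedralGroup.sr j) : P) * e.symm (DihedralGroup.sr j) = 1) i
      · show (e.symm _ : P) ≠ z
        rw [hz, hx, ← coe_symm_mul, Ne, Subtype.coe_inj, EmbeddingLike.apply_eq_iff_eq]
        rintro ⟨⟩
  refine not_binary_dihedral_odd h2 (by have := hodd7 hp2; omega) hτ h0 (fun h => ?_) hXH hSH hS0 hSX hdec hb
  have h4' : prH (X * X) * prH (X * X) = 1 := PSL2Inv.pr_mul_self (by rw [trace_mul_self, h, sub_self])
  have hd : k ∣ 4 := by
    rw [← hox]
    refine orderOf_dvd_of_pow_eq_one ?_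
    rw [← h4', map_mul, hX]; simp only [pow_succ, pow_zero, one_mul, mul_assoc]
  have := Nat.le_of_dvd (by norm_num) hd
  rw [show k = 3 by omega] at hd
  norm_num at hd

theorem allowed_of_binary (h4 : 4 ≤ Nat.card F) (h5 : Nat.card F ≠ 5) {H : Subgroup P} (hH : H ≠ ⊤)
    (hb : BinaryOn H) : Allowed H := by
  classical
  obtain ⟨p, hpc⟩ := CharP.exists F
  haveI := hpc
  haveI := Fintype.ofFinite F
  obtain ⟨n, hp, hq⟩ := FiniteField.card F p
  haveI := Fact.mk hp
  rw [← Nat.card_eq_fintype_card] at hq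
  have hn : 0 < (n : ℕ) := n.pos
  have hP : zz * Nat.card P = Nat.card F * (Nat.card F ^ 2 - 1) := zz_mul_card
  have hdvd : Nat.card H ∣ Nat.card P := H.card_subgroup_dvd_card
  have small : ∀ b, Nat.card F < b → 5 ≤ p → b ≤ 25 → Nat.card F = p := fun b hlt hp5 hb25 => by
    have : (n : ℕ) = 1 := by
      by_contra hne
      have : p ^ 2 ≤ p ^ (n : ℕ) := Nat.pow_le_pow_right hp.pos (by omega)
      have : 25 ≤ p ^ 2 := by nlinarith
      omega
    rw [hq, this, pow_one]
  have hz2 : p ≠ 2 → zz = 2 := fun hp2 => by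
    have : Nat.card F % 2 = 1 := by
      rw [hq, Nat.pow_mod, (hp.eq_two_or_odd.resolve_left hp2), one_pow, Nat.one_mod]
    rw [card_center]
    exact Nat.gcd_eq_left (by omega)
  rcases classify_proper' p hH with ⟨k, hk, ⟨hc, hck⟩ | ⟨⟨e⟩⟩⟩ | ⟨S, hS⟩ | ⟨hp2, hp3, ⟨e⟩⟩ | ⟨hp2, hp3, ⟨e⟩⟩ |
    ⟨hp2, hp5, ⟨e⟩⟩ | ⟨K, i1, i2, m, hm2, hm, ⟨f, hf⟩, hiso⟩
  · haveI := hc
    exact cyclic_case p n hq (hck ▸ not_dvd_of_pm p n hq hn hk) hb
  · exact dihedral_case p n hq hn h4 h5 hk e hb
  · exact borel_case p n hq hn h4 S hS hb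
  · exfalso
    by_cases h9 : 9 ≤ Nat.card F
    · exact not_binary_A4 p hp3 hp2 e h9 hb
    have hp5 : 5 ≤ p := by
      have := hp.two_le
      by_contra h
      interval_cases p <;> first | omega | (norm_num at hp; done)
    have hqp := small 9 (by omega) hp5 (by norm_num)
    have h7 : p = 7 := by
      rw [hqp] at h9 h5
      interval_cases p <;> first | rfl | omega | (norm_num at hp; done)
    subst h7
    exact not_binary_A4_seven e hqp hb
  · exfalso
    by_cases h15 : 15 ≤ Nat.card F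
    · exact not_binary_S4 p hp3 hp2 e h15 hb
    have hp5 : 5 ≤ p := by
      have := hp.two_le
      by_contra h
      interval_cases p <;> first | omega | (norm_num at hp; done)
    have hqp := small 15 (by omega) hp5 (by norm_num)
    have hc : Nat.card H = 24 := by
      rw [Nat.card_congr e.toEquiv, Nat.card_perm, Nat.card_fin]; rfl
    rw [hc] at hdvd
    rw [hz2 hp2, hqp] at hP
    rw [hqp] at h15 h5
    interval_cases p <;> first
      | omega
      | (norm_num at hp; done)
      | exact not_binary_S4_seven 7 (by norm_num) (by norm_num) e hqp hb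
      | (norm_num at hP; omega)
  · exfalso
    by_cases h13 : 13 ≤ Nat.card F
    · exact not_binary_A5 p hp5 hp2 e h13 hb
    have hc : Nat.card H = 60 := (Nat.card_congr e.toEquiv).trans card_A5
    rw [hc] at hdvd
    by_cases hp3 : p = 3
    · subst hp3
      have hn2 : (n : ℕ) = 2 := by
        have : (n : ℕ) < 3 := by
          by_contra h
          have : 3 ^ 3 ≤ 3 ^ (n : ℕ) := Nat.pow_le_pow_right (by norm_num) (by omega)
          omega
        by_contra h
        rw [show (n : ℕ) = 1 by omega] at hq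
        omega
      rw [hn2] at hq
      exact not_binary_A5_nine e hq hb
    have hp5' : 5 ≤ p := by
      have := hp.two_le
      by_contra h
      interval_cases p <;> first | omega | (norm_num at hp; done)
    have hqp := small 13 (by omega) hp5' (by norm_num)
    rw [hz2 hp2, hqp] at hP
    rw [hqp] at h13 h5
    interval_cases p <;> first
      | omega
      | (norm_num at hp; done)
      | exact not_binary_A5_eleven 11 (by norm_num) (two_ne_zero_of 11 (by norm_num)) e hqp hb
      | (norm_num at hP; omega)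
  · exfalso
    rw [← Nat.card_eq_fintype_card] at hm
    exact not_binary_subfield f hm hm2 hf hiso hb

theorem binary_of_allowed (h4 : 4 ≤ Nat.card F) {H : Subgroup P} (h : Allowed H) : BinaryOn H := by
  haveI := Fintype.ofFinite F
  have char2 : ∀ a, Nat.card F = 2 ^ a → CharP F 2 := fun a ha => by
    obtain ⟨p, hpc⟩ := CharP.exists F
    haveI := hpc
    obtain ⟨n, hp, hq⟩ := FiniteField.card F p
    rw [← Nat.card_eq_fintype_card] at hq
    have hp2 : p = 2 := (Nat.prime_dvd_prime_iff_eq hp Nat.prime_two).1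
      (hp.dvd_of_dvd_pow (ha ▸ hq ▸ dvd_pow_self p n.ne_zero))
    exact hp2 ▸ hpc
  rcases h with rfl | ⟨⟨a, ha⟩, S, rfl⟩ | ⟨⟨a, hodd, ha⟩, h3⟩
  · exact binary_bot
  · haveI := char2 a ha
    exact binary_sylow_two S
  · haveI := char2 a ha
    have h2 : (2 : F) = 0 := by simpa using CharP.cast_eq_zero F 2
    exact binary_three h2 (fun r hr => Nat.not_even_iff_odd.2 hodd ((root_iff h2 ha).1 ⟨r, hr⟩)) h3

end Cfsg.Agent.PSL2Binary
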