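import Cfsg.Agent.Lib.PSL2Binary.Dihedral
import Cfsg.Agent.Lib.PSL2Binary.Finite
import Cfsg.Agent.Lib.Classical.DicksonTori

/-!
Alternating and symmetric subgroups of degree at most five, large fields.
-/

set_option autoImplicit false
set_option linter.unusedSectionVars false
set_option linter.unusedSimpArgs false
set_option linter.style.haveILetI false

namespace Cfsg.Agent.PSL2Binary

open Matrix PStable Cfsg.Agent.Dickson Cfsg.Agent.SzBinary

variable {F : Type*} [Field F] [Finite F]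

local notation "SL2" => Matrix.SpecialLinearGroup (Fin 2) F
local notation "M2" => Matrix (Fin 2) (Fin 2) F
local notation "P" => Matrix.ProjectiveSpecialLinearGroup (Fin 2) F
local notation "prH" => PSL2Inv.pr (F := F)
local notation "tr" X => Matrix.trace ((X : SL2) : M2)
local notation "zz" => Nat.card (Subgroup.center SL2)

theorem semisimple_lift (p : ℕ) [Fact p.Prime] [CharP F p] {x : P} (hxp : x ^ p ≠ 1) (hx2 : x * x ≠ 1) :
    ∃ X : SL2, prH X = x ∧ (tr X) ^ 2 ≠ 4 ∧ (tr X) ≠ 0 := by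
  obtain ⟨X, rfl⟩ := PSL2Inv.pr_surjective x
  exact ⟨X, rfl, (semis_of_pow p hxp).2, fun h => hx2 (PSL2Inv.pr_mul_self h)⟩

theorem card_tor {X : SL2} (hτ : (tr X) ^ 2 ≠ 4) :
    zz * Nat.card (tor X) = Nat.card F + 1 ∨ zz * Nat.card (tor X) = Nat.card F - 1 := by
  have h := Dickson.card_map (Dickson.saturated_cent (H := (⊤ : Subgroup SL2)) (fun y _ => trivial) X)
  rw [← tor] at h
  rcases card_cent_top (not_isSc_of_trace hτ) hτ with e | e
  · exact Or.inl (h.symm.trans e)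
  · exact Or.inr (h.symm.trans e)

theorem exists_tor_generator {X : SL2} (hτ : (tr X) ^ 2 ≠ 4) :
    ∃ g ∈ tor X, orderOf g = Nat.card (tor X) := by
  haveI := (cent_cyclic (H := (⊤ : Subgroup SL2)) (not_isSc_of_trace hτ) hτ).1
  haveI : IsCyclic (tor X) := isCyclic_of_surjective
    ((prH).subgroupMap (cent (⊤ : Subgroup SL2) X)) ((prH).subgroupMap_surjective _)
  obtain ⟨⟨g, hg⟩, hgen⟩ := IsCyclic.exists_generator (α := tor X)
  exact ⟨g, hg, by rw [← Subgroup.orderOf_mk g hg]; exact orderOf_eq_card_of_forall_mem_zpowers hgen⟩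

variable {Γ : Type*} [Group Γ]
variable {H : Subgroup (Matrix.ProjectiveSpecialLinearGroup (Fin 2) F)}

/-- The part of the model inside the conjugate subgroup. -/
def InConj (e : H ≃* Γ) (g : P) (k : Γ) : Prop := g⁻¹ * (e.symm k : P) * g ∈ H

theorem coe_symm_mul (e : H ≃* Γ) (k k' : Γ) : (e.symm (k * k') : P) = e.symm k * e.symm k' := by
  rw [map_mul, Subgroup.coe_mul]

theorem coe_symm_inv (e : H ≃* Γ) (k : Γ) : (e.symm k⁻¹ : P) = (e.symm k : P)⁻¹ := by
  rw [map_inv, Subgroup.coe_inv]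

theorem coe_symm_pow (e : H ≃* Γ) (k : Γ) (n : ℕ) : (e.symm (k ^ n) : P) = (e.symm k : P) ^ n := by
  rw [map_pow, SubmonoidClass.coe_pow]

theorem inConj_mul (e : H ≃* Γ) (g : P) {k k' : Γ} (h : InConj e g k) (h' : InConj e g k') :
    InConj e g (k * k') := by
  have := H.mul_mem h h'
  show g⁻¹ * (e.symm (k * k') : P) * g ∈ H
  rwa [coe_symm_mul, show g⁻¹ * ((e.symm k : P) * e.symm k') * g =
    g⁻¹ * (e.symm k : P) * g * (g⁻¹ * (e.symm k' : P) * g) by group]

theorem inConj_inv (e : H ≃* Γ) (g : P) {k : Γ} (h : InConj e g k) : InConj e g k⁻¹ := by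
  have := H.inv_mem h
  show g⁻¹ * (e.symm k⁻¹ : P) * g ∈ H
  rwa [coe_symm_inv, show g⁻¹ * (e.symm k : P)⁻¹ * g = (g⁻¹ * (e.symm k : P) * g)⁻¹ by group]

/-- A torus element outside the marked cyclic group keeps the conjugate inside the normaliser of the marked group. -/
theorem conj_cases (e : H ≃* Γ) (M : Finite.Marked Γ)
    (hRel : ∀ z, (∀ n : ℕ, (z ^ n = 1 ↔ M.b ^ n = 1) ∧ ((M.a * z) ^ n = 1 ↔ (M.a * M.b) ^ n = 1) ∧
      ((M.a * M.a * z) ^ n = 1 ↔ (M.a * M.a * M.b) ^ n = 1)) → M.Rel z)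
    {X : SL2} (hX : prH X = (e.symm M.a : P)) (hτ : (tr X) ^ 2 ≠ 4) {g : P} (hg : g ∈ tor X)
    (hgx : ∀ i : ℕ, g ≠ (e.symm M.a : P) ^ i) :
    (∀ i : ℕ, InConj e g (M.a ^ i)) ∧
      ∀ k, InConj e g k → k * M.a * k⁻¹ = M.a ∨ k * M.a * k⁻¹ = M.a⁻¹ := by
  set x := (e.symm M.a : P) with hx
  have hXns := not_isSc_of_trace hτ
  have hxT : x ∈ tor X := hX ▸ mem_tor_self X
  have hgx' : g * x = x * g := comm_tor hXns hg hxT
  have hpow : ∀ i : ℕ, g⁻¹ * x ^ i * g = x ^ i := fun i => by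
    have hc : g * x ^ i = x ^ i * g := Commute.pow_right hgx' i
    rw [mul_assoc, ← hc, inv_mul_cancel_left]
  have hin : ∀ i : ℕ, InConj e g (M.a ^ i) := fun i => by
    show g⁻¹ * (e.symm (M.a ^ i) : P) * g ∈ H
    rw [coe_symm_pow, hpow]
    exact H.pow_mem (e.symm M.a).2 i
  have hb : ¬ InConj e g M.b := by
    intro hb
    set y := (e.symm M.b : P) with hy
    set z := e ⟨g⁻¹ * y * g, hb⟩ with hz
    have hzy : (e.symm z : P) = g⁻¹ * y * g := by rw [hz, e.symm_apply_apply]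
    have hone : ∀ k : Γ, k = 1 ↔ (e.symm k : P) = 1 := fun k => by
      rw [OneMemClass.coe_eq_one, EmbeddingLike.map_eq_one_iff]
    have hc1 : x * (g⁻¹ * y * g) = g⁻¹ * (x * y) * g := by
      calc x * (g⁻¹ * y * g) = g⁻¹ * (g * x) * g⁻¹ * y * g * 1 := by group
        _ = g⁻¹ * (x * g) * g⁻¹ * y * g * 1 := by rw [hgx']
        _ = g⁻¹ * (x * y) * g := by group
    have hc2 : x * x * (g⁻¹ * y * g) = g⁻¹ * (x * x * y) * g := by
      have hxx : g * (x * x) = x * x * g := Commute.mul_right hgx' hgx'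
      calc x * x * (g⁻¹ * y * g) = g⁻¹ * (g * (x * x)) * g⁻¹ * y * g := by group
        _ = g⁻¹ * (x * x * g) * g⁻¹ * y * g := by rw [hxx]
        _ = g⁻¹ * (x * x * y) * g := by group
    have hconj : ∀ (w : P) (n : ℕ), (g⁻¹ * w * g) ^ n = 1 ↔ w ^ n = 1 := fun w n => by
      have := conj_pow (i := n) (a := g⁻¹) (b := w)
      rw [inv_inv] at this
      rw [this]
      constructor
      · intro h
        calc w ^ n = g * (g⁻¹ * w ^ n * g) * g⁻¹ := by group
          _ = 1 := by rw [h]; group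
      · intro h; rw [h]; group
    obtain ⟨i, hi⟩ := M.hrel z (hRel z fun n => by
      refine ⟨?_, ?_, ?_⟩
      · rw [hone, hone (M.b ^ n), coe_symm_pow, coe_symm_pow, hzy, hconj]
      · rw [hone, hone ((M.a * M.b) ^ n), coe_symm_pow, coe_symm_pow, coe_symm_mul, coe_symm_mul, hzy, ← hx, hc1,
          hconj]
      · rw [hone, hone ((M.a * M.a * M.b) ^ n)]
        simp only [coe_symm_pow, coe_symm_mul, hzy, ← hx, ← hy]
        rw [hc2, hconj])
    have hgy : g⁻¹ * y * g = x ^ (i : ℕ) * y * (x ^ (i : ℕ))⁻¹ := by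
      rw [← hzy, hi, coe_symm_mul, coe_symm_mul, coe_symm_inv, coe_symm_pow]
    set g' := g * x ^ (i : ℕ) with hg'
    have hcomm : y * g' = g' * y := by
      calc y * g' = g * (g⁻¹ * y * g) * x ^ (i : ℕ) := by rw [hg']; group
        _ = g' * y := by rw [hgy, hg']; group
    by_cases hg1 : g' = 1
    · -- then the torus element is a power of the marked one
      obtain ⟨d, hd0, hd⟩ := (isOfFinOrder_iff_pow_eq_one (x := x)).1 (isOfFinOrder_of_finite x)
      refine hgx (i * (d - 1)) ?_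
      rw [eq_inv_of_mul_eq_one_left hg1, inv_eq_iff_mul_eq_one, ← pow_add,
        show (i : ℕ) + i * (d - 1) = d * i by
          obtain ⟨d', rfl⟩ := Nat.exists_eq_add_of_le hd0
          rw [Nat.succ_eq_add_one, zero_add, Nat.add_sub_cancel_left]; ring, pow_mul, hd, one_pow]
    · have h := conj_eq_or_inv_of_commute hXns hτ (a := g') ((tor X).mul_mem hg ((tor X).pow_mem hxT _)) hg1 hcomm
      rw [hX] at h
      rcases h with h | h
      · exact M.hb.1 (e.symm.injective (Subtype.ext (by rw [coe_symm_mul, coe_symm_mul, coe_symm_inv]; exact h)))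
      · exact M.hb.2 (e.symm.injective (Subtype.ext (by
          rw [coe_symm_mul, coe_symm_mul, coe_symm_inv, coe_symm_inv]; exact h)))
  refine ⟨hin, fun k hk => (M.hword k).resolve_right fun hw => hb (hw (InConj e g) ?_ hk
    (fun u v => inConj_mul e g) (fun u => inConj_inv e g))⟩
  simpa using hin 1

theorem not_binary_witness (e : H ≃* Γ) {A : Γ → Prop} (W : Finite.Witness Γ A) {g : P}
    (h₁ : ∀ k, InConj e g k → A k) (h₂ : ∀ k, A k → InConj e g k) : ¬ BinaryOn H := by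
  intro hb
  have key : ∀ (h k : Γ), A (h⁻¹ * k * h) → ((e.symm h : P) * g)⁻¹ * (e.symm k : P) * ((e.symm h : P) * g) ∈ H := by
    intro h k hk
    have := h₂ _ hk
    unfold InConj at this
    rwa [coe_symm_mul, coe_symm_mul, coe_symm_inv, show g⁻¹ * ((e.symm h : P)⁻¹ * e.symm k * e.symm h) * g =
      ((e.symm h : P) * g)⁻¹ * (e.symm k : P) * ((e.symm h : P) * g) by group] at this
  have back : ∀ (h : Γ) (a : P) (ha : a ∈ H), ((e.symm h : P) * g)⁻¹ * a * ((e.symm h : P) * g) ∈ H →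
      A (h⁻¹ * e ⟨a, ha⟩ * h) := by
    intro h a ha h'
    refine h₁ _ ?_
    show g⁻¹ * (e.symm (h⁻¹ * e ⟨a, ha⟩ * h) : P) * g ∈ H
    rw [coe_symm_mul, coe_symm_mul, coe_symm_inv, e.symm_apply_apply,
      show g⁻¹ * ((e.symm h : P)⁻¹ * a * e.symm h) * g =
      ((e.symm h : P) * g)⁻¹ * a * ((e.symm h : P) * g) by group]
    exact h'
  obtain ⟨a, b, ⟨ha, ha1, ha2⟩, ⟨hb1, hb2, hb3⟩, hab⟩ := crit4 hb g ((e.symm W.h₂ : P) * g)
    ((e.symm W.h₃ : P) * g) (e.symm W.u : P) (e.symm W.v : P) (e.symm (W.v⁻¹ * W.u) : P) (e.symm W.u).2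
    (h₂ _ W.hu) (key _ _ W.hv) (key _ _ W.hw) (by rw [← coe_symm_mul, mul_inv_cancel_left])
  have hA : ∀ (c : P) (hc : c ∈ H), g⁻¹ * c * g ∈ H → A (e ⟨c, hc⟩) := fun c hc h =>
    h₁ _ (by show g⁻¹ * (e.symm (e ⟨c, hc⟩) : P) * g ∈ H; rw [e.symm_apply_apply]; exact h)
  refine W.hfinal (e ⟨a, ha⟩) (e ⟨b, hb1⟩) (hA a ha ha1) (back _ a ha ha2) (hA b hb1 hb2) (back _ b hb1 hb3) ?_
  rw [← map_mul, show (⟨a, ha⟩ * ⟨b, hb1⟩ : H) = e.symm W.u from Subtype.ext hab.symm, e.apply_symm_apply]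

theorem marked_data (p : ℕ) [Fact p.Prime] [CharP F p] (e : H ≃* Γ) (M : Finite.Marked Γ) (hr : M.r.Prime)
    (hr2 : 2 < M.r) (har : M.a ^ M.r = 1) (hp : p ≠ M.r) :
    ∃ X : SL2, prH X = (e.symm M.a : P) ∧ (tr X) ^ 2 ≠ 4 ∧ (tr X) ≠ 0 := by
  haveI := Fact.mk hr
  have ho : orderOf (e.symm M.a : P) = M.r := by
    rw [Subgroup.orderOf_coe, MulEquiv.orderOf_eq]
    exact orderOf_eq_prime har M.ha
  refine semisimple_lift p (fun h => ?_) fun h => ?_
  · exact hp.symm ((Nat.prime_dvd_prime_iff_eq hr Fact.out).1 (ho ▸ orderOf_dvd_of_pow_eq_one h))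
  · have := Nat.le_of_dvd two_pos (ho ▸ orderOf_dvd_of_pow_eq_one (by rwa [pow_two]))
    omega

theorem not_binary_A4 (p : ℕ) [Fact p.Prime] [CharP F p] (hp3 : p ≠ 3) (hp2 : p ≠ 2)
    (e : H ≃* Finite.A4) (hq : 9 ≤ Nat.card F) : ¬ BinaryOn H := by
  have har : Finite.markedA4.a ^ 3 = 1 := by decide +kernel
  obtain ⟨X, hX, hτ, h0⟩ := marked_data p e Finite.markedA4 (by decide +kernel) (by decide +kernel) har hp3
  obtain ⟨g, hg, hgo⟩ := exists_tor_generator hτ
  have hzz : zz ≤ 2 := by rw [card_center]; exact Nat.gcd_le_left _ (by norm_num)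
  have hT : 4 ≤ Nat.card (tor X) := by
    have h2 : zz * Nat.card (tor X) ≤ 2 * Nat.card (tor X) := Nat.mul_le_mul_right _ hzz
    rcases card_tor hτ with h | h <;> omega
  obtain ⟨hin, hk⟩ := conj_cases e Finite.markedA4
    (fun z h => ⟨by have := ((h 2).1).2 (by decide +kernel); rwa [pow_two] at this,
      fun h1 => absurd (((h 1).1).1 (by rw [h1, one_pow])) (by decide +kernel),
      ((h 3).2.1).2 (by decide +kernel)⟩) hX hτ hg (fun i hi => by
      have : orderOf g ∣ 3 := orderOf_dvd_of_pow_eq_one (by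
        rw [hi, ← pow_mul, mul_comm, pow_mul, ← coe_symm_pow, har, map_one, OneMemClass.coe_one, one_pow])
      have := Nat.le_of_dvd (by norm_num) this
      omega)
  refine not_binary_witness e Finite.witnessA4 (g := g) (fun k hk' => ?_) fun k ⟨i, hi⟩ => hi ▸ hin i
  exact Finite.a4_comm k ((hk k hk').resolve_right fun h => Finite.a4_no_inv k h)

theorem inverter_pow (e : H ≃* Γ) (M : Finite.Marked Γ) {X : SL2} (hX : prH X = (e.symm M.a : P))
    (hτ : (tr X) ^ 2 ≠ 4) (h0 : (tr X) ≠ 0) {g : P} (hg : g ∈ tor X) {k : Γ} (hk : InConj e g k)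
    (hinv : k * M.a * k⁻¹ = M.a⁻¹) : ∃ i : ℕ, (g * g)⁻¹ = (e.symm M.a : P) ^ i := by
  set x := (e.symm M.a : P) with hx
  set s := (e.symm k : P) with hs
  have hgx : g * x = x * g := comm_tor (not_isSc_of_trace hτ) hg (hX ▸ mem_tor_self X)
  have hsx : s * x * s⁻¹ = x⁻¹ := by rw [hs, hx, ← coe_symm_inv, ← coe_symm_mul, ← coe_symm_mul, hinv, coe_symm_inv]
  set s' := g⁻¹ * s * g with hs'
  have hs'x : s' * x * s'⁻¹ = x⁻¹ := by
    rw [hs', show g⁻¹ * s * g * x * (g⁻¹ * s * g)⁻¹ = g⁻¹ * s * (g * x) * g⁻¹ * s⁻¹ * g by group, hgx,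
      show g⁻¹ * s * (x * g) * g⁻¹ * s⁻¹ * g = g⁻¹ * (s * x * s⁻¹) * g by group, hsx]
    have : g * x⁻¹ = x⁻¹ * g := Commute.inv_right hgx
    rw [mul_assoc, ← this, inv_mul_cancel_left]
  -- the two inverters differ by a power
  set c := e ⟨s', hk⟩ with hc
  have hcs : (e.symm c : P) = s' := by rw [hc, e.symm_apply_apply]
  obtain ⟨i, hi⟩ := M.hcomm (c * k⁻¹) (e.symm.injective (Subtype.ext (by
    rw [coe_symm_mul, coe_symm_mul, coe_symm_inv, coe_symm_mul, coe_symm_inv, hcs, ← hs, ← hx]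
    calc s' * s⁻¹ * x * (s' * s⁻¹)⁻¹ = s' * (s⁻¹ * x * s) * s'⁻¹ := by group
      _ = s' * (s⁻¹ * (s * x * s⁻¹)⁻¹ * s) * s'⁻¹ := by rw [hsx, inv_inv]
      _ = (s' * x * s'⁻¹)⁻¹ := by group
      _ = x := by rw [hs'x, inv_inv])))
  refine ⟨i, ?_⟩
  rw [hx, ← coe_symm_pow, ← hi, coe_symm_mul, coe_symm_inv, hcs, ← hs, hs']
  -- the inverter inverts the whole torus
  obtain ⟨G, hG, hGg⟩ := hg
  obtain ⟨S, hS⟩ := PSL2Inv.pr_surjective s
  have hsg : s * g * s⁻¹ = g⁻¹ := by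
    by_cases hGs : IsSc G
    · rw [← hGg, pr_eq_one.2 hGs]; group
    · have := invert_of_commute hτ h0 (trace_ne_of_mem_cent (not_isSc_of_trace hτ) hτ hG hGs)
        (invert_lift (Y := S) (by rw [hS, hX]; exact hsx) h0) (mem_cent.1 hG).2
      rw [← hS, ← hGg, ← map_inv, ← map_mul, ← map_mul, this, map_inv]
  calc (g * g)⁻¹ = g⁻¹ * g⁻¹ := _root_.mul_inv_rev g g
    _ = g⁻¹ * (s * g * s⁻¹) := by rw [hsg]
    _ = g⁻¹ * s * g * s⁻¹ := by group

theorem not_binary_S4 (p : ℕ) [Fact p.Prime] [CharP F p] (hp3 : p ≠ 3) (hp2 : p ≠ 2)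
    (e : H ≃* Finite.S4) (hq : 15 ≤ Nat.card F) : ¬ BinaryOn H := by
  have har : Finite.markedS4.a ^ 3 = 1 := by decide +kernel
  obtain ⟨X, hX, hτ, h0⟩ := marked_data p e Finite.markedS4 (by decide +kernel) (by decide +kernel) har hp3
  obtain ⟨g, hg, hgo⟩ := exists_tor_generator hτ
  have hzz : zz ≤ 2 := by rw [card_center]; exact Nat.gcd_le_left _ (by norm_num)
  have hT : 7 ≤ Nat.card (tor X) := by
    have h2 : zz * Nat.card (tor X) ≤ 2 * Nat.card (tor X) := Nat.mul_le_mul_right _ hzz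
    rcases card_tor hτ with h | h <;> omega
  have hx3 : ∀ i : ℕ, ((e.symm Finite.markedS4.a : P) ^ i) ^ 3 = 1 := fun i => by
    rw [← pow_mul, mul_comm, pow_mul, ← coe_symm_pow, har, map_one, OneMemClass.coe_one, one_pow]
  obtain ⟨hin, hk⟩ := conj_cases e Finite.markedS4
    (fun z h => ⟨by have := ((h 2).1).2 (by decide +kernel); rwa [pow_two] at this,
      fun h1 => absurd (((h 1).1).1 (by rw [h1, one_pow])) (by decide +kernel),
      ((h 3).2.1).2 (by decide +kernel)⟩) hX hτ hg (fun i hi => by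
      have : orderOf g ∣ 3 := orderOf_dvd_of_pow_eq_one (by rw [hi, hx3])
      have := Nat.le_of_dvd (by norm_num) this
      omega)
  refine not_binary_witness e Finite.witnessS4 (g := g) (fun k hk' => ?_) fun k ⟨i, hi⟩ => hi ▸ hin i
  refine Finite.s4_comm k ((hk k hk').resolve_right fun h => ?_)
  obtain ⟨i, hi⟩ := inverter_pow e Finite.markedS4 hX hτ h0 hg hk' h
  have : orderOf g ∣ 6 := orderOf_dvd_of_pow_eq_one (by
    rw [show g ^ 6 = (((g * g)⁻¹) ^ 3)⁻¹ by rw [inv_pow, inv_inv, ← pow_two, ← pow_mul], hi, hx3, inv_one])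
  have := Nat.le_of_dvd (by norm_num) this
  omega

theorem not_binary_A5 (p : ℕ) [Fact p.Prime] [CharP F p] (hp5 : p ≠ 5) (hp2 : p ≠ 2)
    (e : H ≃* Finite.A5) (hq : 13 ≤ Nat.card F) : ¬ BinaryOn H := by
  have har : Finite.markedA5.a ^ 5 = 1 := by decide +kernel
  obtain ⟨X, hX, hτ, h0⟩ := marked_data p e Finite.markedA5 (by decide +kernel) (by decide +kernel) har hp5
  obtain ⟨g, hg, hgo⟩ := exists_tor_generator hτ
  have hzz : zz ≤ 2 := by rw [card_center]; exact Nat.gcd_le_left _ (by norm_num)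
  have hT : 6 ≤ Nat.card (tor X) := by
    have h2 : zz * Nat.card (tor X) ≤ 2 * Nat.card (tor X) := Nat.mul_le_mul_right _ hzz
    rcases card_tor hτ with h | h <;> omega
  obtain ⟨hin, hk⟩ := conj_cases e Finite.markedA5
    (fun z h => ⟨by have := ((h 2).1).2 (by decide +kernel); rwa [pow_two] at this,
      fun h1 => absurd (((h 1).1).1 (by rw [h1, one_pow])) (by decide +kernel),
      ((h 3).2.1).2 (by decide +kernel), ((h 5).2.2).2 (by decide +kernel)⟩) hX hτ hg (fun i hi => by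
      have : orderOf g ∣ 5 := orderOf_dvd_of_pow_eq_one (by
        rw [hi, ← pow_mul, mul_comm, pow_mul, ← coe_symm_pow, har, map_one, OneMemClass.coe_one, one_pow])
      have := Nat.le_of_dvd (by norm_num) this
      omega)
  by_cases hinv : ∃ k, InConj e g k ∧ k * Finite.a5a * k⁻¹ = Finite.a5a⁻¹
  · obtain ⟨k₀, hk₀, hk₀i⟩ := hinv
    refine not_binary_witness e Finite.witnessA5 (g := g) hk fun k hk' => ?_
    rcases hk' with h | h
    · obtain ⟨i, hi⟩ := Finite.a5_comm k h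
      exact hi ▸ hin i
    · obtain ⟨i, hi⟩ := Finite.a5_comm (k * k₀⁻¹) (by
        calc k * k₀⁻¹ * Finite.a5a * (k * k₀⁻¹)⁻¹
            = k * (k₀⁻¹ * (Finite.a5a⁻¹)⁻¹ * k₀) * k⁻¹ := by group
          _ = k * (k₀⁻¹ * (k₀ * Finite.a5a * k₀⁻¹)⁻¹ * k₀) * k⁻¹ := by rw [hk₀i]
          _ = (k * Finite.a5a * k⁻¹)⁻¹ := by group
          _ = Finite.a5a := by rw [h, inv_inv])
      have := inConj_mul e g (hin i) hk₀
      rwa [show (Finite.markedA5.a ^ (i : ℕ)) * k₀ = k by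
        show Finite.a5a ^ (i : ℕ) * k₀ = k
        rw [← hi]; group] at this
  · push Not at hinv
    refine not_binary_witness e Finite.witnessA5Cyclic (g := g) (fun k hk' => ?_) fun k ⟨i, hi⟩ => hi ▸ hin i
    exact Finite.a5_comm k ((hk k hk').resolve_right (hinv k hk'))

end Cfsg.Agent.PSL2Binary
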