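import Cfsg.Agent.Lib.PSL2Binary.SmallGroup
import Cfsg.Agent.Lib.PSL2Binary.Polyhedral
import Cfsg.Agent.Lib.PSL2Binary.FourGroups
import Cfsg.Agent.Lib.Classical.DicksonProper

/-!
Alternating and symmetric subgroups of `PSL_2(q)` for `q` at most eleven.
-/

set_option autoImplicit false
set_option linter.unusedSectionVars false
set_option linter.unusedSimpArgs false
set_option linter.style.haveILetI false

namespace Cfsg.Agent.PSL2Binary

open Matrix PStable Cfsg.Agent.Dickson Cfsg.Agent.SzBinary Cfsg.Agent.PSL2Binary.Small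

variable {F : Type*} [Field F] [Finite F]

local notation "SL2" => Matrix.SpecialLinearGroup (Fin 2) F
local notation "M2" => Matrix (Fin 2) (Fin 2) F
local notation "P" => Matrix.ProjectiveSpecialLinearGroup (Fin 2) F
local notation "prH" => PSL2Inv.pr (F := F)
local notation "tr" X => Matrix.trace ((X : SL2) : M2)
local notation "zz" => Nat.card (Subgroup.center SL2)

variable {Γ : Type*} [Group Γ]
variable {H : Subgroup (Matrix.ProjectiveSpecialLinearGroup (Fin 2) F)}

theorem card_data {n q : ℕ} (e : H ≃* Γ) (hΓ : Nat.card Γ = n) (hq : Nat.card F = q) (hodd : q % 2 = 1) :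
    zz = 2 ∧ Nat.card H = n ∧ 2 * Nat.card P = q * (q ^ 2 - 1) ∧ n * H.index = Nat.card P := by
  have hz : zz = 2 := by
    rw [card_center, hq]
    exact Nat.gcd_eq_left (by omega)
  have hc : Nat.card H = n := (Nat.card_congr e.toEquiv).trans hΓ
  have h := zz_mul_card (F := F)
  rw [hz, hq] at h
  exact ⟨hz, hc, h, hc ▸ H.card_mul_index⟩

theorem tor_eq_zpowers {X : SL2} (hτ : (tr X) ^ 2 ≠ 4) {r : ℕ} (hr : orderOf (prH X) = r)
    (hsize : Nat.card (tor X) = r) : tor X = Subgroup.zpowers (prH X) :=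
  (Subgroup.eq_of_le_of_card_ge (Subgroup.zpowers_le.2 (mem_tor_self X))
    (by rw [hsize, Nat.card_zpowers, hr])).symm

theorem exists_marked (p : ℕ) [Fact p.Prime] [CharP F p] (e : H ≃* Γ) (M : Finite.Marked Γ) (hr : M.r.Prime)
    (hr2 : 2 < M.r) (har : M.a ^ M.r = 1) (hp : p ≠ M.r) (hz : zz = 2)
    (hsize : ∀ n, (zz * n = Nat.card F + 1 ∨ zz * n = Nat.card F - 1) → M.r ∣ n → n = M.r) :
    ∃ X : SL2, prH X = (e.symm M.a : P) ∧ (tr X) ^ 2 ≠ 4 ∧ (tr X) ≠ 0 ∧ orderOf (prH X) = M.r ∧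
      tor X = Subgroup.zpowers (prH X) ∧ tor X ≤ H := by
  haveI := Fact.mk hr
  obtain ⟨X, hX, hτ, h0⟩ := marked_data p e M hr hr2 har hp
  have ho : orderOf (prH X) = M.r := by
    rw [hX, Subgroup.orderOf_coe, MulEquiv.orderOf_eq]
    exact orderOf_eq_prime har M.ha
  have hd : M.r ∣ Nat.card (tor X) := by
    rw [← ho, ← Nat.card_zpowers]
    exact Subgroup.card_dvd_of_le (Subgroup.zpowers_le.2 (mem_tor_self X))
  have hT := tor_eq_zpowers hτ ho (hsize _ (card_tor hτ) hd)
  refine ⟨X, hX, hτ, h0, ho, hT, ?_⟩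
  rw [hT, hX]
  exact Subgroup.zpowers_le.2 (e.symm M.a).2

/-- The normaliser of a torus inside a group containing the torus and an inverting element. -/
theorem mem_of_normalising {M : Subgroup P} {X : SL2} (hτ : (tr X) ^ 2 ≠ 4) (h0 : (tr X) ≠ 0)
    (hM : tor X ≤ M) {s : P} (hs : s ∈ M) (hinv : s * prH X * s⁻¹ = (prH X)⁻¹) {n : P}
    (hn : n * prH X * n⁻¹ ∈ tor X) : n ∈ M := by
  obtain ⟨N, rfl⟩ := PSL2Inv.pr_surjective n
  rw [← map_inv, ← map_mul, ← map_mul] at hn
  rcases commute_eq_or_inv' (not_isSc_of_trace hτ) (commute_of_mem_tor hn).symm (PStable.trace_conj N X) hτ with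
    h | h
  · refine hM (mem_tor_of_commute h0 ?_)
    rw [← map_mul, ← map_mul]
    exact congrArg prH (mul_inv_eq_iff_eq_mul.1 h)
  · have h' : prH N * prH X * (prH N)⁻¹ = (prH X)⁻¹ := by rw [← map_inv, ← map_mul, ← map_mul, h, map_inv]
    have hm : s⁻¹ * prH N ∈ M := by
      refine hM (mem_tor_of_commute h0 ?_)
      calc s⁻¹ * prH N * prH X = s⁻¹ * (prH N * prH X * (prH N)⁻¹) * prH N := by group
        _ = s⁻¹ * (s * prH X * s⁻¹) * prH N := by rw [h', hinv]
        _ = prH X * (s⁻¹ * prH N) := by group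
    simpa using M.mul_mem hs hm

theorem not_dvd_of_marked (e : H ≃* Γ) (M : Finite.Marked Γ) (hr : M.r.Prime)
    (hn : ¬ M.r ^ 2 ∣ Nat.card H) {X : SL2} (hX : prH X = (e.symm M.a : P)) (hτ : (tr X) ^ 2 ≠ 4)
    (h0 : (tr X) ≠ 0) (ho : orderOf (prH X) = M.r) (hle : tor X ≤ H) {s₀ : Γ}
    (hinv : s₀ * M.a * s₀⁻¹ = M.a⁻¹) {g : P} (hg : g ∉ H) : ¬ M.r ∣ Nat.card (twoPoint H g) := by
  haveI := Fact.mk hr
  have hz : Subgroup.zpowers (prH X) ≤ tor X := Subgroup.zpowers_le.2 (mem_tor_self X)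
  rw [← pow_one M.r]
  refine not_dvd_of_normalizer M.r 1 (hz.trans hle) (by rw [Nat.card_zpowers, ho, pow_one]) hn
    (fun a ha => mem_of_normalising hτ h0 hle (e.symm s₀).2 ?_ (hz (ha _ (Subgroup.mem_zpowers _)))) hg
  rw [hX, ← coe_symm_inv, ← coe_symm_mul, ← coe_symm_mul, hinv, coe_symm_inv]

theorem not_binary_S4_seven (p : ℕ) [Fact p.Prime] [CharP F p] (hp3 : p ≠ 3) (hp2 : p ≠ 2)
    (e : H ≃* Finite.S4) (hq : Nat.card F = 7) : ¬ BinaryOn H := by
  classical
  haveI := Matrix.ProjectiveSpecialLinearGroup.rank_two_simple (F := F) (by omega)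
  obtain ⟨hz, hc, hP, hidx⟩ := card_data (n := 24) e (by rw [Nat.card_perm, Nat.card_fin]; rfl) hq rfl
  norm_num at hP
  have hi : H.index = 7 := by omega
  have hHtop : H ≠ ⊤ := fun h => by rw [h, Subgroup.index_top] at hi; omega
  have har : Finite.markedS4.a ^ 3 = 1 := by decide +kernel
  have hr : Finite.markedS4.r = 3 := rfl
  obtain ⟨X, hX, hτ, h0, ho, -, hle⟩ := exists_marked p e Finite.markedS4 (by decide +kernel) (by decide +kernel)
    har hp3 hz (fun n hn hd => by rw [hr, hz, hq] at *; omega)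
  obtain ⟨s₀, hs₀⟩ : ∃ s₀ : Finite.S4, s₀ * Finite.markedS4.a * s₀⁻¹ = Finite.markedS4.a⁻¹ :=
    ⟨Equiv.swap 0 1, by decide +kernel⟩
  have hd8 : ∀ g, g ∉ H → Nat.card (twoPoint H g) ∣ 8 := by
    intro g hg
    have h3 := not_dvd_of_marked e Finite.markedS4 (by decide +kernel) (by rw [hr, hc]; norm_num) hX hτ h0 ho hle hs₀
      hg
    rw [hr] at h3
    have h24 : Nat.card (twoPoint H g) ∣ 3 * 8 := by
      have := Subgroup.card_dvd_of_le (show twoPoint H g ≤ H from inf_le_left)
      rwa [hc] at this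
    exact ((Nat.Prime.coprime_iff_not_dvd Nat.prime_three).2 h3).symm.dvd_of_dvd_mul_left h24
  set b : P := (e.symm Finite.s4b : P) with hb
  -- a subgroup of index three contains the normal four-group
  have hbig : ∀ g, g ∉ H → Nat.card (twoPoint H g) = 8 → b ∈ twoPoint H g := by
    intro g hg h8
    set L : Subgroup Finite.S4 := ((twoPoint H g).subgroupOf H).map e.toMonoidHom with hL
    have hL8 : Nat.card L = 8 := by
      rw [hL, Subgroup.card_map_of_injective e.injective,
        Nat.card_congr (Subgroup.subgroupOfEquivOfLe (show twoPoint H g ≤ H from inf_le_left)).toEquiv, h8]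
    have h6 : Nat.card (Equiv.Perm (Finite.S4 ⧸ L)) = 6 := by
      have h := L.card_mul_index
      rw [hL8, show Nat.card Finite.S4 = 24 by rw [Nat.card_perm, Nat.card_fin]; rfl] at h
      rw [Nat.card_perm, ← Subgroup.index_eq_card, show L.index = 3 by omega]
      rfl
    obtain ⟨r, hrb, hr4⟩ : ∃ r : Finite.S4, r * r = Finite.s4b ∧ r ^ 4 = 1 :=
      ⟨Equiv.swap 0 2 * Equiv.swap 2 1 * Equiv.swap 1 3, by decide +kernel, by decide +kernel⟩
    have hσ : (MulAction.toPermHom Finite.S4 (Finite.S4 ⧸ L) r) ^ 2 = 1 := by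
      set σ := MulAction.toPermHom Finite.S4 (Finite.S4 ⧸ L) r
      have h1 : orderOf σ ∣ 4 := orderOf_dvd_of_pow_eq_one (by rw [← map_pow, hr4, map_one])
      have h2 : orderOf σ ∣ 6 := h6 ▸ orderOf_dvd_natCard σ
      exact orderOf_dvd_iff_pow_eq_one.1 (Nat.dvd_gcd h1 h2)
    rw [← map_pow, pow_two, hrb] at hσ
    have hbL : Finite.s4b ∈ L := by
      have := Equiv.ext_iff.1 hσ ((1 : Finite.S4) : Finite.S4 ⧸ L)
      simp only [MulAction.toPermHom_apply, MulAction.toPerm_apply, Equiv.Perm.coe_one, id_eq,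
        MulAction.Quotient.smul_coe, smul_eq_mul, mul_one, QuotientGroup.eq] at this
      simpa using this
    rw [hL, Subgroup.mem_map_equiv, Subgroup.mem_subgroupOf] at hbL
    exact hbL
  obtain ⟨g₀, hg₀, hg₀4⟩ : ∃ g, g ∉ H ∧ Nat.card (twoPoint H g) ≤ 4 := by
    by_contra hno
    push Not at hno
    have hall : ∀ g : P, g⁻¹ * b * g ∈ H := by
      intro g
      by_cases hg : g ∈ H
      · exact H.mul_mem (H.mul_mem (H.inv_mem hg) (e.symm Finite.s4b).2) hg
      · refine (mem_twoPoint.1 (hbig g hg ?_)).2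
        have h1 := hd8 g hg
        have h2 := hno g hg
        have h3 := Nat.le_of_dvd (by norm_num) h1
        interval_cases hn : Nat.card (twoPoint H g) <;> omega
    have hb1 := eq_one_of_conj_mem hHtop hall
    rw [hb, OneMemClass.coe_eq_one, EmbeddingLike.map_eq_one_iff] at hb1
    exact absurd hb1 (by decide +kernel)
  -- one long orbit is everything
  intro hbin
  have := factorial_index_le hbin (by omega) (transitive_of_one hg₀ (by rw [hi, hc]; omega))
  rw [hi] at this
  norm_num [Nat.factorial] at this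
  omega

theorem card_A5 : Nat.card Finite.A5 = 60 := by
  rw [nat_card_alternatingGroup, Nat.card_fin]; rfl

theorem card_A4 : Nat.card Finite.A4 = 12 := by
  rw [nat_card_alternatingGroup, Nat.card_fin]; rfl

theorem card_le_twelve (e : H ≃* Finite.A5) {K : Subgroup P} (hK : K ≤ H) (hne : K ≠ H) : Nat.card K ≤ 12 := by
  haveI : IsSimpleGroup Finite.A5 := alternatingGroup.isSimpleGroup (by simp)
  set L : Subgroup Finite.A5 := (K.subgroupOf H).map e.toMonoidHom with hL
  have hLc : Nat.card L = Nat.card K := by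
    rw [hL, Subgroup.card_map_of_injective e.injective,
      Nat.card_congr (Subgroup.subgroupOfEquivOfLe hK).toEquiv]
  have hmul := L.card_mul_index
  rw [hLc, card_A5] at hmul
  have hLtop : L ≠ ⊤ := fun h => by
    refine hne (Subgroup.eq_of_le_of_card_ge hK (le_of_eq ?_))
    rw [← hLc, h, Subgroup.card_top, Nat.card_congr e.toEquiv]
  have hd := AltPair.card_dvd_index_factorial L hLtop
  rw [card_A5] at hd
  by_contra hlt
  push Not at hlt
  have h5 : L.index < 5 := by
    by_contra h5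
    push Not at h5
    have := Nat.mul_le_mul (Nat.succ_le_of_lt hlt) h5
    omega
  revert hd
  interval_cases L.index <;> decide

theorem not_binary_A5_nine (e : H ≃* Finite.A5) (hq : Nat.card F = 9) : ¬ BinaryOn H := by
  classical
  haveI := Matrix.ProjectiveSpecialLinearGroup.rank_two_simple (F := F) (by omega)
  obtain ⟨hz, hc, hP, hidx⟩ := card_data (n := 60) e card_A5 hq rfl
  norm_num at hP
  have hi : H.index = 6 := by omega
  have hHtop : H ≠ ⊤ := fun h => by rw [h, Subgroup.index_top] at hi; omega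
  set N := Subgroup.normalizer (H : Set P) with hN
  have hNH : N = H := by
    have hle : H ≤ N := Subgroup.le_normalizer
    have hNtop : N ≠ ⊤ := fun h => by
      haveI : H.Normal := Subgroup.normalizer_eq_top_iff.1 h
      rcases (inferInstance : H.Normal).eq_bot_or_eq_top with h' | h'
      · rw [h', Subgroup.card_bot] at hc; omega
      · exact hHtop h'
    have hd := AltPair.card_dvd_index_factorial N hNtop
    rw [show Nat.card P = 360 by omega] at hd
    have h6 : N.index ∣ 6 := hi ▸ Subgroup.index_dvd_of_le hle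
    have hN6 : N.index = 6 := by
      have := Nat.le_of_dvd (by norm_num) h6
      revert hd h6
      interval_cases N.index <;> decide
    have := N.card_mul_index
    rw [hN6] at this
    exact (Subgroup.eq_of_le_of_card_ge hle (by omega)).symm
  refine not_binary_of_small (by omega) (fun g hg => ?_) (by rw [hi]; norm_num [Nat.factorial]; omega)
  have hne : twoPoint H g ≠ H := fun h => hg (by
    rw [← hNH, hN]
    have hcard : Nat.card (H.map (MulAut.conj g).toMonoidHom) = Nat.card H :=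
      Subgroup.card_map_of_injective (MulAut.conj g).injective
    have heq : H = H.map (MulAut.conj g).toMonoidHom :=
      Subgroup.eq_of_le_of_card_ge (by rw [twoPoint, inf_eq_left] at h; exact h) hcard.le
    rw [Subgroup.mem_normalizer_iff]
    intro x
    nth_rw 2 [heq]
    rw [Subgroup.mem_map_equiv]
    simp [mul_assoc])
  have := card_le_twelve e (show twoPoint H g ≤ H from inf_le_left) hne
  rw [hi, hc]; omega

/-- The image of a four-group of the model. -/
theorem exists_four (h2 : (2 : F) ≠ 0) (e : H ≃* Γ) {a b : Γ} (ha : a * a = 1) (ha1 : a ≠ 1) (hb : b * b = 1)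
    (hb1 : b ≠ 1) (hne : a ≠ b) (hab : a * b = b * a) :
    ∃ (ha' : (e.symm a : P) * e.symm a = 1) (hb' : (e.symm b : P) * e.symm b = 1)
      (hab' : (e.symm a : P) * e.symm b = e.symm b * e.symm a),
      four (e.symm a : P) (e.symm b : P) ha' hb' hab' ≤ H ∧
      Nat.card (four (e.symm a : P) (e.symm b : P) ha' hb' hab') = 4 ∧
      (∀ N : Subgroup P, (∀ n ∈ N, ∀ y ∈ four (e.symm a : P) (e.symm b : P) ha' hb' hab',
        n * y * n⁻¹ ∈ four (e.symm a : P) (e.symm b : P) ha' hb' hab') → Nat.card N ≤ 24) ∧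
      ∀ k : Γ, (∀ x, x = a ∨ x = b → k * x * k⁻¹ = a ∨ k * x * k⁻¹ = b ∨ k * x * k⁻¹ = a * b) →
        (e.symm k : P) ∈ Subgroup.normalizer (four (e.symm a : P) (e.symm b : P) ha' hb' hab' : Set P) := by
  have ha' : (e.symm a : P) * e.symm a = 1 := by rw [← coe_symm_mul, ha, map_one, OneMemClass.coe_one]
  have hb' : (e.symm b : P) * e.symm b = 1 := by rw [← coe_symm_mul, hb, map_one, OneMemClass.coe_one]
  have hab' : (e.symm a : P) * e.symm b = e.symm b * e.symm a := by rw [← coe_symm_mul, hab, coe_symm_mul]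
  have h1 : ∀ {x : Γ}, x ≠ 1 → (e.symm x : P) ≠ 1 := fun hx h =>
    hx (by rwa [OneMemClass.coe_eq_one, EmbeddingLike.map_eq_one_iff] at h)
  have hne' : (e.symm a : P) ≠ e.symm b := fun h => hne (e.symm.injective (Subtype.ext h))
  refine ⟨ha', hb', hab', ?_, card_four (h1 ha1) (h1 hb1) hne', fun N hN => card_le_24 (h1 ha1) (h1 hb1) hne'
    (fun c hca hcb => four_cent h2 ha' (h1 ha1) hb' (h1 hb1) hne' hab' hca hcb) hN, fun k hk => ?_⟩
  · rintro y (rfl | rfl | rfl | rfl)
    exacts [H.one_mem, (e.symm a).2, (e.symm b).2, H.mul_mem (e.symm a).2 (e.symm b).2]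
  · have hmem : ∀ x, x = a ∨ x = b → (e.symm k : P) * e.symm x * (e.symm k : P)⁻¹ ∈
        four (e.symm a : P) (e.symm b : P) ha' hb' hab' := fun x hx => by
      rw [← coe_symm_inv, ← coe_symm_mul, ← coe_symm_mul]
      rcases hk x hx with h | h | h <;> rw [h]
      exacts [Or.inr (Or.inl rfl), Or.inr (Or.inr (Or.inl rfl)), Or.inr (Or.inr (Or.inr (coe_symm_mul e a b)))]
    exact Subgroup.mem_normalizer_fintype fun y hy => conj_mem_four (hmem a (Or.inl rfl)) (hmem b (Or.inr rfl)) hy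

theorem not_binary_A5_eleven (p : ℕ) [Fact p.Prime] [CharP F p] (hp5 : p ≠ 5)
    (h2 : (2 : F) ≠ 0) (e : H ≃* Finite.A5) (hq : Nat.card F = 11) : ¬ BinaryOn H := by
  classical
  obtain ⟨hz, hc, hP, hidx⟩ := card_data (n := 60) e card_A5 hq rfl
  norm_num at hP
  have hi : H.index = 11 := by omega
  have har : Finite.markedA5.a ^ 5 = 1 := by decide +kernel
  have hr : Finite.markedA5.r = 5 := rfl
  obtain ⟨X, hX, hτ, h0, ho, -, hle⟩ := exists_marked p e Finite.markedA5 (by decide +kernel) (by decide +kernel)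
    har hp5 hz (fun n hn hd => by rw [hr, hz, hq] at *; omega)
  obtain ⟨s₀, hs₀⟩ : ∃ s₀ : Finite.A5, s₀ * Finite.markedA5.a * s₀⁻¹ = Finite.markedA5.a⁻¹ :=
    ⟨⟨Equiv.swap 1 4 * Equiv.swap 2 3, Equiv.Perm.mem_alternatingGroup.2 (by decide)⟩, by decide +kernel⟩
  let b₁ : Finite.A5 := ⟨Equiv.swap 0 2 * Equiv.swap 1 3, Equiv.Perm.mem_alternatingGroup.2 (by decide)⟩
  let t₁ : Finite.A5 := ⟨Equiv.swap 0 1 * Equiv.swap 1 2, Equiv.Perm.mem_alternatingGroup.2 (by decide)⟩
  obtain ⟨ha', hb', hab', hVH, hV4, hV24, hVn⟩ := exists_four h2 e (a := Finite.a5b) (b := b₁)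
    (by decide +kernel) (by decide +kernel) (by decide +kernel) (by decide +kernel) (by decide +kernel)
    (by decide +kernel)
  set V := four (e.symm Finite.a5b : P) (e.symm b₁ : P) ha' hb' hab' with hV
  set N := Subgroup.normalizer (V : Set P) with hN
  have ht : (e.symm t₁ : P) ∈ N ⊓ H := ⟨hVn t₁ (by
    rintro x (rfl | rfl) <;> decide +kernel), (e.symm t₁).2⟩
  have hto : orderOf (e.symm t₁ : P) = 3 := by
    haveI := Fact.mk Nat.prime_three
    rw [Subgroup.orderOf_coe, MulEquiv.orderOf_eq]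
    exact orderOf_eq_prime (by decide +kernel) (by decide +kernel)
  have h12 : 12 ∣ Nat.card ↥(N ⊓ H) := by
    refine Nat.Coprime.mul_dvd_of_dvd_of_dvd (m := 4) (n := 3) (by norm_num) ?_ ?_
    · rw [← hV4]; exact Subgroup.card_dvd_of_le (le_inf Subgroup.le_normalizer hVH)
    · rw [← hto, ← Subgroup.orderOf_mk _ ht]; exact orderOf_dvd_natCard _
  have hNH : N ≤ H := by
    have h24 : Nat.card N ≤ 24 := hV24 N fun n hn y hy => (Subgroup.mem_normalizer_iff.1 hn y).1 hy
    have hdN := N.card_subgroup_dvd_card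
    rw [show Nat.card P = 660 by omega] at hdN
    have h12N : 12 ∣ Nat.card N := h12.trans (Subgroup.card_dvd_of_le inf_le_left)
    have hN12 : Nat.card N = 12 := by
      revert hdN h12N
      interval_cases Nat.card N <;> decide
    have := Nat.le_of_dvd Nat.card_pos h12
    exact inf_eq_left.1 (Subgroup.eq_of_le_of_card_ge inf_le_left (by omega))
  refine not_binary_of_small (by omega) (fun g hg => ?_) (by rw [hi]; norm_num [Nat.factorial]; omega)
  haveI : Fact (Nat.Prime 2) := ⟨Nat.prime_two⟩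
  have h4 : ¬ 2 ^ 2 ∣ Nat.card (twoPoint H g) :=
    not_dvd_of_normalizer 2 2 hVH (by rw [hV4]; rfl) (by rw [hc]; norm_num)
      (fun a ha => hNH (Subgroup.mem_normalizer_fintype ha)) hg
  have h5 := not_dvd_of_marked e Finite.markedA5 (by decide +kernel) (by rw [hr, hc]; norm_num) hX hτ h0 ho hle hs₀ hg
  rw [hr] at h5
  have h60 : Nat.card (twoPoint H g) ∣ 5 * 12 := by
    have := Subgroup.card_dvd_of_le (show twoPoint H g ≤ H from inf_le_left)
    rwa [hc] at this
  have hd := ((Nat.Prime.coprime_iff_not_dvd Nat.prime_five).2 h5).symm.dvd_of_dvd_mul_left h60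
  have := Nat.le_of_dvd (by norm_num) hd
  rw [hi, hc]
  revert hd h4
  interval_cases Nat.card (twoPoint H g) <;> norm_num

theorem trace_comm (U X : SL2) : (tr (U * X * U⁻¹ * X⁻¹)) =
    (tr U) ^ 2 + (tr X) ^ 2 + (tr (U * X)) ^ 2 - (tr U) * (tr X) * (tr (U * X)) - 2 := by
  have hu := det_one U
  have hx := det_one X
  show ((U : M2) * (X : M2) * (U : M2).adjugate * (X : M2).adjugate).trace =
    (U : M2).trace ^ 2 + (X : M2).trace ^ 2 + ((U : M2) * (X : M2)).trace ^ 2 -
      (U : M2).trace * (X : M2).trace * ((U : M2) * (X : M2)).trace - 2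
  simp only [SpecialLinearGroup.coe_mul, Matrix.trace_fin_two, Matrix.mul_apply, Fin.sum_univ_two,
    Matrix.adjugate_fin_two, Matrix.of_apply, Matrix.cons_val', Matrix.cons_val_zero, Matrix.cons_val_one,
    Matrix.cons_val_fin_one]
  linear_combination (((U : M2) 0 0 + (U : M2) 1 1) ^ 2 - 2) * hx + (((X : M2) 0 0 + (X : M2) 1 1) ^ 2 -
    2 * ((X : M2) 0 0 * (X : M2) 1 1 - (X : M2) 0 1 * (X : M2) 1 0)) * hu

theorem not_binary_A4_seven [CharP F 7] (e : H ≃* Finite.A4) (hq : Nat.card F = 7) : ¬ BinaryOn H := by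
  classical
  haveI : Fact (Nat.Prime 7) := ⟨by norm_num⟩
  have h7 : (7 : F) = 0 := by simpa using CharP.cast_eq_zero F 7
  have hne0 : ∀ n : ℕ, ¬ 7 ∣ n → (n : F) ≠ 0 := fun n hn => by rwa [Ne, CharP.cast_eq_zero_iff F 7]
  have h2 : (2 : F) ≠ 0 := by simpa using hne0 2 (by norm_num)
  have h3 : (3 : F) ≠ 0 := by simpa using hne0 3 (by norm_num)
  obtain ⟨hz, hc, hP, -⟩ := card_data (n := 12) e card_A4 hq rfl
  norm_num at hP
  have har : Finite.markedA4.a ^ 3 = 1 := by decide +kernel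
  have hr : Finite.markedA4.r = 3 := rfl
  obtain ⟨X, hX, hτ, h0, ho, hT, hle⟩ := exists_marked 7 e Finite.markedA4 (by decide +kernel) (by decide +kernel)
    har (by decide +kernel) hz (fun n hn hd => by rw [hr, hz, hq] at *; omega)
  set x := prH X with hx
  have hxH : x ∈ H := hle (mem_tor_self X)
  -- the four-group and its normaliser
  let b₁ : Finite.A4 := ⟨Equiv.swap 0 2 * Equiv.swap 1 3, Equiv.Perm.mem_alternatingGroup.2 (by decide)⟩
  obtain ⟨ha', hb', hab', hVH, hV4, hV24, hVn⟩ := exists_four h2 e (a := Finite.a4b) (b := b₁)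
    (by decide +kernel) (by decide +kernel) (by decide +kernel) (by decide +kernel) (by decide +kernel)
    (by decide +kernel)
  set a : P := (e.symm Finite.a4b : P) with ha
  set V := four a (e.symm b₁ : P) ha' hb' hab' with hV
  set N := Subgroup.normalizer (V : Set P) with hN
  have ha1 : a ≠ 1 := by
    rw [ha, Ne, OneMemClass.coe_eq_one, EmbeddingLike.map_eq_one_iff]; decide +kernel
  have hHN : H ≤ N := fun y hy => by
    have := hVn (e ⟨y, hy⟩) (by
      generalize e ⟨y, hy⟩ = k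
      rintro w (rfl | rfl) <;> revert k <;> decide +kernel)
    rwa [e.symm_apply_apply] at this
  have hVc : ∀ y ∈ V, y * a = a * y := by
    intro y hy
    have hba : (e.symm b₁ : P) * a = a * e.symm b₁ := hab'.symm
    rcases hy with rfl | rfl | rfl | rfl
    · simp
    · rfl
    · exact hba
    · rw [mul_assoc, hba]
  have hn8 : Nat.card (Subgroup.centralizer ({a} : Set P)) = 8 := by
    rw [card_cz h2 ha' ha1, SL2Inv.card_C h2, hq]; rfl
  have hCN : Subgroup.centralizer ({a} : Set P) ≤ N := fun d hd => Subgroup.mem_normalizer_fintype fun y hy =>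
    conj_mem_of_index_two (fun z hz => Subgroup.mem_centralizer_singleton_iff.2 (hVc z hz))
      (by rw [hn8, hV4]) hd hy
  have hN24 : Nat.card N = 24 := by
    have h8 := Subgroup.card_dvd_of_le hCN
    rw [hn8] at h8
    have h12 := Subgroup.card_dvd_of_le hHN
    rw [hc] at h12
    have hle24 : Nat.card N ≤ 24 := hV24 N fun n hn y hy => (Subgroup.mem_normalizer_iff.1 hn y).1 hy
    have hpos : 0 < Nat.card N := Nat.card_pos
    omega
  set M := Subgroup.normalizer (H : Set P) with hM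
  have hNM : N ≤ M := fun d hd => Subgroup.mem_normalizer_fintype fun y hy =>
    conj_mem_of_index_two hHN (by rw [hN24, hc]) hd hy
  have hHM : H ≤ M := Subgroup.le_normalizer
  have hclass : ∀ k : Finite.A4, k * k ≠ 1 → ∃ l, l * k * l⁻¹ = Finite.a4a ∨ l * k * l⁻¹ = Finite.a4a⁻¹ := by
    decide +kernel
  have hsq : x * x ≠ 1 := sq_ne_one (not_isSc_of_trace hτ) h0
  have classH : ∀ y ∈ H, y * y ≠ 1 → ∃ l ∈ H, l * y * l⁻¹ = x ∨ l * y * l⁻¹ = x⁻¹ := by
    intro y hy hyy
    obtain ⟨l, hl⟩ := hclass (e ⟨y, hy⟩) (fun h => hyy (by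
      have := congrArg (fun z => (e.symm z : P)) h
      simpa [coe_symm_mul] using this))
    refine ⟨e.symm l, (e.symm l).2, ?_⟩
    rw [hX, show Finite.markedA4.a = Finite.a4a from rfl]
    refine hl.imp (fun h => ?_) (fun h => ?_) <;>
      (have h' := congrArg (fun z => (e.symm z : P)) h
       simp only [coe_symm_mul, coe_symm_inv, e.symm_apply_apply] at h'
       simpa using h')
  obtain ⟨d, hdN, hdH⟩ : ∃ d ∈ N, d ∉ H := by
    by_contra h
    push Not at h
    have := Subgroup.card_le_of_le (show N ≤ H from h)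
    omega
  obtain ⟨s, hsM, hsH, hs⟩ : ∃ s ∈ M, s ∉ H ∧ (s * x * s⁻¹ = x ∨ s * x * s⁻¹ = x⁻¹) := by
    have hy : d * x * d⁻¹ ∈ H := (Subgroup.mem_normalizer_iff.1 (hNM hdN) x).1 hxH
    obtain ⟨l, hl, hlx⟩ := classH _ hy (fun h => hsq (by
      rw [show d * x * d⁻¹ * (d * x * d⁻¹) = d * (x * x) * d⁻¹ by group] at h
      exact conj_eq_one_iff.1 h))
    refine ⟨l * d, M.mul_mem (hHM hl) (hNM hdN), fun h => hdH (by simpa using H.mul_mem (H.inv_mem hl) h), ?_⟩
    rw [show l * d * x * (l * d)⁻¹ = l * (d * x * d⁻¹) * l⁻¹ by group]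
    exact hlx
  have hinv : s * x * s⁻¹ = x⁻¹ := hs.resolve_left fun h =>
    hsH (hle (mem_tor_of_commute h0 (mul_inv_eq_iff_eq_mul.1 h)))
  -- conjugates meet the stabiliser in elements of square one
  have hmeet : ∀ g, g ∉ M → ∀ y ∈ H, g⁻¹ * y * g ∈ H → y * y = 1 := by
    intro g hg y hy hy'
    by_contra hyy
    obtain ⟨l₁, hl₁, e₁⟩ := classH y hy hyy
    obtain ⟨l₂, hl₂, e₂⟩ := classH _ hy' (fun h => hyy (by
      rw [show g⁻¹ * y * g * (g⁻¹ * y * g) = g⁻¹ * (y * y) * g by group] at h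
      simpa [mul_assoc, inv_mul_eq_one, eq_comm] using congrArg (fun z => g * z * g⁻¹) h))
    have hn : l₁ * g * l₂⁻¹ ∈ M := by
      refine mem_of_normalising hτ h0 (hle.trans hHM) hsM hinv ?_
      have key : l₁ * g * l₂⁻¹ * (l₂ * (g⁻¹ * y * g) * l₂⁻¹) * (l₁ * g * l₂⁻¹)⁻¹ = l₁ * y * l₁⁻¹ := by group
      have hmem : l₁ * y * l₁⁻¹ ∈ tor X := by
        rcases e₁ with h | h <;> rw [h]
        exacts [mem_tor_self X, (tor X).inv_mem (mem_tor_self X)]
      rcases e₂ with h | h <;> rw [h] at key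
      · rw [key]; exact hmem
      · rw [show l₁ * g * l₂⁻¹ * x * (l₁ * g * l₂⁻¹)⁻¹ = (l₁ * g * l₂⁻¹ * x⁻¹ * (l₁ * g * l₂⁻¹)⁻¹)⁻¹ by group, key]
        exact (tor X).inv_mem hmem
    refine hg ?_
    have := M.mul_mem (M.mul_mem (M.inv_mem (hHM hl₁)) hn) (hHM hl₂)
    simpa [mul_assoc] using this
  -- a lift of trace minus one
  obtain ⟨X', hX', htX⟩ : ∃ X' : SL2, prH X' = x ∧ (tr X') = -1 := by
    have ht2 : (tr X) ^ 2 = 1 := by
      have h3 : prH (X * (X * X)) = 1 := by
        have h := pow_orderOf_eq_one x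
        rw [ho, hr, pow_succ', pow_two] at h
        rw [map_mul, map_mul]; exact h
      obtain ⟨c, hc⟩ := pr_eq_one.1 h3
      have hd := det_one X
      have e10 : ((X : M2) * ((X : M2) * (X : M2))) 1 0 = 0 := by
        show ((X * (X * X) : SL2) : M2) 1 0 = _
        rw [hc]; simp
      have e01 : ((X : M2) * ((X : M2) * (X : M2))) 0 1 = 0 := by
        show ((X * (X * X) : SL2) : M2) 0 1 = _
        rw [hc]; simp
      have e00 : ((X : M2) * ((X : M2) * (X : M2))) 0 0 = c := by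
        show ((X * (X * X) : SL2) : M2) 0 0 = _
        rw [hc]; simp
      have e11 : ((X : M2) * ((X : M2) * (X : M2))) 1 1 = c := by
        show ((X * (X * X) : SL2) : M2) 1 1 = _
        rw [hc]; simp
      simp only [Matrix.mul_apply, Fin.sum_univ_two] at e10 e01 e00 e11
      set t := tr X with ht
      rw [Matrix.trace_fin_two] at ht
      by_contra hne
      have hne' : t ^ 2 - 1 ≠ 0 := sub_ne_zero.2 hne
      refine not_isSc_of_trace hτ (isSc_iff.2 ⟨?_, ?_, ?_⟩)
      · exact (mul_eq_zero.1 (show (X : M2) 0 1 * (t ^ 2 - 1) = 0 by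
          rw [ht]; linear_combination e01 + (X : M2) 0 1 * hd)).resolve_right hne'
      · exact (mul_eq_zero.1 (show (X : M2) 1 0 * (t ^ 2 - 1) = 0 by
          rw [ht]; linear_combination e10 + (X : M2) 1 0 * hd)).resolve_right hne'
      · refine sub_eq_zero.1 ((mul_eq_zero.1 (show ((X : M2) 0 0 - (X : M2) 1 1) * (t ^ 2 - 1) = 0 by
          rw [ht]; linear_combination e00 - e11 + ((X : M2) 0 0 - (X : M2) 1 1) * hd)).resolve_right hne')
    rcases mul_self_eq_one_iff.1 (show (tr X) * (tr X) = 1 by rw [← pow_two, ht2]) with h | h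
    · exact ⟨SL2Inv.negOne * X, by rw [map_mul, PSL2Inv.pr_negOne, one_mul], by rw [trace_negOne_mul, h]⟩
    · exact ⟨X, rfl, h⟩
  have hτ' : (tr X') ^ 2 ≠ 4 := by
    rw [htX, show (-1 : F) ^ 2 = 1 by ring]
    exact fun h => h3 (by linear_combination -h)
  obtain ⟨c, hc0, hconj⟩ := PSL2Products.exists_std (g := X') (not_isScalar_of_trace hτ')
  obtain ⟨y, hy⟩ := isConj_iff.1 hconj
  set T := PSL2Products.std (tr X') c hc0 with hT'
  let U₀ : SL2 := ⟨!![1, 2 / c; 2 * c, -2], by
    rw [Matrix.det_fin_two_of]; field_simp; linear_combination -h7⟩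
  have hU₀ : (tr U₀) = -1 := by simp [U₀, Matrix.trace_fin_two]; ring
  set U := y⁻¹ * U₀ * y with hU
  have hUt : (tr U) = -1 := by
    have := PStable.trace_conj y⁻¹ U₀; rw [inv_inv] at this; rw [hU, this, hU₀]
  have hWt : (tr (U⁻¹ * X')) = -1 := by
    have h := PStable.trace_conj y⁻¹ (U₀⁻¹ * T); rw [inv_inv] at h
    rw [hU, show (y⁻¹ * U₀ * y)⁻¹ * X' = y⁻¹ * (U₀⁻¹ * (y * X' * y⁻¹)) * y by group, hy, h]
    show (U₀.1.adjugate * T.1).trace = -1
    simp [U₀, hT', htX, PSL2Products.std, Matrix.trace_fin_two, Matrix.mul_apply, Fin.sum_univ_two,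
      Matrix.adjugate_fin_two]
    field_simp
    ring
  -- the second factor lies outside the stabiliser
  have hUT : (tr (U₀ * T)) = 2 := by
    show (U₀.1 * T.1).trace = 2
    simp [U₀, hT', htX, PSL2Products.std, Matrix.trace_fin_two, Matrix.mul_apply, Fin.sum_univ_two]
    field_simp
    ring
  have hvH : prH U ∉ H := by
    intro hv
    set C := U₀ * T * U₀⁻¹ * T⁻¹ with hC
    have hCt : (tr C) = 2 := by
      rw [hC, trace_comm, hUT, hU₀, hT', PSL2Products.trace_std, htX]; ring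
    have hne : prH C ≠ 1 := by
      intro h
      rw [hC, map_mul, map_mul, map_mul, map_inv, map_inv, mul_inv_eq_one, mul_inv_eq_iff_eq_mul, ← map_mul,
        ← map_mul] at h
      rcases PSL2Inv.pr_eq_iff.1 h with e' | e' <;> have h10 := congrFun (congrFun (congrArg Subtype.val e') 1) 0
      · change (T.1 * U₀.1) 1 0 = (U₀.1 * T.1) 1 0 at h10
        simp [U₀, hT', htX, PSL2Products.std, Matrix.mul_apply, Fin.sum_univ_two] at h10
        exact hc0 (by linear_combination h10)
      · change (T.1 * U₀.1) 1 0 = ((SL2Inv.negOne : SL2).1 * (U₀.1 * T.1)) 1 0 at h10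
        simp [U₀, hT', htX, SL2Inv.coe_negOne, PSL2Products.std, Matrix.mul_apply, Fin.sum_univ_two] at h10
        exact hc0 ((mul_eq_zero.1 (show (3 : F) * c = 0 by linear_combination -h10)).resolve_left h3)
    have hC7 : prH C ^ 7 = 1 := by
      by_contra h
      exact (semis_of_pow 7 h).2 (by rw [hCt]; norm_num)
    set c' := (prH y)⁻¹ * prH C * prH y with hc'
    have hcH : c' ∈ H := by
      have := H.mul_mem (H.mul_mem (H.mul_mem hv hxH) (H.inv_mem hv)) (H.inv_mem hxH)
      rw [← hX'] at this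
      rwa [hc', hC, ← map_inv, ← map_mul, ← map_mul,
        show y⁻¹ * (U₀ * T * U₀⁻¹ * T⁻¹) * y = U * X' * U⁻¹ * X'⁻¹ by rw [hU, ← hy]; group,
        map_mul, map_mul, map_mul, map_inv, map_inv]
    have hc7 : c' ^ 7 = 1 := by
      have := conj_pow (i := 7) (a := (prH y)⁻¹) (b := prH C)
      rw [inv_inv] at this
      rw [hc', this, hC7, mul_one, inv_mul_cancel]
    have h1 : orderOf c' ∣ 7 := orderOf_dvd_of_pow_eq_one hc7
    have h12 : orderOf c' ∣ 12 := by
      rw [← hc, ← Subgroup.orderOf_mk c' hcH]; exact orderOf_dvd_natCard _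
    have h11 : orderOf c' = 1 := Nat.dvd_one.1 (by simpa using Nat.dvd_gcd h1 h12)
    refine hne ?_
    rw [orderOf_eq_one_iff, hc'] at h11
    calc prH C = prH y * ((prH y)⁻¹ * prH C * prH y) * (prH y)⁻¹ := by group
      _ = 1 := by rw [h11]; group
  have hwH : prH (U⁻¹ * X') ∉ H := fun h => hvH (by
    have := H.mul_mem hxH (H.inv_mem h)
    rw [← hX', map_mul, map_inv] at this
    simpa using this)
  -- conjugates of the stabiliser through the two factors
  have out : ∀ Y : SL2, (tr Y) = -1 → prH Y ∉ H → ∃ g, g ∉ M ∧ g⁻¹ * prH Y * g ∈ H := by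
    intro Y hY hYH
    obtain ⟨g, hg⟩ := exists_conj_of_trace hτ' (show (tr Y) = tr X' by rw [hY, htX])
    refine ⟨prH g, fun hgM => hYH ?_, ?_⟩
    · rw [← hg, map_mul, map_mul, map_inv, hX']
      exact (Subgroup.mem_normalizer_iff.1 hgM x).1 hxH
    · rw [← hg, map_mul, map_mul, map_inv, hX', show (prH g)⁻¹ * (prH g * x * (prH g)⁻¹) * prH g = x by group]
      exact hxH
  obtain ⟨g₂, hg₂M, hg₂⟩ := out U hUt hvH
  obtain ⟨g₃, hg₃M, hg₃⟩ := out _ hWt hwH
  refine not_binary_of_disjoint g₂ g₃ (u := x) hxH hg₂ hg₃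
    (by rw [← map_mul, mul_inv_cancel_left, hX']) fun u v hu hu' hv hv' huv => ?_
  have hsqΓ : ∀ k l : Finite.A4, k * k = 1 → l * l = 1 → k * l * (k * l) = 1 := by decide +kernel
  have := congrArg (fun z => (e.symm z : P)) (hsqΓ (e ⟨u, hu⟩) (e ⟨v, hv⟩)
    (by rw [← map_mul, show (⟨u, hu⟩ * ⟨u, hu⟩ : H) = 1 from Subtype.ext (hmeet g₂ hg₂M u hu hu'), map_one])
    (by rw [← map_mul, show (⟨v, hv⟩ * ⟨v, hv⟩ : H) = 1 from Subtype.ext (hmeet g₃ hg₃M v hv hv'), map_one]))
  simp only [coe_symm_mul, e.symm_apply_apply, map_one, OneMemClass.coe_one] at this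
  exact hsq (by rw [← huv]; exact this)

end Cfsg.Agent.PSL2Binary
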