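import Cfsg.Agent.Lib.PSL2Binary.Basic
import Cfsg.Agent.Lib.FGStruct.AltPair
import Mathlib.GroupTheory.Sylow

/-!
Group-theoretic lemmas for point stabilisers of small index.
-/

set_option autoImplicit false
set_option linter.style.haveILetI false

namespace Cfsg.Agent.PSL2Binary.Small

open Cfsg.Agent.SzBinary

variable {G : Type*} [Group G]

/-- The stabiliser of a second point. -/
def twoPoint (H : Subgroup G) (g : G) : Subgroup G := H ⊓ H.map (MulAut.conj g).toMonoidHom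

theorem mem_twoPoint {H : Subgroup G} {g a : G} : a ∈ twoPoint H g ↔ a ∈ H ∧ g⁻¹ * a * g ∈ H := by
  rw [twoPoint, Subgroup.mem_inf, Subgroup.mem_map_equiv]
  simp [mul_assoc]

theorem reach_of_small [Finite G] {H : Subgroup G} {g₁ g₂ : G} (hg₁ : g₁ ∉ H) (hg₂ : g₂ ∉ H)
    (h : Nat.card (twoPoint H g₁) * (H.index - 1) ≤ Nat.card H) : ∃ k ∈ H, g₂⁻¹ * k * g₁ ∈ H := by
  by_contra hno
  push Not at hno
  haveI : Finite (G ⧸ H) := Quotient.finite _
  set o := MulAction.orbit H ((g₁ : G) : G ⧸ H) with ho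
  have hst : MulAction.stabilizer H ((g₁ : G) : G ⧸ H) = (twoPoint H g₁).subgroupOf H := by
    ext a
    rw [MulAction.mem_stabilizer_iff, Subgroup.mem_subgroupOf, mem_twoPoint]
    change (a : G) • ((g₁ : G) : G ⧸ H) = _ ↔ _
    rw [MulAction.Quotient.smul_coe, eq_comm, QuotientGroup.eq, smul_eq_mul, ← mul_assoc]
    simp [a.2]
  have hcard : Nat.card (twoPoint H g₁) * o.ncard = Nat.card H := by
    rw [ho, ← MulAction.index_stabilizer, hst,
      ← Nat.card_congr (Subgroup.subgroupOfEquivOfLe (show twoPoint H g₁ ≤ H from inf_le_left)).toEquiv,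
      Subgroup.card_mul_index]
  have hne : ((1 : G) : G ⧸ H) ≠ ((g₂ : G) : G ⧸ H) := by
    rw [Ne, QuotientGroup.eq]; simpa using hg₂
  have hsub : o ⊆ ({((1 : G) : G ⧸ H), ((g₂ : G) : G ⧸ H)} : Set (G ⧸ H))ᶜ := by
    rintro _ ⟨k, rfl⟩ hk
    have hk' : k • ((g₁ : G) : G ⧸ H) = (((k : G) * g₁ : G) : G ⧸ H) := rfl
    simp only [hk'] at hk
    rcases hk with h1 | h1
    · rw [QuotientGroup.eq, mul_one] at h1
      refine hg₁ ?_
      simpa using H.mul_mem (H.inv_mem k.2) (show (k : G) * g₁ ∈ H by simpa using H.inv_mem h1)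
    · rw [Set.mem_singleton_iff, QuotientGroup.eq] at h1
      exact hno k k.2 (by simpa [mul_assoc] using H.inv_mem h1)
  have ho2 := Set.ncard_le_ncard hsub (Set.toFinite _)
  rw [Set.ncard_compl, Set.ncard_pair hne, ← Subgroup.index_eq_card] at ho2
  have hpos : 0 < Nat.card (twoPoint H g₁) := Nat.card_pos
  have h1 := h
  rw [← hcard] at h1
  have h2 := Nat.le_of_mul_le_mul_left h1 hpos
  have h3 : 0 < o.ncard := (Set.ncard_pos (Set.toFinite _)).2 ⟨_, MulAction.mem_orbit_self _⟩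
  omega

theorem transitive_of_small [Finite G] {H : Subgroup G}
    (h : ∀ g, g ∉ H → Nat.card (twoPoint H g) * (H.index - 1) ≤ Nat.card H) :
    ∀ g₁ g₂ : G, g₁ ∉ H → g₂ ∉ H → ∃ k ∈ H, g₂⁻¹ * k * g₁ ∈ H :=
  fun g₁ _ hg₁ hg₂ => reach_of_small hg₁ hg₂ (h g₁ hg₁)

/-- One orbit filling the other points makes the action doubly transitive. -/
theorem transitive_of_one [Finite G] {H : Subgroup G} {g₀ : G} (hg₀ : g₀ ∉ H)
    (h : Nat.card (twoPoint H g₀) * (H.index - 1) ≤ Nat.card H) :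
    ∀ g₁ g₂ : G, g₁ ∉ H → g₂ ∉ H → ∃ k ∈ H, g₂⁻¹ * k * g₁ ∈ H := by
  intro g₁ g₂ hg₁ hg₂
  obtain ⟨k, hk, hk'⟩ := reach_of_small hg₀ hg₂ h
  obtain ⟨l, hl, hl'⟩ := reach_of_small hg₀ hg₁ h
  refine ⟨k * l⁻¹, H.mul_mem hk (H.inv_mem hl), ?_⟩
  simpa [mul_assoc] using H.mul_mem hk' (H.inv_mem hl')

theorem not_binary_of_small [Finite G] {H : Subgroup G} (hi : 2 ≤ H.index)
    (h : ∀ g, g ∉ H → Nat.card (twoPoint H g) * (H.index - 1) ≤ Nat.card H)
    (hG : Nat.card G < H.index.factorial) : ¬ BinaryOn H := fun hb => by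
  have := factorial_index_le hb hi (transitive_of_small h)
  omega

/-- A Sylow subgroup of the stabiliser whose normaliser lies in the stabiliser fixes only one point. -/
theorem not_dvd_of_normalizer [Finite G] {H : Subgroup G} (p n : ℕ) [Fact p.Prime] {T₀ : Subgroup G}
    (hT₀ : T₀ ≤ H) (hc : Nat.card T₀ = p ^ n) (hn : ¬ p ^ (n + 1) ∣ Nat.card H)
    (hN : ∀ a : G, (∀ y ∈ T₀, a * y * a⁻¹ ∈ T₀) → a ∈ H) {g : G} (hg : g ∉ H) :
    ¬ p ^ n ∣ Nat.card (twoPoint H g) := by
  intro hd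
  obtain ⟨T, hT⟩ := Sylow.exists_subgroup_card_pow_prime p hd
  set U : Subgroup G := T.map (twoPoint H g).subtype with hU
  have hUc : Nat.card U = p ^ n := by
    rw [hU, Subgroup.card_map_of_injective (Subgroup.subtype_injective _), hT]
  have hUK : ∀ y ∈ U, y ∈ twoPoint H g := by
    rintro _ ⟨y, -, rfl⟩; exact y.2
  set V : Subgroup G := U.map (MulAut.conj g⁻¹).toMonoidHom with hV
  have hVc : Nat.card V = p ^ n := by
    rw [hV, Subgroup.card_map_of_injective (MulAut.conj g⁻¹).injective, hUc]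
  have hUH : U ≤ H := fun y hy => (mem_twoPoint.1 (hUK y hy)).1
  have hVH : V ≤ H := by
    rintro _ ⟨y, hy, rfl⟩
    simpa [mul_assoc] using (mem_twoPoint.1 (hUK y hy)).2
  have conj : ∀ W : Subgroup G, W ≤ H → Nat.card W = p ^ n → ∃ k ∈ H, ∀ y, y ∈ W ↔ k⁻¹ * y * k ∈ T₀ := by
    intro W hW hWc
    have mk : ∀ W' : Subgroup G, W' ≤ H → Nat.card W' = p ^ n → ∃ S : Sylow p H, (S : Subgroup H) = W'.subgroupOf H := by
      intro W' hW' hW'c
      have hc' : Nat.card (W'.subgroupOf H) = p ^ n := by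
        rw [Nat.card_congr (Subgroup.subgroupOfEquivOfLe hW').toEquiv, hW'c]
      refine ⟨IsPGroup.toSylow (IsPGroup.of_card hc') fun hdvd => hn ?_, rfl⟩
      rw [← (W'.subgroupOf H).card_mul_index, hc', pow_succ]
      exact Nat.mul_dvd_mul_left _ hdvd
    obtain ⟨S, hS⟩ := mk T₀ hT₀ hc
    obtain ⟨S', hS'⟩ := mk W hW hWc
    obtain ⟨k, hk⟩ := MulAction.exists_smul_eq H S S'
    refine ⟨k, k.2, fun y => ⟨fun hy => ?_, fun hy => ?_⟩⟩
    · have h1 : (⟨y, hW hy⟩ : H) ∈ (S' : Subgroup H) := by rw [hS', Subgroup.mem_subgroupOf]; exact hy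
      rw [← hk, Sylow.coe_subgroup_smul, Subgroup.mem_pointwise_smul_iff_inv_smul_mem] at h1
      rw [hS, Subgroup.mem_subgroupOf] at h1
      simpa [mul_assoc] using h1
    · have hyH : y ∈ H := by
        have := H.mul_mem (H.mul_mem k.2 (hT₀ hy)) (H.inv_mem k.2)
        simpa [mul_assoc] using this
      have h1 : (⟨y, hyH⟩ : H) ∈ (S' : Subgroup H) := by
        rw [← hk, Sylow.coe_subgroup_smul, Subgroup.mem_pointwise_smul_iff_inv_smul_mem, hS,
          Subgroup.mem_subgroupOf]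
        simpa [mul_assoc] using hy
      rw [hS', Subgroup.mem_subgroupOf] at h1
      exact h1
  obtain ⟨k, hk, hkU⟩ := conj U hUH hUc
  obtain ⟨l, hl, hlV⟩ := conj V hVH hVc
  refine hg ?_
  have ha := hN (l⁻¹ * g⁻¹ * k) fun y hy => by
    have h1 : k * y * k⁻¹ ∈ U := (hkU _).2 (by simpa [mul_assoc] using hy)
    have h2 : g⁻¹ * (k * y * k⁻¹) * g ∈ V := ⟨_, h1, by simp⟩
    simpa [mul_assoc] using (hlV _).1 h2
  have := H.mul_mem (H.mul_mem hl ha) (H.inv_mem hk)
  simpa [mul_assoc] using this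

/-- The normal core of a proper subgroup of a simple group is trivial. -/
theorem eq_one_of_conj_mem [IsSimpleGroup G] {H : Subgroup G} (hH : H ≠ ⊤) {b : G}
    (hb : ∀ g : G, g⁻¹ * b * g ∈ H) : b = 1 := by
  rcases (inferInstance : (H.normalCore).Normal).eq_bot_or_eq_top with h | h
  · have : b ∈ H.normalCore := fun c => by simpa using hb c⁻¹
    rwa [h, Subgroup.mem_bot] at this
  · exact absurd (top_le_iff.1 (h ▸ H.normalCore_le)) hH

/-- A four-group from two commuting involutions. -/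
def four (a b : G) (ha : a * a = 1) (hb : b * b = 1) (hab : a * b = b * a) : Subgroup G where
  carrier := {y | y = 1 ∨ y = a ∨ y = b ∨ y = a * b}
  one_mem' := Or.inl rfl
  mul_mem' := by
    have e1 : a * (a * b) = b := by rw [← mul_assoc, ha, one_mul]
    have e2 : a * b * a = b := by rw [mul_assoc, ← hab, ← mul_assoc, ha, one_mul]
    have e3 : b * (a * b) = a := by rw [← mul_assoc, ← hab, mul_assoc, hb, mul_one]
    have e4 : a * b * b = a := by rw [mul_assoc, hb, mul_one]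
    have e5 : a * b * (a * b) = 1 := by rw [← mul_assoc, e2, hb]
    rintro x y (rfl | rfl | rfl | rfl) (rfl | rfl | rfl | rfl) <;>
      simp only [Set.mem_setOf_eq, one_mul, mul_one, ha, hb, hab.symm, e1, e2, e3, e4, e5, true_or, or_true]
  inv_mem' := by
    have e : (a * b)⁻¹ = a * b := by
      rw [_root_.mul_inv_rev, inv_eq_of_mul_eq_one_left ha, inv_eq_of_mul_eq_one_left hb, hab]
    rintro x (rfl | rfl | rfl | rfl) <;>
      simp only [Set.mem_setOf_eq, inv_one, inv_eq_of_mul_eq_one_left ha, inv_eq_of_mul_eq_one_left hb, e,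
        true_or, or_true]

theorem mem_four {a b : G} {ha : a * a = 1} {hb : b * b = 1} {hab : a * b = b * a} {y : G} :
    y ∈ four a b ha hb hab ↔ y = 1 ∨ y = a ∨ y = b ∨ y = a * b := Iff.rfl

theorem card_four {a b : G} {ha : a * a = 1} {hb : b * b = 1} {hab : a * b = b * a} (ha1 : a ≠ 1) (hb1 : b ≠ 1)
    (hne : a ≠ b) : Nat.card (four a b ha hb hab) = 4 := by
  have hab1 : a * b ≠ 1 := fun h =>
    hne ((eq_inv_of_mul_eq_one_left h).trans (inv_eq_of_mul_eq_one_left hb))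
  show Nat.card ({y | y = 1 ∨ y = a ∨ y = b ∨ y = a * b} : Set G) = 4
  rw [Nat.card_coe_set_eq,
    show ({y | y = 1 ∨ y = a ∨ y = b ∨ y = a * b} : Set G) = {1, a, b, a * b} from rfl,
    Set.ncard_insert_of_notMem (by simp [Ne.symm ha1, Ne.symm hb1, Ne.symm hab1]) (Set.toFinite _),
    Set.ncard_insert_of_notMem (by simp [hne, hb1]) (Set.toFinite _),
    Set.ncard_pair (by simpa using ha1)]

/-- Conjugation carrying a four-group into itself. -/
theorem conj_mem_four {a b : G} {ha : a * a = 1} {hb : b * b = 1} {hab : a * b = b * a} {n : G}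
    (h1 : n * a * n⁻¹ ∈ four a b ha hb hab) (h2 : n * b * n⁻¹ ∈ four a b ha hb hab) {y : G}
    (hy : y ∈ four a b ha hb hab) : n * y * n⁻¹ ∈ four a b ha hb hab := by
  rcases hy with rfl | rfl | rfl | rfl
  · simpa using (four a b ha hb hab).one_mem
  · exact h1
  · exact h2
  · rw [show n * (a * b) * n⁻¹ = n * a * n⁻¹ * (n * b * n⁻¹) by group]
    exact (four a b ha hb hab).mul_mem h1 h2

/-- A four-group equal to its centralizer is normalised by at most 24 elements. -/
theorem card_le_24 [Finite G] {a b : G} {ha : a * a = 1} {hb : b * b = 1} {hab : a * b = b * a}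
    (ha1 : a ≠ 1) (hb1 : b ≠ 1) (hne : a ≠ b)
    (hcent : ∀ c, c * a = a * c → c * b = b * c → c ∈ four a b ha hb hab) {N : Subgroup G}
    (hN : ∀ n ∈ N, ∀ y ∈ four a b ha hb hab, n * y * n⁻¹ ∈ four a b ha hb hab) : Nat.card N ≤ 24 := by
  classical
  haveI := Fintype.ofFinite G
  let s : Finset G := Finset.univ.filter (· ∈ N)
  let f : G → G × G := fun n => (n * a * n⁻¹, n * b * n⁻¹)
  let A : Finset (G × G) := {(a, b), (a, a * b), (b, a), (b, a * b), (a * b, a), (a * b, b)}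
  have hval : ∀ n ∈ s, ∀ x, (x = a ∨ x = b) → n * x * n⁻¹ = a ∨ n * x * n⁻¹ = b ∨ n * x * n⁻¹ = a * b := by
    intro n hn x hx
    have hx1 : x ≠ 1 := by rcases hx with rfl | rfl <;> assumption
    refine (hN n (Finset.mem_filter.1 hn).2 x ?_).resolve_left fun h => hx1 (conj_eq_one_iff.1 h)
    rcases hx with rfl | rfl
    · exact Or.inr (Or.inl rfl)
    · exact Or.inr (Or.inr (Or.inl rfl))
  have himg : s.image f ⊆ A := by
    intro p hp
    obtain ⟨n, hn, rfl⟩ := Finset.mem_image.1 hp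
    have hd : n * a * n⁻¹ ≠ n * b * n⁻¹ := fun h => hne (mul_left_cancel (mul_right_cancel h))
    simp only [A, f, Finset.mem_insert, Finset.mem_singleton, Prod.mk.injEq]
    rcases hval n hn a (Or.inl rfl) with e | e | e <;> rcases hval n hn b (Or.inr rfl) with e' | e' | e' <;>
      first
      | exact absurd (e.trans e'.symm) hd
      | (rw [e, e']; tauto)
  have hfib : ∀ p ∈ s.image f, (s.filter fun n => f n = p).card ≤ 4 := by
    intro p hp
    obtain ⟨n₀, -, rfl⟩ := Finset.mem_image.1 hp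
    refine (Finset.card_le_card (t := ({1, a, b, a * b} : Finset G).image (n₀ * ·)) fun n hn => ?_).trans
      (Finset.card_image_le.trans Finset.card_le_four)
    obtain ⟨-, hn⟩ := Finset.mem_filter.1 hn
    simp only [f, Prod.mk.injEq] at hn
    have hc : ∀ x, n * x * n⁻¹ = n₀ * x * n₀⁻¹ → (n₀⁻¹ * n) * x = x * (n₀⁻¹ * n) := fun x h => by
      calc n₀⁻¹ * n * x = n₀⁻¹ * (n * x * n⁻¹) * n := by group
        _ = x * (n₀⁻¹ * n) := by rw [h]; group
    refine Finset.mem_image.2 ⟨n₀⁻¹ * n, ?_, mul_inv_cancel_left _ _⟩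
    rcases hcent _ (hc a hn.1) (hc b hn.2) with h | h | h | h <;> simp [h]
  have h1 := Finset.card_le_mul_card_image s 4 hfib
  have h2 : (s.image f).card ≤ 6 := (Finset.card_le_card himg).trans Finset.card_le_six
  have h3 : Nat.card N = s.card := by rw [Nat.card_eq_fintype_card, Fintype.card_subtype]
  omega

end Cfsg.Agent.PSL2Binary.Small
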